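import Cfsg.Agent.Lib.Classical.TensorThreeFour.Blocks
import Cfsg.Agent.Lib.Classical.DiscType
import Cfsg.Agent.Lib.Classical.OrthPOmega

/-!
# The reflection of the first factor has non-square spinor norm
-/

set_option autoImplicit false
set_option linter.unusedSectionVars false

namespace Cfsg.Agent.Classical.TThreeFour

open Matrix Module QuadraticMap Cfsg.Geo
open Cfsg.Agent.Classical Cfsg.Agent.Classical.TensorMax Cfsg.Agent.Classical.TensorMax.Form
open Cfsg.Agent.Classical.TensorMax.OO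
open Cfsg.Agent.Classical.OCount (PND)
open Cfsg.Agent.Classical.ORefl (Iso refl refl_apply toMat)
open Cfsg.Agent.Classical.OOmega (rf)
open scoped Kronecker

variable {F : Type*} [Field F] [Fintype F] {ι : Type} [Fintype ι] [DecidableEq ι]
variable {fb : (Fin 4 → F) → (Fin 4 → F) → F}

local notation "VA" => Fin 3 → F
local notation "VB" => Fin 4 → F
local notation "κ" => Fin 3 × Fin 4

/-- Membership of the commutator subgroup. -/
theorem mem_omega_iff {Q : QuadraticForm F (ι → F)} (h2 : (2 : F) ≠ 0) (hQ : PND Q) (hn : 2 ≤ Fintype.card ι)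
    (G : ↥(Iso Q)) : (toMat Q G).1 ∈ omegaGL ⇑Q ↔ OOmega.both Q h2 hQ G = 1 := by
  have hn' : 2 ≤ finrank F (ι → F) := by rwa [Module.finrank_fintype_fun_eq_card]
  rw [← MonoidHom.mem_ker, ← OOmega.commutator_eq h2 hQ hn', omegaGL, OOmega.omega_eq_map]
  constructor
  · rintro ⟨z, ⟨G', hG', rfl⟩, hz⟩
    exact (toMat Q).injective (Subtype.ext hz) ▸ hG'
  · exact fun h => ⟨_, ⟨G, h, rfl⟩, rfl⟩

/-- An orthogonal basis of a four space without halves has non-square product. -/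
theorem disc_nonsquare (H : IsReflexForm (RingEquiv.refl F) 1 fb) (h2 : (2 : F) ≠ 0)
    (hminus : ¬ IsPlusTypeOn (fun v : Fin 4 → F => fb v v) ⊤) :
    ∃ b : Basis (Fin 4) F (Fin 4 → F), (∀ i j, i ≠ j → fb (b i) (b j) = 0) ∧ (∀ i, fb (b i) (b i) ≠ 0) ∧
      ¬ IsSquare (∏ i, fb (b i) (b i)) := by
  classical
  obtain ⟨B, hB⟩ : ∃ B : LinearMap.BilinForm F VB, ∀ x y, B x y = fb x y :=
    ⟨LinearMap.mk₂ F fb (fun a b c => ladd H a b c) (fun c a b => lsmul H c a b) (fun a b c => radd H a b c)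
      (fun c a b => rsmul H c a b), fun _ _ => rfl⟩
  have hs : B.IsSymm := ⟨fun x y => by rw [hB, hB]; exact symm' H y x⟩
  have hnd : B.Nondegenerate := by
    refine ⟨fun x hx => ?_, fun x hx => ?_⟩ <;> by_contra h0
    · obtain ⟨y, hy⟩ := (H.nondeg x h0).2
      exact hy (by rw [← hB, hx])
    · obtain ⟨y, hy⟩ := (H.nondeg x h0).1
      exact hy (by rw [← hB, hx])
  obtain ⟨b', ho, hne⟩ := DiscType.exists_basis h2 hs hnd
  obtain ⟨b, hb⟩ : ∃ b, b = b'.reindex (finCongr (Module.finrank_fin_fun (n := 4) F)) := ⟨_, rfl⟩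
  have ho' : ∀ i j, i ≠ j → B (b i) (b j) = 0 := fun i j hij => by
    rw [hb, Basis.reindex_apply, Basis.reindex_apply]
    exact ho _ _ fun h => hij ((Equiv.injective _) h)
  have hne' : ∀ i, B (b i) (b i) ≠ 0 := fun i => by rw [hb, Basis.reindex_apply]; exact hne _
  refine ⟨b, fun i j h => by rw [← hB]; exact ho' i j h, fun i => by rw [← hB]; exact hne' i, fun hsq => hminus ?_⟩
  obtain ⟨U, hU, h0⟩ := (DiscType.half_iff h2 hs (N := 2) (by simp) b ho' hne').mpr (by
    simp only [hB, neg_one_sq, one_mul]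
    exact hsq)
  exact ⟨U, le_top, fun x hx => by show fb x x = 0; rw [← hB]; exact h0 x hx x hx,
    by rw [hU, finrank_top, Module.finrank_fin_fun]⟩

/-- The reflection of the first factor, as an isometry, lies outside. -/
theorem exists_refl_iso (h2 : (2 : F) ≠ 0) {Q : QuadraticForm F (ι → F)} (hQ : PND Q) (hn : 2 ≤ Fintype.card ι)
    (H : IsReflexForm (RingEquiv.refl F) 1 fb) (hminus : ¬ IsPlusTypeOn (fun v : Fin 4 → F => fb v v) ⊤)
    (T : (κ → F) →ₗ[F] (ι → F)) (hTsurj : Function.Surjective T) {k : F} (hk : k ≠ 0)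
    (hT : ∀ x y, polar Q (T x) (T y) = k * tf (RingEquiv.refl F) (dot F) fb x y) :
    ∃ δ : ℤˣ × ℤˣ, δ ≠ 1 ∧ δ * δ = 1 ∧ ∀ v : VA, v ⬝ᵥ v ≠ 0 → ∃ G : ↥(Iso Q), OOmega.both Q h2 hQ G = δ ∧
      ∀ x, G.1 (T x) = T (((kr (rr v) (1 : GL (Fin 4) F) : GL κ F) : Matrix κ κ F) *ᵥ x) := by
  classical
  obtain ⟨b, ho, hne, hdisc⟩ := disc_nonsquare H h2 hminus
  have hn' : 2 ≤ finrank F (ι → F) := by rwa [Module.finrank_fintype_fun_eq_card]
  have hD : Data (RingEquiv.refl F) 1 1 (dot F) fb := ⟨dot_reflex, H⟩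
  refine ⟨((1 : ℤˣ), (-1 : ℤˣ)), by decide, by decide, fun v hv => ?_⟩
  obtain ⟨w, hw⟩ : ∃ w : Fin 4 → ι → F, ∀ i, w i = T (tm v (b i)) := ⟨_, fun _ => rfl⟩
  have hQw : ∀ i, Q (w i) = 2⁻¹ * k * (v ⬝ᵥ v) * fb (b i) (b i) := fun i => by
    have h := hT (tm v (b i)) (tm v (b i))
    rw [← hw, ORefl.polar_self_two, tf_tm hD] at h
    change 2 * Q (w i) = k * ((v ⬝ᵥ v) * fb (b i) (b i)) at h
    field_simp
    linear_combination h
  have hQw0 : ∀ i, Q (w i) ≠ 0 := fun i => by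
    rw [hQw]
    exact mul_ne_zero (mul_ne_zero (mul_ne_zero (inv_ne_zero h2) hk) hv) (hne i)
  have act : ∀ i j (a : VA), (rf Q (w i)).1 (T (tm a (b j))) =
      if i = j then T (tm ((rr v : Matrix (Fin 3) (Fin 3) F) *ᵥ a) (b j)) else T (tm a (b j)) := by
    intro i j a
    show refl Q (w i) (T (tm a (b j))) = _
    rw [refl_apply, hQw, hw, hT, tf_tm hD]
    by_cases hij : i = j
    · subst hij
      rw [if_pos rfl, rr_apply, tm_sub_left, tm_smul_left, map_sub, map_smul]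
      congr 2
      show (2⁻¹ * k * (v ⬝ᵥ v) * fb (b i) (b i))⁻¹ * (k * ((v ⬝ᵥ a) * fb (b i) (b i))) = _
      have := hne i
      field_simp
    · rw [if_neg hij, ho i j hij, mul_zero, mul_zero, mul_zero, zero_smul, sub_zero]
  refine ⟨rf Q (w 0) * rf Q (w 1) * rf Q (w 2) * rf Q (w 3), ?_, ?_⟩
  · refine Prod.ext ?_ ?_
    · show OOmega.dsign h2 hQ _ = 1
      rw [map_mul, map_mul, map_mul, OOmega.dsign_rf h2 hQ (hQw0 0), OOmega.dsign_rf h2 hQ (hQw0 1),
        OOmega.dsign_rf h2 hQ (hQw0 2), OOmega.dsign_rf h2 hQ (hQw0 3)]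
      decide
    · show OOmega.spinor Q _ = -1
      have hc : ringChar F ≠ 2 := fun h => h2 (by
        have := ringChar.of_eq h
        exact_mod_cast CharP.cast_eq_zero F 2)
      have hsp : ∀ i, ((OOmega.spinor Q (rf Q (w i)) : ℤˣ) : ℤ) = quadraticChar F (Q (w i)) := fun i => by
        rcases Int.units_eq_one_or (OOmega.spinor Q (rf Q (w i))) with e | e
        · rw [e, Units.val_one, (quadraticChar_one_iff_isSquare (hQw0 i)).mpr
            ((OOmega.spinor_rf h2 hQ hn' (hQw0 i)).mp e)]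
        · have hns : ¬ IsSquare (Q (w i)) := fun hs => by
            have := (OOmega.spinor_rf h2 hQ hn' (hQw0 i)).mpr hs
            rw [e] at this
            exact absurd this (by decide)
          rw [e, quadraticChar_neg_one_iff_not_isSquare.mpr hns]
          rfl
      refine Units.ext ?_
      rw [map_mul, map_mul, map_mul, Units.val_mul, Units.val_mul, Units.val_mul, hsp, hsp, hsp, hsp, ← map_mul,
        ← map_mul, ← map_mul, Units.val_neg, Units.val_one, quadraticChar_neg_one_iff_not_isSquare]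
      intro hs
      refine hdisc ?_
      obtain ⟨a, ha⟩ := hs
      refine ⟨a / ((2⁻¹ * k * (v ⬝ᵥ v)) * (2⁻¹ * k * (v ⬝ᵥ v))), ?_⟩
      rw [hQw, hQw, hQw, hQw] at ha
      rw [Fin.prod_univ_four]
      field_simp at ha ⊢
      linear_combination ha
  · intro x
    have key : ∀ j a, (rf Q (w 0) * rf Q (w 1) * rf Q (w 2) * rf Q (w 3)).1 (T (tm a (b j))) =
        T (tm ((rr v : Matrix (Fin 3) (Fin 3) F) *ᵥ a) (b j)) := by
      intro j a
      show (rf Q (w 0)).1 ((rf Q (w 1)).1 ((rf Q (w 2)).1 ((rf Q (w 3)).1 (T (tm a (b j)))))) = _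
      fin_cases j <;> simp [act]
    have key' : ∀ a c, (rf Q (w 0) * rf Q (w 1) * rf Q (w 2) * rf Q (w 3)).1 (T (tm a c)) =
        T (tm ((rr v : Matrix (Fin 3) (Fin 3) F) *ᵥ a) c) := by
      intro a c
      conv_lhs => rw [← b.sum_repr c]
      conv_rhs => rw [← b.sum_repr c]
      have hsum : ∀ (z : VA) (g : Fin 4 → VB), tm z (∑ i, g i) = ∑ i, tm z (g i) := fun z g =>
        map_sum (AddMonoidHom.mk' (fun c => tm z c) (tm_add_right z)) g Finset.univ
      simp only [hsum, map_sum, tm_smul_right, map_smul, key]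
    rw [Form.sum_rows x]
    simp only [map_sum, key', Matrix.mulVec_sum, kr_tm, Units.val_one, Matrix.one_mulVec]

end Cfsg.Agent.Classical.TThreeFour
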