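import Mathlib

/-!
# Orthogonal matrices of the dot product in three variables
-/

set_option autoImplicit false
set_option linter.unusedSectionVars false

namespace Cfsg.Agent.Classical.TThreeFour

open Matrix

variable {F : Type*} [Field F]

local notation "M3" => Matrix (Fin 3) (Fin 3) F
local notation "VA" => Fin 3 → F
local notation:max g:max " •₃ " x:max => ((g : GL (Fin 3) F) : Matrix (Fin 3) (Fin 3) F) *ᵥ x

/-- The projection on a line. -/
def pr (u : Fin 3 → F) : Matrix (Fin 3) (Fin 3) F := (u ⬝ᵥ u)⁻¹ • Matrix.vecMulVec u u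

theorem pr_apply (u x : VA) : pr u *ᵥ x = ((u ⬝ᵥ u)⁻¹ * (u ⬝ᵥ x)) • u := by
  rw [pr, Matrix.smul_mulVec, Matrix.vecMulVec_mulVec, op_smul_eq_smul, smul_smul]

theorem pr_mul_self (u : VA) : pr u * pr u = pr u := by
  refine Matrix.ext_iff_mulVec.mpr fun x => ?_
  simp only [← Matrix.mulVec_mulVec, pr_apply, dotProduct_smul, smul_eq_mul, smul_smul]
  congr 1
  by_cases h : u ⬝ᵥ u = 0
  · simp [h]
  · field_simp

theorem pr_self {u : VA} (hu : u ⬝ᵥ u ≠ 0) : pr u *ᵥ u = u := by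
  rw [pr_apply, inv_mul_cancel₀ hu, one_smul]

theorem pr_perp {u x : VA} (h : u ⬝ᵥ x = 0) : pr u *ᵥ x = 0 := by
  rw [pr_apply, h, mul_zero, zero_smul]

theorem pr_smul {c : F} (hc : c ≠ 0) (u : VA) : pr (c • u) = pr u := by
  refine Matrix.ext_iff_mulVec.mpr fun x => ?_
  simp only [pr_apply, smul_dotProduct, dotProduct_smul, smul_eq_mul, smul_smul]
  congr 1
  field_simp

/-- Preservation of the dot product. -/
def Orth (s : GL (Fin 3) F) : Prop :=
  ∀ x y, ((s : Matrix (Fin 3) (Fin 3) F) *ᵥ x) ⬝ᵥ ((s : Matrix (Fin 3) (Fin 3) F) *ᵥ y) = x ⬝ᵥ y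

theorem orth_one : Orth (1 : GL (Fin 3) F) := fun x y => by rw [Units.val_one, Matrix.one_mulVec, Matrix.one_mulVec]

theorem orth_mul {s t : GL (Fin 3) F} (hs : Orth s) (ht : Orth t) : Orth (s * t) := fun x y => by
  rw [Units.val_mul, ← Matrix.mulVec_mulVec, ← Matrix.mulVec_mulVec, hs, ht]

theorem inv_apply (s : GL (Fin 3) F) (x : VA) : s •₃ (s⁻¹ •₃ x) = x := by
  rw [Matrix.mulVec_mulVec, ← Units.val_mul, mul_inv_cancel, Units.val_one, Matrix.one_mulVec]

theorem apply_inv (s : GL (Fin 3) F) (x : VA) : s⁻¹ •₃ (s •₃ x) = x := by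
  rw [Matrix.mulVec_mulVec, ← Units.val_mul, inv_mul_cancel, Units.val_one, Matrix.one_mulVec]

theorem orth_inv {s : GL (Fin 3) F} (hs : Orth s) : Orth s⁻¹ := fun x y => by
  rw [← hs, inv_apply, inv_apply]

theorem pr_conj {s : GL (Fin 3) F} (hs : Orth s) (u : VA) : (s : M3) * pr u = pr (s •₃ u) * (s : M3) := by
  refine Matrix.ext_iff_mulVec.mpr fun x => ?_
  rw [← Matrix.mulVec_mulVec, ← Matrix.mulVec_mulVec, pr_apply, pr_apply, hs, hs, Matrix.mulVec_smul]

/-- The involution fixing a line, negating its orthogonal. -/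
def zz (u : Fin 3 → F) : GL (Fin 3) F where
  val := (2 : F) • pr u - 1
  inv := (2 : F) • pr u - 1
  val_inv := by
    simp only [sub_mul, mul_sub, Matrix.smul_mul, Matrix.mul_smul, smul_smul, pr_mul_self, one_mul, mul_one]
    module
  inv_val := by
    simp only [sub_mul, mul_sub, Matrix.smul_mul, Matrix.mul_smul, smul_smul, pr_mul_self, one_mul, mul_one]
    module

/-- The reflection of a vector. -/
def rr (u : Fin 3 → F) : GL (Fin 3) F where
  val := 1 - (2 : F) • pr u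
  inv := 1 - (2 : F) • pr u
  val_inv := by
    simp only [sub_mul, mul_sub, Matrix.smul_mul, Matrix.mul_smul, smul_smul, pr_mul_self, one_mul, mul_one]
    module
  inv_val := by
    simp only [sub_mul, mul_sub, Matrix.smul_mul, Matrix.mul_smul, smul_smul, pr_mul_self, one_mul, mul_one]
    module

theorem zz_val (u : VA) : (zz u : M3) = (2 : F) • pr u - 1 := rfl

theorem rr_val (u : VA) : (rr u : M3) = 1 - (2 : F) • pr u := rfl

theorem zz_apply (u x : VA) : (zz u) •₃ x = (2 * ((u ⬝ᵥ u)⁻¹ * (u ⬝ᵥ x))) • u - x := by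
  rw [zz_val, Matrix.sub_mulVec, Matrix.smul_mulVec, pr_apply, Matrix.one_mulVec, smul_smul]

theorem rr_apply (u x : VA) : (rr u) •₃ x = x - (2 * ((u ⬝ᵥ u)⁻¹ * (u ⬝ᵥ x))) • u := by
  rw [rr_val, Matrix.sub_mulVec, Matrix.smul_mulVec, pr_apply, Matrix.one_mulVec, smul_smul]

theorem zz_self {u : VA} (hu : u ⬝ᵥ u ≠ 0) : (zz u) •₃ u = u := by
  rw [zz_apply, inv_mul_cancel₀ hu, mul_one, two_smul, add_sub_cancel_right]

theorem zz_perp {u x : VA} (h : u ⬝ᵥ x = 0) : (zz u) •₃ x = -x := by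
  rw [zz_apply, h, mul_zero, mul_zero, zero_smul, zero_sub]

theorem rr_self {u : VA} (hu : u ⬝ᵥ u ≠ 0) : (rr u) •₃ u = -u := by
  rw [rr_apply, inv_mul_cancel₀ hu, mul_one, two_smul]; abel

theorem rr_perp {u x : VA} (h : u ⬝ᵥ x = 0) : (rr u) •₃ x = x := by
  rw [rr_apply, h, mul_zero, mul_zero, zero_smul, sub_zero]

theorem zz_inv (u : VA) : (zz u)⁻¹ = zz u := Units.ext rfl

theorem rr_inv (u : VA) : (rr u)⁻¹ = rr u := Units.ext rfl

theorem zz_sq (u : VA) : zz u * zz u = 1 := by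
  nth_rewrite 1 [← zz_inv u]
  exact inv_mul_cancel _

theorem rr_sq (u : VA) : rr u * rr u = 1 := by
  nth_rewrite 1 [← rr_inv u]
  exact inv_mul_cancel _

theorem zz_smul {c : F} (hc : c ≠ 0) (u : VA) : zz (c • u) = zz u := Units.ext (by rw [zz_val, zz_val, pr_smul hc])

theorem orth_rr (u : VA) : Orth (rr u) := fun x y => by
  simp only [rr_apply, sub_dotProduct, dotProduct_sub, smul_dotProduct, dotProduct_smul, smul_eq_mul,
    dotProduct_comm x u]
  by_cases h : u ⬝ᵥ u = 0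
  · simp [h]
  · field_simp
    ring

theorem orth_zz (u : VA) : Orth (zz u) := fun x y => by
  simp only [zz_apply, sub_dotProduct, dotProduct_sub, smul_dotProduct, dotProduct_smul, smul_eq_mul,
    dotProduct_comm x u]
  by_cases h : u ⬝ᵥ u = 0
  · simp [h]
  · field_simp
    ring

theorem conj_zz {s : GL (Fin 3) F} (hs : Orth s) (u : VA) : s * zz u * s⁻¹ = zz (s •₃ u) := by
  rw [mul_inv_eq_iff_eq_mul]
  refine Units.ext ?_
  rw [Units.val_mul, Units.val_mul, zz_val, zz_val, Matrix.mul_sub, Matrix.mul_smul, pr_conj hs, mul_one,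
    Matrix.sub_mul, Matrix.smul_mul, one_mul]

theorem conj_rr {s : GL (Fin 3) F} (hs : Orth s) (u : VA) : s * rr u * s⁻¹ = rr (s •₃ u) := by
  rw [mul_inv_eq_iff_eq_mul]
  refine Units.ext ?_
  rw [Units.val_mul, Units.val_mul, rr_val, rr_val, Matrix.mul_sub, Matrix.mul_smul, pr_conj hs, mul_one,
    Matrix.sub_mul, Matrix.smul_mul, one_mul]

theorem det_rr {u : VA} (hu : u ⬝ᵥ u ≠ 0) : (rr u : M3).det = -1 := by
  simp only [dotProduct, Fin.sum_univ_three] at hu
  obtain ⟨k, hk⟩ : ∃ k, k = (u 0 * u 0 + u 1 * u 1 + u 2 * u 2)⁻¹ := ⟨_, rfl⟩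
  have hk' : k * (u 0 * u 0 + u 1 * u 1 + u 2 * u 2) = 1 := hk ▸ inv_mul_cancel₀ hu
  simp [rr_val, pr, Matrix.det_fin_three, Matrix.vecMulVec_apply, dotProduct, Fin.sum_univ_three, Matrix.one_apply,
    ← hk]
  linear_combination (-2) * hk'

/-- An orthogonal frame. -/
structure Frame (u v w : Fin 3 → F) : Prop where
  uu : u ⬝ᵥ u ≠ 0
  vv : v ⬝ᵥ v ≠ 0
  ww : w ⬝ᵥ w ≠ 0
  uv : u ⬝ᵥ v = 0
  uw : u ⬝ᵥ w = 0
  vw : v ⬝ᵥ w = 0
  eq : w = crossProduct u v

theorem frame_of_perp {u v : VA} (hu : u ⬝ᵥ u ≠ 0) (hv : v ⬝ᵥ v ≠ 0) (h : u ⬝ᵥ v = 0) :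
    Frame u v (crossProduct u v) :=
  ⟨hu, hv, by rw [cross_dot_cross, h, dotProduct_comm v u, h, mul_zero, sub_zero]; exact mul_ne_zero hu hv, h,
    dot_self_cross u v, dot_cross_self u v, rfl⟩

theorem exists_frame {u : VA} (h2 : (2 : F) ≠ 0) (hu : u ⬝ᵥ u ≠ 0) : ∃ v w, Frame u v w := by
  obtain ⟨a, ha⟩ : ∃ a : Fin 3 → VA, ∀ i, a i = Pi.single i 1 - ((u ⬝ᵥ u)⁻¹ * u i) • u := ⟨_, fun _ => rfl⟩
  have hp : ∀ i, u ⬝ᵥ a i = 0 := fun i => by
    rw [ha, dotProduct_sub, dotProduct_smul, dotProduct_single, smul_eq_mul, mul_one]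
    field_simp
    ring
  obtain ⟨i, hi⟩ : ∃ i, a i ⬝ᵥ a i ≠ 0 := by
    by_contra hcon
    push Not at hcon
    refine h2 ?_
    have hone : ∀ i, a i ⬝ᵥ a i = 1 - (u ⬝ᵥ u)⁻¹ * (u i * u i) := fun i => by
      rw [ha, sub_dotProduct, dotProduct_sub, dotProduct_sub, smul_dotProduct, smul_dotProduct, dotProduct_smul,
        dotProduct_smul, single_dotProduct, single_dotProduct, dotProduct_single]
      simp only [smul_eq_mul, Pi.single_eq_same, one_mul, mul_one]
      field_simp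
      ring
    have hsum : ∑ i, a i ⬝ᵥ a i = 2 := by
      have e : ∑ i, u i * u i = u ⬝ᵥ u := rfl
      simp only [hone, Finset.sum_sub_distrib, ← Finset.mul_sum, e, inv_mul_cancel₀ hu, Finset.sum_const,
        Finset.card_univ, Fintype.card_fin, nsmul_eq_mul, Nat.cast_ofNat]
      norm_num
    rw [← hsum]
    exact Finset.sum_eq_zero fun i _ => hcon i
  exact ⟨a i, _, frame_of_perp hu hi (hp i)⟩

theorem Frame.resolution {u v w : VA} (P : Frame u v w) : pr u + pr v + pr w = 1 := by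
  have h : ∀ x, ((pr u + pr v + pr w) *ᵥ x - x) ⬝ᵥ u = 0 ∧ ((pr u + pr v + pr w) *ᵥ x - x) ⬝ᵥ v = 0 ∧
      ((pr u + pr v + pr w) *ᵥ x - x) ⬝ᵥ w = 0 := by
    intro x
    have := P.uu; have := P.vv; have := P.ww
    refine ⟨?_, ?_, ?_⟩ <;>
      simp only [Matrix.add_mulVec, pr_apply, sub_dotProduct, add_dotProduct, smul_dotProduct, smul_eq_mul,
        P.uv, P.uw, P.vw, dotProduct_comm v u, dotProduct_comm w u, dotProduct_comm w v, dotProduct_comm x u,
        dotProduct_comm x v, dotProduct_comm x w] <;>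
      field_simp <;> ring
  refine Matrix.ext_iff_mulVec.mpr fun x => ?_
  rw [Matrix.one_mulVec, ← sub_eq_zero]
  refine dotProduct_eq_zero _ fun y => ?_
  obtain ⟨d, hd⟩ : ∃ d, d = (pr u + pr v + pr w) *ᵥ x - x := ⟨_, rfl⟩
  rw [← hd]
  have h1 := hd ▸ (h x).1
  have h2 := hd ▸ (h x).2.1
  have h3 := hd ▸ (h x).2.2
  have key : (crossProduct u v ⬝ᵥ crossProduct u v) • d = 0 := by
    have hw := P.eq ▸ h3
    rw [dotProduct_comm] at h1 h2 hw
    funext i
    fin_cases i <;>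
    · simp only [dotProduct, Fin.sum_univ_three, crossProduct, LinearMap.mk₂_apply, Matrix.cons_val_zero,
        Matrix.cons_val_one, Matrix.cons_val_two, Matrix.head_cons, Matrix.tail_cons, Pi.smul_apply, smul_eq_mul,
        Pi.zero_apply, Fin.zero_eta, Fin.mk_one, Fin.reduceFinMk] at h1 h2 hw ⊢
      grobner
  have hd0 : d = 0 := (smul_eq_zero.mp key).resolve_left (P.eq ▸ P.ww)
  rw [hd0, zero_dotProduct]

theorem Frame.ext_mulVec {u v w : VA} (P : Frame u v w) {A B : M3} (hu : A *ᵥ u = B *ᵥ u) (hv : A *ᵥ v = B *ᵥ v)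
    (hw : A *ᵥ w = B *ᵥ w) : A = B := by
  refine Matrix.ext_iff_mulVec.mpr fun x => ?_
  rw [show x = pr u *ᵥ x + pr v *ᵥ x + pr w *ᵥ x by
    rw [← Matrix.add_mulVec, ← Matrix.add_mulVec, P.resolution, Matrix.one_mulVec]]
  simp only [pr_apply, Matrix.mulVec_add, Matrix.mulVec_smul, hu, hv, hw]

/-- The product of two perpendicular involutions is the third. -/
theorem Frame.zz_mul {u v w : VA} (P : Frame u v w) : zz u * zz v = zz w := by
  refine Units.ext (P.ext_mulVec ?_ ?_ ?_) <;> rw [Units.val_mul, ← Matrix.mulVec_mulVec]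
  · rw [zz_perp (u := v) (x := u) (by rw [dotProduct_comm]; exact P.uv), Matrix.mulVec_neg, zz_self P.uu,
      zz_perp (u := w) (x := u) (by rw [dotProduct_comm]; exact P.uw)]
  · rw [zz_self P.vv, zz_perp P.uv, zz_perp (by rw [dotProduct_comm]; exact P.vw)]
  · rw [zz_perp P.vw, Matrix.mulVec_neg, zz_perp P.uw, neg_neg, zz_self P.ww]

theorem Frame.swap {u v w : VA} (P : Frame u v w) : Frame v u (-w) := by
  have h := frame_of_perp P.vv P.uu (by rw [dotProduct_comm]; exact P.uv)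
  rwa [← cross_anticomm u v, ← P.eq] at h

/-- The group generated by pairs of reflections. -/
def Rot (F : Type*) [Field F] : Subgroup (GL (Fin 3) F) :=
  Subgroup.closure {g | ∃ v w : Fin 3 → F, v ⬝ᵥ v ≠ 0 ∧ w ⬝ᵥ w ≠ 0 ∧ g = rr v * rr w}

theorem rot_conj {e : VA} (he : e ⬝ᵥ e ≠ 0) {g : GL (Fin 3) F} (hg : g ∈ Rot F) : rr e * g * rr e ∈ Rot F := by
  induction hg using Subgroup.closure_induction with
  | mem g hg =>
    obtain ⟨v, w, hv, hw, rfl⟩ := hg
    rw [show rr e * (rr v * rr w) * rr e = (rr e * rr v) * (rr w * rr e) by group]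
    exact mul_mem (Subgroup.subset_closure ⟨e, v, he, hv, rfl⟩) (Subgroup.subset_closure ⟨w, e, hw, he, rfl⟩)
  | one => rw [mul_one, rr_sq]; exact one_mem _
  | mul a b _ _ ha hb =>
    rw [show rr e * (a * b) * rr e = rr e * a * rr e * ((rr e)⁻¹ * (rr e)⁻¹) * rr e * (b * rr e) by group, rr_inv,
      rr_sq, mul_one, show rr e * a * rr e * rr e * (b * rr e) = rr e * a * rr e * (rr e * b * rr e) by group]
    exact mul_mem ha hb
  | inv a _ ha =>
    have := inv_mem ha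
    rwa [_root_.mul_inv_rev, _root_.mul_inv_rev, rr_inv, ← mul_assoc] at this

theorem det_rot {g : GL (Fin 3) F} (hg : g ∈ Rot F) : (g : M3).det = 1 := by
  induction hg using Subgroup.closure_induction with
  | mem g hg =>
    obtain ⟨v, w, hv, hw, rfl⟩ := hg
    rw [Units.val_mul, Matrix.det_mul, det_rr hv, det_rr hw, neg_one_mul, neg_neg]
  | one => simp
  | mul a b _ _ ha hb => rw [Units.val_mul, Matrix.det_mul, ha, hb, one_mul]
  | inv a _ ha =>
    have h := congrArg Matrix.det (Units.mul_inv a)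
    rwa [Matrix.det_mul, ha, one_mul, Matrix.det_one] at h

theorem orth_rot {g : GL (Fin 3) F} (hg : g ∈ Rot F) : Orth g := by
  induction hg using Subgroup.closure_induction with
  | mem g hg =>
    obtain ⟨v, w, _, _, rfl⟩ := hg
    exact orth_mul (orth_rr v) (orth_rr w)
  | one => exact orth_one
  | mul a b _ _ ha hb => exact orth_mul ha hb
  | inv a _ ha => exact orth_inv ha

/-- The group generated by the reflections. -/
def Refl (F : Type*) [Field F] : Subgroup (GL (Fin 3) F) :=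
  Subgroup.closure {g | ∃ v : Fin 3 → F, v ⬝ᵥ v ≠ 0 ∧ g = rr v}

theorem orth_refl {g : GL (Fin 3) F} (hg : g ∈ Refl F) : Orth g := by
  induction hg using Subgroup.closure_induction with
  | mem g hg =>
    obtain ⟨v, _, rfl⟩ := hg
    exact orth_rr v
  | one => exact orth_one
  | mul a b _ _ ha hb => exact orth_mul ha hb
  | inv a _ ha => exact orth_inv ha

theorem refl_cases {e : VA} (he : e ⬝ᵥ e ≠ 0) {g : GL (Fin 3) F} (hg : g ∈ Refl F) :
    g ∈ Rot F ∨ g * rr e ∈ Rot F := by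
  induction hg using Subgroup.closure_induction with
  | mem g hg =>
    obtain ⟨v, hv, rfl⟩ := hg
    exact Or.inr (Subgroup.subset_closure ⟨v, e, hv, he, rfl⟩)
  | one => exact Or.inl (one_mem _)
  | mul a b _ _ ha hb =>
    have hee := rr_sq e
    rcases ha with ha | ha <;> rcases hb with hb | hb
    · exact Or.inl (mul_mem ha hb)
    · exact Or.inr (by rw [mul_assoc]; exact mul_mem ha hb)
    · refine Or.inr ?_
      have := mul_mem ha (rot_conj he hb)
      rwa [show a * rr e * (rr e * b * rr e) = a * (rr e * rr e) * b * rr e by group, hee, mul_one] at this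
    · refine Or.inl ?_
      have := mul_mem ha (rot_conj he hb)
      rwa [show a * rr e * (rr e * (b * rr e) * rr e) = a * (rr e * rr e) * b * (rr e * rr e) by group, hee, mul_one,
        mul_one] at this
  | inv a _ ha =>
    rcases ha with ha | ha
    · exact Or.inl (inv_mem ha)
    · refine Or.inr ?_
      have := rot_conj he (inv_mem ha)
      rwa [_root_.mul_inv_rev, rr_inv, ← mul_assoc, rr_sq, one_mul] at this

/-- Moving a vector by reflections fixing the common orthogonal. -/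
theorem exists_refl {u u' : VA} (h2 : (2 : F) ≠ 0) (h : u' ⬝ᵥ u' = u ⬝ᵥ u) (hu : u ⬝ᵥ u ≠ 0) :
    ∃ g ∈ Refl F, g •₃ u = u' ∧ ∀ z, z ⬝ᵥ u = 0 → z ⬝ᵥ u' = 0 → g •₃ z = z := by
  by_cases hd : (u - u') ⬝ᵥ (u - u') = 0
  · have hs : (u + u') ⬝ᵥ (u + u') = 4 * (u ⬝ᵥ u) := by
      simp only [sub_dotProduct, dotProduct_sub, add_dotProduct, dotProduct_add, dotProduct_comm u' u, h] at hd ⊢
      linear_combination -hd
    have hs0 : (u + u') ⬝ᵥ (u + u') ≠ 0 := by
      rw [hs, show (4 : F) = 2 * 2 by norm_num]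
      exact mul_ne_zero (mul_ne_zero h2 h2) hu
    refine ⟨rr u' * rr (u + u'), mul_mem (Subgroup.subset_closure ⟨u', h ▸ hu, rfl⟩)
      (Subgroup.subset_closure ⟨_, hs0, rfl⟩), ?_, fun z hz hz' => ?_⟩
    · rw [Units.val_mul, ← Matrix.mulVec_mulVec]
      have e : (rr (u + u')) •₃ u = -u' := by
        have hm : 2 * ((u + u') ⬝ᵥ u) = (u + u') ⬝ᵥ (u + u') := by
          simp only [add_dotProduct, dotProduct_add, dotProduct_comm u' u, h]; ring
        rw [rr_apply, show 2 * (((u + u') ⬝ᵥ (u + u'))⁻¹ * ((u + u') ⬝ᵥ u)) = 1 by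
          field_simp; linear_combination hm, one_smul]
        abel
      rw [e, Matrix.mulVec_neg, rr_self (h ▸ hu), neg_neg]
    · rw [Units.val_mul, ← Matrix.mulVec_mulVec, rr_perp (u := u + u') (x := z) (by rw [add_dotProduct, dotProduct_comm, hz,
        dotProduct_comm, hz', add_zero]), rr_perp (u := u') (x := z) (by rw [dotProduct_comm, hz'])]
  · refine ⟨rr (u - u'), Subgroup.subset_closure ⟨_, hd, rfl⟩, ?_, fun z hz hz' => ?_⟩
    · have hm : 2 * ((u - u') ⬝ᵥ u) = (u - u') ⬝ᵥ (u - u') := by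
        simp only [sub_dotProduct, dotProduct_sub, dotProduct_comm u' u, h]; ring
      rw [rr_apply, show 2 * (((u - u') ⬝ᵥ (u - u'))⁻¹ * ((u - u') ⬝ᵥ u)) = 1 by
        field_simp; linear_combination hm, one_smul]
      abel
    · exact rr_perp (by rw [sub_dotProduct, dotProduct_comm, hz, dotProduct_comm, hz', sub_zero])

/-- Transitivity of rotations on vectors of given length. -/
theorem exists_rot {u u' : VA} (h2 : (2 : F) ≠ 0) (h : u' ⬝ᵥ u' = u ⬝ᵥ u) (hu : u ⬝ᵥ u ≠ 0) :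
    ∃ g ∈ Rot F, g •₃ u = u' := by
  obtain ⟨g, hg, hgu, -⟩ := exists_refl h2 h hu
  obtain ⟨v, w, P⟩ := exists_frame h2 hu
  rcases refl_cases P.vv hg with h' | h'
  · exact ⟨g, h', hgu⟩
  · refine ⟨g * rr v, h', ?_⟩
    rw [Units.val_mul, ← Matrix.mulVec_mulVec, rr_perp (by rw [dotProduct_comm]; exact P.uv), hgu]

theorem orth_mem_refl (h2 : (2 : F) ≠ 0) {s : GL (Fin 3) F} (hs : Orth s) : s ∈ Refl F := by
  obtain ⟨e, f', g', P, he⟩ : ∃ e f' g' : VA, Frame e f' g' ∧ True :=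
    ⟨Pi.single 0 1, Pi.single 1 1, _, frame_of_perp (by simp) (by simp) (by simp), trivial⟩
  obtain ⟨a, ha, hae, -⟩ := exists_refl (u := s •₃ e) (u' := e) h2 (hs e e).symm (hs e e ▸ P.uu)
  have hs1 : Orth (a * s) := orth_mul (orth_refl ha) hs
  have he1 : (a * s) •₃ e = e := by rw [Units.val_mul, ← Matrix.mulVec_mulVec, hae]
  obtain ⟨b, hb, hbe, hbfix⟩ := exists_refl (u := (a * s) •₃ f') (u' := f') h2 (hs1 f' f').symm (hs1 f' f' ▸ P.vv)
  have hee : b •₃ e = e := hbfix e (by rw [← he1, hs1, P.uv]) P.uv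
  obtain ⟨c, hc⟩ : ∃ c, c = b * (a * s) := ⟨_, rfl⟩
  have hce : c •₃ e = e := by rw [hc, Units.val_mul, ← Matrix.mulVec_mulVec, he1, hee]
  have hcf : c •₃ f' = f' := by rw [hc, Units.val_mul, ← Matrix.mulVec_mulVec, hbe]
  have hco : Orth c := hc ▸ orth_mul (orth_refl hb) hs1
  have hcg : c •₃ g' = g' ∨ c •₃ g' = -g' := by
    have e1 : e ⬝ᵥ c •₃ g' = 0 := by conv_lhs => rw [← hce]
                                     rw [hco, P.uw]
    have e2 : f' ⬝ᵥ c •₃ g' = 0 := by conv_lhs => rw [← hcf]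
                                      rw [hco, P.vw]
    have hr : c •₃ g' = ((g' ⬝ᵥ g')⁻¹ * (g' ⬝ᵥ c •₃ g')) • g' := by
      conv_lhs => rw [← Matrix.one_mulVec (c •₃ g'), ← P.resolution]
      rw [Matrix.add_mulVec, Matrix.add_mulVec, pr_perp e1, pr_perp e2, zero_add, zero_add, pr_apply]
    obtain ⟨k, hk⟩ : ∃ k, k = (g' ⬝ᵥ g')⁻¹ * (g' ⬝ᵥ c •₃ g') := ⟨_, rfl⟩
    rw [← hk] at hr
    have := hco g' g'
    rw [hr, smul_dotProduct, dotProduct_smul, smul_eq_mul, smul_eq_mul, ← mul_assoc] at this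
    rcases mul_self_eq_one_iff.mp (mul_right_cancel₀ P.ww (this.trans (one_mul _).symm)) with hk' | hk'
    · exact Or.inl (by rw [hr, hk', one_smul])
    · exact Or.inr (by rw [hr, hk', neg_one_smul])
  have hcR : c ∈ Refl F := by
    rcases hcg with hcg | hcg
    · rw [show c = 1 from Units.ext (P.ext_mulVec (by simpa using hce) (by simpa using hcf) (by simpa using hcg))]
      exact one_mem _
    · rw [show c = rr g' from Units.ext (P.ext_mulVec (by rw [hce, rr_perp (by rw [dotProduct_comm]; exact P.uw)])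
        (by rw [hcf, rr_perp (by rw [dotProduct_comm]; exact P.vw)]) (by rw [hcg, rr_self P.ww]))]
      exact Subgroup.subset_closure ⟨_, P.ww, rfl⟩
  rw [show s = a⁻¹ * (b⁻¹ * c) by rw [hc]; group]
  exact mul_mem (inv_mem ha) (mul_mem (inv_mem hb) hcR)

theorem orth_det {s : GL (Fin 3) F} (h2 : (2 : F) ≠ 0) (hs : Orth s) :
    s ∈ Rot F ∨ ∀ e : VA, e ⬝ᵥ e ≠ 0 → s * rr e ∈ Rot F := by
  by_cases h : s ∈ Rot F
  · exact Or.inl h
  · exact Or.inr fun e he => (refl_cases he (orth_mem_refl h2 hs)).resolve_left h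

theorem mem_rot {s : GL (Fin 3) F} (h2 : (2 : F) ≠ 0) (hs : Orth s) (hd : (s : M3).det = 1) : s ∈ Rot F := by
  refine (orth_det h2 hs).resolve_right fun h => ?_
  have he : (Pi.single 0 1 : VA) ⬝ᵥ Pi.single 0 1 ≠ 0 := by simp
  have h1 := det_rot (h _ he)
  rw [Units.val_mul, Matrix.det_mul, hd, det_rr he, one_mul] at h1
  exact h2 (by linear_combination -h1)

/-- Rotations respect the cross product. -/
theorem rot_cross {s : GL (Fin 3) F} (hs : Orth s) (hd : (s : M3).det = 1) (a b : VA) :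
    s •₃ (crossProduct a b) = crossProduct (s •₃ a) (s •₃ b) := by
  refine dotProduct_eq _ _ fun x => ?_
  obtain ⟨y, rfl⟩ : ∃ y, x = s •₃ y := ⟨_, (inv_apply s x).symm⟩
  rw [hs, dotProduct_comm, triple_product_eq_det, dotProduct_comm, triple_product_eq_det]
  have e : (Matrix.of ![s •₃ y, s •₃ a, s •₃ b] : M3) = (Matrix.of ![y, a, b] : M3) * (s : M3)ᵀ := by
    ext i j
    fin_cases i <;> simp [Matrix.mul_apply, Matrix.mulVec, dotProduct, mul_comm]
  show Matrix.det (Matrix.of ![y, a, b] : M3) = Matrix.det (Matrix.of ![s •₃ y, s •₃ a, s •₃ b] : M3)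
  rw [e, Matrix.det_mul, Matrix.det_transpose, hd, mul_one]

theorem Frame.rot_fix {u v w : VA} (P : Frame u v w) {s : GL (Fin 3) F} (hs : Orth s) (hd : (s : M3).det = 1)
    (hu : s •₃ u = u) :
    ∃ c d : F, s •₃ v = c • v + d • w ∧ s •₃ w = c • w - (d * (u ⬝ᵥ u)) • v := by
  have e : u ⬝ᵥ s •₃ v = 0 := by conv_lhs => rw [← hu]
                                 rw [hs, P.uv]
  refine ⟨(v ⬝ᵥ v)⁻¹ * (v ⬝ᵥ s •₃ v), (w ⬝ᵥ w)⁻¹ * (w ⬝ᵥ s •₃ v), ?_, ?_⟩
  · conv_lhs => rw [← Matrix.one_mulVec (s •₃ v), ← P.resolution]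
    rw [Matrix.add_mulVec, Matrix.add_mulVec, pr_perp e, zero_add, pr_apply, pr_apply]
  · have h1 : s •₃ v = ((v ⬝ᵥ v)⁻¹ * (v ⬝ᵥ s •₃ v)) • v + ((w ⬝ᵥ w)⁻¹ * (w ⬝ᵥ s •₃ v)) • w := by
      conv_lhs => rw [← Matrix.one_mulVec (s •₃ v), ← P.resolution]
      rw [Matrix.add_mulVec, Matrix.add_mulVec, pr_perp e, zero_add, pr_apply, pr_apply]
    have hcw : crossProduct u w = -(u ⬝ᵥ u) • v := by
      rw [P.eq, cross_cross_eq_smul_sub_smul', P.uv]
      simp
    conv_lhs => rw [P.eq, rot_cross hs hd, hu, h1]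
    rw [map_add, map_smul, map_smul, ← P.eq, hcw]
    module

theorem Frame.rot_comm {u v w : VA} (P : Frame u v w) {s t : GL (Fin 3) F} (hs : Orth s) (hds : (s : M3).det = 1)
    (hsu : s •₃ u = u) (ht : Orth t) (hdt : (t : M3).det = 1) (htu : t •₃ u = u) : s * t = t * s := by
  obtain ⟨c, d, h1, h2⟩ := P.rot_fix hs hds hsu
  obtain ⟨c', d', h1', h2'⟩ := P.rot_fix ht hdt htu
  refine Units.ext (P.ext_mulVec ?_ ?_ ?_) <;> simp only [Units.val_mul, ← Matrix.mulVec_mulVec]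
  · rw [hsu, htu, hsu]
  · simp only [h1, h1', Matrix.mulVec_add, Matrix.mulVec_smul, h2, h2']
    module
  · simp only [h2, h2', Matrix.mulVec_sub, Matrix.mulVec_smul, h1, h1']
    module

theorem Frame.rot_invol {u v w : VA} (P : Frame u v w) (h2 : (2 : F) ≠ 0) {s : GL (Fin 3) F} (hs : Orth s)
    (hds : (s : M3).det = 1) (hsu : s •₃ u = u) (hss : s * s = 1) : s = 1 ∨ s = zz u := by
  obtain ⟨c, d, h1, h1'⟩ := P.rot_fix hs hds hsu
  have hn : (c ^ 2 + d ^ 2 * (u ⬝ᵥ u) - 1) * (v ⬝ᵥ v) = 0 := by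
    have e := hs v v
    rw [h1] at e
    have hww : w ⬝ᵥ w = (u ⬝ᵥ u) * (v ⬝ᵥ v) := by
      rw [P.eq, cross_dot_cross, P.uv, zero_mul, sub_zero]
    simp only [add_dotProduct, dotProduct_add, smul_dotProduct, dotProduct_smul, smul_eq_mul, P.vw,
      dotProduct_comm w v, hww] at e
    linear_combination e
  have hq : c ^ 2 - d ^ 2 * (u ⬝ᵥ u) = 1 := by
    have e : (s : M3) *ᵥ (s •₃ v) = v := by rw [Matrix.mulVec_mulVec, ← Units.val_mul, hss, Units.val_one,
      Matrix.one_mulVec]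
    rw [h1, Matrix.mulVec_add, Matrix.mulVec_smul, Matrix.mulVec_smul, h1, h1'] at e
    have e' := congrArg (fun x => v ⬝ᵥ x) e
    simp only [dotProduct_add, dotProduct_sub, dotProduct_smul, smul_eq_mul, P.vw] at e'
    refine mul_right_cancel₀ P.vv ?_
    linear_combination e'
  have hn' := (mul_eq_zero.mp hn).resolve_right P.vv
  have hd : d = 0 := by
    have : (2 * (u ⬝ᵥ u)) * d ^ 2 = 0 := by linear_combination hn' - hq
    exact pow_eq_zero_iff (two_ne_zero) |>.mp ((mul_eq_zero.mp this).resolve_left (mul_ne_zero h2 P.uu))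
  subst hd
  rcases sq_eq_one_iff.mp (show c ^ 2 = 1 by linear_combination hq) with rfl | rfl
  · exact Or.inl (Units.ext (P.ext_mulVec (by simpa using hsu) (by simp [h1]) (by simp [h1'])))
  · refine Or.inr (Units.ext (P.ext_mulVec (by rw [hsu, zz_self P.uu]) ?_ ?_))
    · rw [h1, zz_perp P.uv]; simp
    · rw [h1', zz_perp P.uw]; simp

/-- Commuting involutions belong to equal or orthogonal lines. -/
theorem zz_commute {u v : VA} (hu : u ⬝ᵥ u ≠ 0) (hv : v ⬝ᵥ v ≠ 0) (h2 : (2 : F) ≠ 0)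
    (h : zz u * zz v = zz v * zz u) : zz u = zz v ∨ u ⬝ᵥ v = 0 := by
  by_cases huv : u ⬝ᵥ v = 0
  · exact Or.inr huv
  have e : (zz u : M3) *ᵥ ((zz v) •₃ u) = (zz v) •₃ u := by
    rw [Matrix.mulVec_mulVec, ← Units.val_mul, h, Units.val_mul, ← Matrix.mulVec_mulVec, zz_self hu]
  rw [zz_apply v u, zz_apply u, dotProduct_sub, dotProduct_smul, smul_eq_mul, dotProduct_comm v u] at e
  obtain ⟨c, hc⟩ : ∃ c : F, v = c • u := by
    obtain ⟨k, hk⟩ : ∃ k, k = 2 * ((v ⬝ᵥ v)⁻¹ * (u ⬝ᵥ v)) := ⟨_, rfl⟩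
    rw [← hk] at e
    have hk0 : 2 * k ≠ 0 := by
      rw [hk]
      exact mul_ne_zero h2 (mul_ne_zero h2 (mul_ne_zero (inv_ne_zero hv) huv))
    refine ⟨(2 * k)⁻¹ * (2 * ((u ⬝ᵥ u)⁻¹ * (k * (u ⬝ᵥ v) - u ⬝ᵥ u)) + 2), ?_⟩
    rw [← smul_smul, eq_inv_smul_iff₀ hk0, ← sub_eq_zero]
    rw [← sub_eq_zero] at e
    rw [← neg_eq_zero, ← e]
    module
  refine Or.inl ?_
  rw [hc, zz_smul fun h0 => hv (by rw [hc, h0, zero_smul, zero_dotProduct])]

/-- Commuting with an involution fixes its line up to sign. -/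
theorem commute_zz {s : GL (Fin 3) F} {u : VA} (hs : Orth s) (hu : u ⬝ᵥ u ≠ 0) (h2 : (2 : F) ≠ 0)
    (h : s * zz u = zz u * s) : s •₃ u = u ∨ s •₃ u = -u := by
  have e : (zz u) •₃ (s •₃ u) = s •₃ u := by
    rw [Matrix.mulVec_mulVec, ← Units.val_mul, ← h, Units.val_mul, ← Matrix.mulVec_mulVec, zz_self hu]
  rw [zz_apply, sub_eq_iff_eq_add] at e
  obtain ⟨k, hk⟩ : ∃ k, k = (u ⬝ᵥ u)⁻¹ * (u ⬝ᵥ s •₃ u) := ⟨_, rfl⟩
  rw [← hk, ← smul_smul, ← two_smul F (s •₃ u)] at e
  have hsu : s •₃ u = k • u := (smul_right_injective VA h2 e).symm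
  have := hs u u
  rw [hsu, smul_dotProduct, dotProduct_smul, smul_eq_mul, smul_eq_mul, ← mul_assoc] at this
  rcases mul_self_eq_one_iff.mp (mul_right_cancel₀ hu (this.trans (one_mul _).symm)) with hk' | hk'
  · exact Or.inl (by rw [hsu, hk', one_smul])
  · exact Or.inr (by rw [hsu, hk', neg_one_smul])

/-- Every value is taken. -/
theorem exists_norm [Fintype F] (h2 : (2 : F) ≠ 0) {a b : F} (ha : a ≠ 0) (hb : b ≠ 0) (c : F) :
    ∃ x y : F, x ^ 2 * a + y ^ 2 * b = c := by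
  have hodd : Fintype.card F % 2 = 1 := FiniteField.odd_card_of_char_ne_two fun hc => by
    have := ringChar.of_eq hc
    exact h2 (by exact_mod_cast CharP.cast_eq_zero F 2)
  open Polynomial in
  obtain ⟨x, y, hxy⟩ := FiniteField.exists_root_sum_quadratic
    (f := C a * X ^ 2 + C 0 * X + C (-c)) (g := C b * X ^ 2 + C 0 * X + C 0)
    (degree_quadratic ha) (degree_quadratic hb) hodd
  refine ⟨x, y, ?_⟩
  simp at hxy
  linear_combination hxy

/-- The classes of anisotropic lines: length `1` or a fixed non-square. -/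
theorem exists_class [Fintype F] {ν : F} (hν : ¬ IsSquare ν) {c : F} (hc : c ≠ 0) :
    ∃ r : F, r ≠ 0 ∧ (r * r * c = 1 ∨ r * r * c = ν) := by
  classical
  by_cases h : IsSquare c
  · obtain ⟨a, rfl⟩ := h
    have ha : a ≠ 0 := fun h0 => hc (by simp [h0])
    exact ⟨a⁻¹, inv_ne_zero ha, Or.inl (by field_simp)⟩
  · have hν0 : ν ≠ 0 := fun h0 => hν (h0 ▸ IsSquare.zero)
    obtain ⟨a, ha⟩ : IsSquare (ν * c⁻¹) := by
      rw [← quadraticChar_one_iff_isSquare (mul_ne_zero hν0 (inv_ne_zero hc))]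
      have h1 : quadraticChar F ν = -1 := quadraticChar_neg_one_iff_not_isSquare.mpr hν
      have h2 : quadraticChar F c⁻¹ = -1 := quadraticChar_neg_one_iff_not_isSquare.mpr
        fun h' => h (by simpa using h'.inv)
      rw [map_mul, h1, h2]; rfl
    refine ⟨a, fun h0 => mul_ne_zero hν0 (inv_ne_zero hc) (by simp [ha, h0]), Or.inr ?_⟩
    rw [← ha]; field_simp

end Cfsg.Agent.Classical.TThreeFour
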