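import Cfsg.Agent.Lib.Classical.TensorThreeFour.Group
import Cfsg.Agent.Lib.Classical.TensorThreeFour.Three
import Cfsg.Agent.Lib.Classical.TensorMax.Form.Setup

/-!
# The setting: elements acting on one block
-/

set_option autoImplicit false
set_option linter.unusedSectionVars false

namespace Cfsg.Agent.Classical.TThreeFour

open Matrix Module Cfsg.Geo
open Cfsg.Agent.Classical Cfsg.Agent.Classical.TensorMax Cfsg.Agent.Classical.TensorMax.Form
open Cfsg.Agent.Classical.TensorMax.OO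
open scoped Kronecker

variable {F : Type*} [Field F] [Fintype F] {fb : (Fin 4 → F) → (Fin 4 → F) → F}
variable {X : Subgroup (GL (Fin 3 × Fin 4) F)}

local notation "VA" => Fin 3 → F
local notation "VB" => Fin 4 → F
local notation "M3" => Matrix (Fin 3) (Fin 3) F
local notation "MB" => Matrix (Fin 4) (Fin 4) F
local notation "κ" => Fin 3 × Fin 4
local notation "Mκ" => Matrix (Fin 3 × Fin 4) (Fin 3 × Fin 4) F
local notation:max g:max " ⬝ₘ " x:max =>
  ((g : GL (Fin 3 × Fin 4) F) : Matrix (Fin 3 × Fin 4) (Fin 3 × Fin 4) F) *ᵥ x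

/-- The dot product as a form. -/
def dot (F : Type*) [Field F] : (Fin 3 → F) → (Fin 3 → F) → F := fun x y => x ⬝ᵥ y

theorem dot_reflex : IsReflexForm (RingEquiv.refl F) 1 (dot F) :=
  ⟨⟨fun x y v => add_dotProduct x y v, fun c x v => smul_dotProduct c x v, fun v x y => dotProduct_add v x y,
    fun c v x => dotProduct_smul c v x⟩, fun x y => (dotProduct_comm y x).trans (one_mul _).symm, fun _ => rfl,
    fun x hx => by
      obtain ⟨i, hi⟩ := Function.ne_iff.mp hx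
      refine ⟨⟨Pi.single i 1, ?_⟩, Pi.single i 1, ?_⟩
      · show Pi.single i 1 ⬝ᵥ x ≠ 0
        rwa [single_dotProduct, one_mul]
      · show x ⬝ᵥ Pi.single i 1 ≠ 0
        rwa [dotProduct_single, mul_one]⟩

/-- The setting. -/
structure Ctx (fb : (Fin 4 → F) → (Fin 4 → F) → F) (X : Subgroup (GL (Fin 3 × Fin 4) F)) : Prop where
  S : Minus fb
  iso : ∀ g ∈ X, ∀ x y, tf (RingEquiv.refl F) (dot F) fb
    ((g : Matrix (Fin 3 × Fin 4) (Fin 3 × Fin 4) F) *ᵥ x)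
    ((g : Matrix (Fin 3 × Fin 4) (Fin 3 × Fin 4) F) *ᵥ y) = tf (RingEquiv.refl F) (dot F) fb x y
  small : ∀ t ∈ SGen fb, kr (1 : GL (Fin 3) F) t ∈ X
  rot : ∀ s ∈ Rot F, kr s (1 : GL (Fin 4) F) ∈ X
  neg : ∀ v : Fin 3 → F, v ⬝ᵥ v ≠ 0 → kr (rr v) (1 : GL (Fin 4) F) ∉ X

local notation "τ" => tf (RingEquiv.refl F) (dot F) fb

theorem Ctx.data (C : Ctx fb X) : Data (RingEquiv.refl F) 1 1 (dot F) fb := ⟨dot_reflex, C.S.H⟩

theorem Ctx.tt (C : Ctx fb X) (a a' : VA) (b b' : VB) : τ (tm a b) (tm a' b') = (a ⬝ᵥ a') * fb b b' :=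
  tf_tm C.data a a' b b'

/-- The involution of a line. -/
def az (u : Fin 3 → F) : GL (Fin 3 × Fin 4) F := kr (zz u) 1

theorem Ctx.az_mem (C : Ctx fb X) {u : VA} (hu : u ⬝ᵥ u ≠ 0) : az u ∈ X := by
  obtain ⟨v, w, P⟩ := exists_frame C.S.h2 hu
  refine C.rot _ ?_
  rw [show zz u = rr v * rr w from Units.ext (P.ext_mulVec ?_ ?_ ?_)]
  · exact Subgroup.subset_closure ⟨v, w, P.vv, P.ww, rfl⟩
  all_goals rw [Units.val_mul, ← Matrix.mulVec_mulVec]
  · rw [zz_self P.uu, rr_perp (u := w) (x := u) (by rw [dotProduct_comm]; exact P.uw),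
      rr_perp (u := v) (x := u) (by rw [dotProduct_comm]; exact P.uv)]
  · rw [zz_perp P.uv, rr_perp (u := w) (x := v) (by rw [dotProduct_comm]; exact P.vw), rr_self P.vv]
  · rw [zz_perp P.uw, rr_self P.ww, Matrix.mulVec_neg, rr_perp P.vw]

theorem az_tm (u a : VA) (b : VB) : (az u) ⬝ₘ (tm a b) = tm ((zz u : M3) *ᵥ a) b := by
  rw [az, kr_tm, Units.val_one, Matrix.one_mulVec]

theorem az_sq (u : VA) : az u * az u = (1 : GL κ F) := by
  rw [az, kr_mul, zz_sq, one_mul, kr_one]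

theorem conj_az {s : GL (Fin 3) F} (hs : Orth s) (t : GL (Fin 4) F) (u : VA) :
    kr s t * az u * (kr s t)⁻¹ = az ((s : M3) *ᵥ u) := by
  rw [az, az, kr_inv, kr_mul, kr_mul, mul_one, mul_inv_cancel, conj_zz hs]

/-- The block coordinate of a vector. -/
def cu (u : Fin 3 → F) (x : Fin 3 × Fin 4 → F) : Fin 4 → F :=
  fun k => (u ⬝ᵥ u)⁻¹ * ∑ i, u i * x (i, k)

theorem pr_kron (u : VA) (x : κ → F) : (pr u ⊗ₖ (1 : MB)) *ᵥ x = tm u (cu u x) := by
  funext p
  simp only [Matrix.mulVec, dotProduct, kroneckerMap_apply, Fintype.sum_prod_type, tm_apply, cu, pr,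
    Matrix.smul_apply, Matrix.vecMulVec_apply, smul_eq_mul]
  rw [Finset.mul_sum, Finset.mul_sum]
  refine Finset.sum_congr rfl fun i _ => ?_
  rw [Finset.sum_eq_single p.2 (fun k _ hk => by simp [Matrix.one_apply_ne (Ne.symm hk)]) (by simp)]
  simp
  ring

theorem kron_tm (A : M3) (B : MB) (a : VA) (b : VB) : (A ⊗ₖ B) *ᵥ tm a b = tm (A *ᵥ a) (B *ᵥ b) := by
  funext p
  simp only [Matrix.mulVec, dotProduct, kroneckerMap_apply, Fintype.sum_prod_type, tm_apply, Finset.sum_mul_sum]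
  exact Finset.sum_congr rfl fun i _ => Finset.sum_congr rfl fun k _ => by ring

/-- Maps agreeing on the three blocks of a frame are equal. -/
theorem ext_frame {u v w : VA} (P : Frame u v w) {A B : Mκ} (hu : ∀ b, A *ᵥ tm u b = B *ᵥ tm u b)
    (hv : ∀ b, A *ᵥ tm v b = B *ᵥ tm v b) (hw : ∀ b, A *ᵥ tm w b = B *ᵥ tm w b) : A = B := by
  refine Matrix.ext_iff_mulVec.mpr fun x => ?_
  have e : x = tm u (cu u x) + tm v (cu v x) + tm w (cu w x) := by
    rw [← pr_kron, ← pr_kron, ← pr_kron, ← Matrix.add_mulVec, ← Matrix.add_mulVec, ← Matrix.add_kronecker,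
      ← Matrix.add_kronecker, P.resolution, Matrix.one_kronecker_one, Matrix.one_mulVec]
  rw [e, Matrix.mulVec_add, Matrix.mulVec_add, Matrix.mulVec_add, Matrix.mulVec_add, hu, hv, hw]

theorem tm_right_inj {a : VA} (ha : a ≠ 0) {b b' : VB} (h : tm a b = tm a b') : b = b' := by
  have h0 : tm a (b - b') = 0 := by rw [tm_sub_right, h, sub_self]
  exact sub_eq_zero.mp ((tm_eq_zero h0).resolve_left ha)

/-- Multiplication by a matrix in one block. -/
def blkM (u : Fin 3 → F) : Matrix (Fin 4) (Fin 4) F →* Matrix (Fin 3 × Fin 4) (Fin 3 × Fin 4) F where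
  toFun t := 1 + pr u ⊗ₖ (t - 1)
  map_one' := by simp
  map_mul' s t := by
    simp only [add_mul, mul_add, one_mul, mul_one, ← Matrix.mul_kronecker_mul, pr_mul_self, add_assoc,
      ← Matrix.kronecker_add]
    congr 2
    noncomm_ring

/-- The element acting in one block. -/
def blk (u : Fin 3 → F) : GL (Fin 4) F →* GL (Fin 3 × Fin 4) F := Units.map (blkM u)

theorem blk_tm (u : VA) (t : GL (Fin 4) F) (a : VA) (b : VB) :
    (blk u t) ⬝ₘ (tm a b) = tm a b + tm (pr u *ᵥ a) ((t : MB) *ᵥ b - b) := by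
  show (1 + pr u ⊗ₖ ((t : MB) - 1)) *ᵥ tm a b = _
  rw [Matrix.add_mulVec, Matrix.one_mulVec, kron_tm, Matrix.sub_mulVec, Matrix.one_mulVec]

theorem blk_self {u : VA} (hu : u ⬝ᵥ u ≠ 0) (t : GL (Fin 4) F) (b : VB) :
    (blk u t) ⬝ₘ (tm u b) = tm u ((t : MB) *ᵥ b) := by
  rw [blk_tm, pr_self hu, ← tm_add_right, add_sub_cancel]

theorem blk_perp {u a : VA} (h : u ⬝ᵥ a = 0) (t : GL (Fin 4) F) (b : VB) :
    (blk u t) ⬝ₘ (tm a b) = tm a b := by
  rw [blk_tm, pr_perp h, tm_zero_left, add_zero]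

theorem conj_blk {s : GL (Fin 3) F} (hs : Orth s) (r t : GL (Fin 4) F) (u : VA) :
    kr s r * blk u t * (kr s r)⁻¹ = blk ((s : M3) *ᵥ u) (r * t * r⁻¹) := by
  rw [mul_inv_eq_iff_eq_mul]
  refine Units.ext ?_
  show (kr s r : Mκ) * (1 + pr u ⊗ₖ ((t : MB) - 1)) =
    (1 + pr ((s : M3) *ᵥ u) ⊗ₖ (((r * t * r⁻¹ : GL (Fin 4) F) : MB) - 1)) * (kr s r : Mκ)
  rw [kr_val, mul_add, add_mul, mul_one, one_mul, ← Matrix.mul_kronecker_mul, ← Matrix.mul_kronecker_mul,
    pr_conj hs]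
  congr 2
  simp only [Units.val_mul, mul_sub, sub_mul, mul_one, one_mul, mul_assoc, Units.inv_mul]

theorem blk_commute {u v : VA} (h : u ⬝ᵥ v = 0) (s t : GL (Fin 4) F) :
    Commute (blk u s) (blk v t) := by
  refine Units.ext ?_
  show (1 + pr u ⊗ₖ ((s : MB) - 1)) * (1 + pr v ⊗ₖ ((t : MB) - 1)) =
    (1 + pr v ⊗ₖ ((t : MB) - 1)) * (1 + pr u ⊗ₖ ((s : MB) - 1))
  have h' : v ⬝ᵥ u = 0 := by rw [dotProduct_comm]; exact h
  have e : ∀ a c : VA, a ⬝ᵥ c = 0 → pr a * pr c = 0 := fun a c h => Matrix.ext_iff_mulVec.mpr fun x => by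
    rw [← Matrix.mulVec_mulVec, pr_apply c, Matrix.mulVec_smul, pr_perp h, smul_zero, Matrix.zero_mulVec]
  simp only [add_mul, mul_add, one_mul, mul_one, ← Matrix.mul_kronecker_mul, e u v h, e v u h',
    Matrix.zero_kronecker]
  abel

/-- A function twisted by another, with commuting quotient, is trivial. -/
theorem ratio_trivial (S : Minus fb) {M : Type*} [Group M] (α β : GL (Fin 4) F → M)
    (hα : ∀ a ∈ SGen fb, ∀ b ∈ SGen fb, α (a * b) = α a * α b)
    (hβ : ∀ a ∈ SGen fb, ∀ b ∈ SGen fb, β (a * b) = β a * β b)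
    (hcen : ∀ a ∈ SGen fb, ∀ b ∈ SGen fb, Commute (α a * (β a)⁻¹) (β b))
    (hcomm : ∀ a ∈ SGen fb, ∀ b ∈ SGen fb, Commute (α a * (β a)⁻¹) (α b * (β b)⁻¹)) :
    ∀ t ∈ SGen fb, α t = β t := fun t ht => by
  have h := fun_trivial S (fun a => α a * (β a)⁻¹) (fun a ha b hb => ?_) (fun a ha b hb => (hcomm a ha b hb).eq)
    t ht
  · exact mul_inv_eq_one.mp h
  · show α (a * b) * (β (a * b))⁻¹ = α a * (β a)⁻¹ * (α b * (β b)⁻¹)
    rw [hα a ha b hb, hβ a ha b hb, _root_.mul_inv_rev, mul_assoc (α a) (β a)⁻¹,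
      ← ((hcen b hb a ha).inv_right).eq]
    group

/-- A matrix of one block preserving the form. -/
theorem Ctx.iso_block (C : Ctx fb X) {g : GL κ F} (hg : g ∈ X) {u w : VA} (hu : u ⬝ᵥ u ≠ 0) (hw : w ⬝ᵥ w ≠ 0)
    {t : MB} (h : ∀ b, g ⬝ₘ (tm u b) = tm w (t *ᵥ b)) (x y : VB) :
    fb (t *ᵥ x) (t *ᵥ y) = (w ⬝ᵥ w)⁻¹ * (u ⬝ᵥ u) * fb x y := by
  have e := C.iso g hg (tm u x) (tm u y)
  rw [h, h, C.tt, C.tt] at e
  field_simp
  linear_combination e

theorem az_fix (h2 : (2 : F) ≠ 0) {w : VA} {x : κ → F} (h : (az w) ⬝ₘ x = x) : x = tm w (cu w x) := by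
  have e : (az w : Mκ) = (2 : F) • (pr w ⊗ₖ (1 : MB)) - 1 := by
    rw [az, kr_val, zz_val, Units.val_one, sub_eq_add_neg, Matrix.add_kronecker, Matrix.smul_kronecker,
      ← neg_one_smul F (1 : M3), Matrix.smul_kronecker, Matrix.one_kronecker_one, neg_one_smul, ← sub_eq_add_neg]
  rw [e, Matrix.sub_mulVec, Matrix.smul_mulVec, pr_kron, Matrix.one_mulVec, sub_eq_iff_eq_add, ← two_smul F x] at h
  exact (smul_right_injective _ h2 h).symm

/-- An element moving one involution to another maps block to block. -/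
theorem exists_block (h2 : (2 : F) ≠ 0) {g : GL κ F} {u w : VA} (hu : u ⬝ᵥ u ≠ 0) (hw : w ⬝ᵥ w ≠ 0)
    (h : g * az u = az w * g) : ∃ t : GL (Fin 4) F, ∀ b, g ⬝ₘ (tm u b) = tm w ((t : MB) *ᵥ b) := by
  have hu0 : u ≠ 0 := fun h0 => hu (by rw [h0, zero_dotProduct])
  have hw0 : w ≠ 0 := fun h0 => hw (by rw [h0, zero_dotProduct])
  have mk : ∀ {g : GL κ F} {u w : VA}, u ⬝ᵥ u ≠ 0 → g * az u = az w * g →
      ∀ b, g ⬝ₘ (tm u b) = tm w (cu w (g ⬝ₘ (tm u b))) := by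
    intro g u w hu h b
    refine az_fix h2 ?_
    rw [← gl_mul_mulVec, ← h, gl_mul_mulVec, az_tm, zz_self hu]
  have h' : g⁻¹ * az w = az u * g⁻¹ := by
    rw [eq_mul_inv_iff_mul_eq, mul_assoc, ← h, inv_mul_cancel_left]
  let lin : GL κ F → VA → VA → VB →ₗ[F] VB := fun g u w =>
    { toFun := fun b => cu w (g ⬝ₘ (tm u b))
      map_add' := fun a b => by
        funext k
        simp only [cu, tm_add_right, Matrix.mulVec_add, Pi.add_apply, mul_add, Finset.sum_add_distrib]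
      map_smul' := fun c b => by
        funext k
        simp only [cu, tm_smul_right, Matrix.mulVec_smul, Pi.smul_apply, smul_eq_mul, RingHom.id_apply,
          Finset.mul_sum]
        exact Finset.sum_congr rfl fun i _ => by ring }
  have hinv : ∀ b, lin g⁻¹ w u (lin g u w b) = b := fun b => by
    refine tm_right_inj hu0 ?_
    show tm u (cu u (g⁻¹ ⬝ₘ (tm w (cu w (g ⬝ₘ (tm u b)))))) = _
    rw [← mk hw h', ← mk hu h, gl_inv_mulVec_cancel]
  have hinv' : ∀ b, lin g u w (lin g⁻¹ w u b) = b := fun b => by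
    refine tm_right_inj hw0 ?_
    show tm w (cu w (g ⬝ₘ (tm u (cu u (g⁻¹ ⬝ₘ (tm w b)))))) = _
    rw [← mk hu h, ← mk hw h', gl_mulVec_inv_cancel]
  refine ⟨⟨LinearMap.toMatrix' (lin g u w), LinearMap.toMatrix' (lin g⁻¹ w u), ?_, ?_⟩, fun b => ?_⟩
  · rw [← LinearMap.toMatrix'_comp, ← LinearMap.toMatrix'_id]
    exact congrArg _ (LinearMap.ext hinv')
  · rw [← LinearMap.toMatrix'_comp, ← LinearMap.toMatrix'_id]
    exact congrArg _ (LinearMap.ext hinv)
  · show _ = tm w (LinearMap.toMatrix' (lin g u w) *ᵥ b)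
    rw [LinearMap.toMatrix'_mulVec]
    exact mk hu h b

end Cfsg.Agent.Classical.TThreeFour
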