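import Cfsg.Agent.Lib.Classical.TensorThreeFour.Inverted
import Cfsg.Agent.Lib.Solv.UniqueSub

/-!
# The pointwise stabiliser of a block consists of pure elements
-/

set_option autoImplicit false
set_option linter.unusedSectionVars false

namespace Cfsg.Agent.Classical.TThreeFour

open Matrix Module Cfsg.Geo
open Cfsg.Agent.Classical Cfsg.Agent.Classical.TensorMax Cfsg.Agent.Classical.TensorMax.Form
open Cfsg.Agent.Classical.TensorMax.OO
open scoped Kronecker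

variable {F : Type*} [Field F] [Fintype F] {fb : (Fin 4 → F) → (Fin 4 → F) → F}
variable {X : Subgroup (GL (Fin 3 × Fin 4) F)}

local notation "VA" => Fin 3 → F
local notation "VB" => Fin 4 → F
local notation "M3" => Matrix (Fin 3) (Fin 3) F
local notation "MB" => Matrix (Fin 4) (Fin 4) F
local notation "κ" => Fin 3 × Fin 4
local notation "Mκ" => Matrix (Fin 3 × Fin 4) (Fin 3 × Fin 4) F
local notation "GB" => GL (Fin 4) F
local notation "E1" => (1 : GL (Fin 3) F)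
local notation:max g:max " ⬝ₘ " x:max =>
  ((g : GL (Fin 3 × Fin 4) F) : Matrix (Fin 3 × Fin 4) (Fin 3 × Fin 4) F) *ᵥ x

/-- The elements commuting with an involution and acting by a sign on its block. -/
def Fs (X : Subgroup (GL (Fin 3 × Fin 4) F)) (u : Fin 3 → F) : Subgroup (GL (Fin 3 × Fin 4) F) where
  carrier := {g | g ∈ X ∧ Commute g (az u) ∧ ∃ ε : F, ε * ε = 1 ∧
    ∀ b, (g : Matrix (Fin 3 × Fin 4) (Fin 3 × Fin 4) F) *ᵥ tm u b = ε • tm u b}
  one_mem' := ⟨one_mem _, Commute.one_left _, 1, mul_one 1, fun b => by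
    rw [Units.val_one, Matrix.one_mulVec, one_smul]⟩
  mul_mem' := fun {a b} ha hb => by
    obtain ⟨ε, h1, h1'⟩ := ha.2.2
    obtain ⟨δ, h2, h2'⟩ := hb.2.2
    exact ⟨mul_mem ha.1 hb.1, ha.2.1.mul_left hb.2.1, ε * δ, by rw [mul_mul_mul_comm, h1, h2, one_mul], fun c => by
      rw [gl_mul_mulVec, h2', Matrix.mulVec_smul, h1', smul_smul, mul_comm]⟩
  inv_mem' := fun {a} ha => by
    obtain ⟨ε, h1, h1'⟩ := ha.2.2
    refine ⟨inv_mem ha.1, ha.2.1.inv_left, ε, h1, fun c => ?_⟩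
    conv_lhs => rw [← one_smul F (tm u c), ← h1, ← smul_smul, ← h1', Matrix.mulVec_smul, gl_inv_mulVec_cancel]

theorem az_ne_one (h2 : (2 : F) ≠ 0) {u v w : VA} (P : Frame u v w) : az u ≠ (1 : GL κ F) := fun h => by
  have e := congrArg (fun g : GL κ F => g ⬝ₘ (tm v (Pi.single 0 1 : VB))) h
  simp only [az_tm, zz_perp P.uv, Units.val_one, Matrix.one_mulVec] at e
  have e2 : tm ((2 : F) • v) (Pi.single 0 1 : VB) = 0 := by
    rw [two_smul, tm_add_left]
    nth_rewrite 1 [← e]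
    rw [← tm_add_left, neg_add_cancel, tm_zero_left]
  rcases tm_eq_zero e2 with h' | h'
  · rcases smul_eq_zero.mp h' with h'' | h''
    · exact h2 h''
    · exact P.vv (by rw [h'', zero_dotProduct])
  · simp at h'

variable (C : Ctx fb X)

include C

/-- The pointwise stabiliser of a block is pure, given the centraliser of two involutions. -/
theorem triv_of {u v w : VA} (P : Frame u v w)
    (base : ∀ g ∈ X, Commute g (az u) → Commute g (az v) → g ∈ Kr (Fin 3) (Fin 4) F) : Triv X u := by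
  classical
  have S := C.S
  have hu0 : u ≠ 0 := fun h => P.uu (by rw [h, zero_dotProduct])
  -- the common centraliser
  have diag : ∀ g ∈ Fs X u, Commute g (az v) → ∃ s ∈ Rot F, g = kr s 1 ∧
      ((s : M3) *ᵥ u = u ∨ (s : M3) *ᵥ u = -u) ∧ ((s : M3) *ᵥ v = v ∨ (s : M3) *ᵥ v = -v) ∧
      ((s : M3) *ᵥ w = w ∨ (s : M3) *ᵥ w = -w) := by
    intro g hg hgv
    obtain ⟨s, t, rfl⟩ := base g hg.1 hg.2.1 hgv
    obtain ⟨ε, hε, he⟩ := hg.2.2
    obtain ⟨s', hs'⟩ := kr_one_blocks (g := kr s t) S fun l _ => by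
      obtain ⟨k, hk⟩ : ∃ k : F, (t : MB) = k • 1 := scalar_of_lines S _ fun o _ => by
        by_cases hsu : (s : M3) *ᵥ u = 0
        · exact absurd ((Matrix.mulVec_injective_of_isUnit (Units.isUnit s))
            (by rw [hsu, Matrix.mulVec_zero])) hu0
        have e := he o
        rw [kr_tm, ← tm_smul_left] at e
        by_cases ht : (t : MB) *ᵥ o = 0
        · exact ⟨0, by rw [ht, zero_smul]⟩
        obtain ⟨c, hc, -, hc'⟩ := tm_inj e hsu ht
        exact ⟨c⁻¹, (eq_inv_smul_iff₀ hc).mpr hc'.symm⟩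
      rw [kr_mul, kr_mul, mul_one, one_mul, (cent_of_scalar hk l).eq]
    rw [hs'] at hgv hg he ⊢
    have hr := kr_rot C hg.1
    have ho := orth_rot hr
    have hsv : s' * zz v = zz v * s' := by
      refine Units.ext (Matrix.ext_iff_mulVec.mpr fun a => ?_)
      have e := congrArg (fun g : GL κ F => g ⬝ₘ (tm a (Pi.single 0 1 : VB))) hgv.eq
      simp only [az, kr_mul, kr_tm, mul_one, one_mul, Units.val_one, Matrix.one_mulVec] at e
      have h0 : tm (((s' * zz v : GL (Fin 3) F) : M3) *ᵥ a - ((zz v * s' : GL (Fin 3) F) : M3) *ᵥ a)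
          (Pi.single 0 1 : VB) = 0 := by rw [tm_sub_left, e, sub_self]
      exact sub_eq_zero.mp ((tm_eq_zero h0).resolve_right (by simp))
    have hu' : (s' : M3) *ᵥ u = u ∨ (s' : M3) *ᵥ u = -u := by
      have e := kr_fix (c := ε) he
      rcases mul_self_eq_one_iff.mp hε with rfl | rfl
      · exact Or.inl (by rw [e, one_smul])
      · exact Or.inr (by rw [e, neg_one_smul])
    have hv' := commute_zz ho P.vv S.h2 hsv
    refine ⟨s', hr, rfl, hu', hv', ?_⟩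
    rw [P.eq, rot_cross ho (det_rot hr)]
    rcases hu' with a | a <;> rcases hv' with b | b <;> rw [a, b] <;>
      simp
  have dcomm : ∀ g h : GL κ F, g ∈ Fs X u → Commute g (az v) → h ∈ Fs X u → Commute h (az v) →
      Commute g h ∧ g * g = 1 := by
    intro g h hg hgv hh hhv
    obtain ⟨s, -, rfl, a, b, c⟩ := diag g hg hgv
    obtain ⟨s', -, rfl, a', b', c'⟩ := diag h hh hhv
    refine ⟨?_, ?_⟩
    · show kr s 1 * kr s' 1 = kr s' 1 * kr s 1
      rw [kr_mul, kr_mul]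
      congr 1
      refine Units.ext (P.ext_mulVec ?_ ?_ ?_) <;> simp only [Units.val_mul, ← Matrix.mulVec_mulVec]
      · rcases a with a | a <;> rcases a' with a' | a' <;> simp [a, a', Matrix.mulVec_neg]
      · rcases b with b | b <;> rcases b' with b' | b' <;> simp [b, b', Matrix.mulVec_neg]
      · rcases c with c | c <;> rcases c' with c' | c' <;> simp [c, c', Matrix.mulVec_neg]
    · rw [kr_mul, one_mul, show s * s = 1 from ?_, kr_one]
      refine Units.ext (P.ext_mulVec ?_ ?_ ?_) <;>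
        simp only [Units.val_mul, Units.val_one, Matrix.one_mulVec, ← Matrix.mulVec_mulVec]
      · rcases a with a | a <;> simp [a, Matrix.mulVec_neg]
      · rcases b with b | b <;> simp [b, Matrix.mulVec_neg]
      · rcases c with c | c <;> simp [c, Matrix.mulVec_neg]
  -- the involutions
  obtain ⟨α, hαdef⟩ : ∃ α, α = (az v : GL κ F) := ⟨_, rfl⟩
  have hzc : Commute (az v) (az u : GL κ F) := by
    show az v * az u = az u * az v
    rw [az, az, kr_mul, kr_mul, P.zz_mul, P.swap.zz_mul, ← neg_one_smul F w,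
      zz_smul (neg_ne_zero.mpr one_ne_zero)]
  have hα : α ∈ Fs X u := by
    rw [hαdef]
    exact ⟨C.az_mem P.vv, hzc, -1, by ring, fun b => by
      rw [az_tm, zz_perp (by rw [dotProduct_comm]; exact P.uv), neg_one_smul, ← neg_one_smul F u, tm_smul_left,
        neg_one_smul]⟩
  have hsmallS : ∀ l ∈ SGen fb, ∀ g ∈ Fs X u, kr E1 l * g * (kr E1 l)⁻¹ ∈ Fs X u := by
    intro l hl g hg
    obtain ⟨ε, hε, he⟩ := hg.2.2
    refine ⟨mul_mem (mul_mem (C.small l hl) hg.1) (inv_mem (C.small l hl)),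
      ((kr_commute_az u l).mul_left hg.2.1).mul_left (kr_commute_az u l).inv_left, ε, hε, fun b => ?_⟩
    rw [gl_mul_mulVec, gl_mul_mulVec, kr_inv, kr_tm, inv_one, Units.val_one, Matrix.one_mulVec, he,
      Matrix.mulVec_smul, kr_tm, Units.val_one, Matrix.one_mulVec, gl_mulVec_inv_cancel]
  -- a maximal centralised two-subgroup
  let Gd : Subgroup (GL κ F) → Prop := fun Q => Q ≤ Fs X u ∧ IsPGroup 2 Q ∧
    ∀ q ∈ Q, ∀ l ∈ SGen fb, Commute q (kr E1 l)
  have hα2 : α * α = 1 := by rw [hαdef, az_sq]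
  have hαc : ∀ l ∈ SGen fb, Commute α (kr E1 l) := fun l _ => by rw [hαdef]; exact (kr_commute_az v l).symm
  have hbase : Gd (Subgroup.zpowers α) := by
    refine ⟨Subgroup.zpowers_le.mpr hα, ?_, fun q hq l hl => ?_⟩
    · refine IsPGroup.iff_card.mpr ?_
      rw [Nat.card_zpowers]
      obtain ⟨k, -, hk⟩ := (Nat.dvd_prime_pow Nat.prime_two).mp
        (show orderOf α ∣ 2 ^ 1 from orderOf_dvd_of_pow_eq_one (by rw [pow_one, pow_two, hα2]))
      exact ⟨k, hk⟩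
    · obtain ⟨z, rfl⟩ := hq
      exact (hαc l hl).zpow_left z
  obtain ⟨Q, hQα, hQmax⟩ := Finite.exists_le_maximal (p := Gd) hbase
  obtain ⟨hQle, hQp, hQc⟩ := hQmax.1
  have hαQ : α ∈ Q := hQα (Subgroup.mem_zpowers α)
  -- its normaliser is centralised
  have hnorm : ∀ y ∈ Fs X u, (∀ q ∈ Q, y⁻¹ * q * y ∈ Q) → ∀ l ∈ SGen fb, Commute y (kr E1 l) := by
    intro y hy hyQ
    have hz : ∀ l ∈ SGen fb, y * kr E1 l * y⁻¹ * (kr E1 l)⁻¹ ∈ Fs X u ∧
        Commute (y * kr E1 l * y⁻¹ * (kr E1 l)⁻¹) (az v) := fun l hl => by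
      refine ⟨?_, ?_⟩
      · rw [show y * kr E1 l * y⁻¹ * (kr E1 l)⁻¹ = y * (kr E1 l * y⁻¹ * (kr E1 l)⁻¹) by group]
        exact mul_mem hy (hsmallS l hl _ (inv_mem hy))
      · have h1 := hQc _ (hyQ α hαQ) l hl
        have h2 := hαc l hl
        rw [← hαdef]
        show y * kr E1 l * y⁻¹ * (kr E1 l)⁻¹ * α = α * (y * kr E1 l * y⁻¹ * (kr E1 l)⁻¹)
        calc y * kr E1 l * y⁻¹ * (kr E1 l)⁻¹ * α = y * (kr E1 l * (y⁻¹ * α * y)) * y⁻¹ * (kr E1 l)⁻¹ := by
              rw [mul_assoc _ (kr E1 l)⁻¹ α, h2.inv_right.symm.eq]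
              group
          _ = _ := by rw [← h1.eq]; group
    have hr := ratio_trivial S (fun l => y * kr E1 l * y⁻¹) (fun l => kr E1 l)
      (fun a _ b _ => by rw [show y * kr E1 a * y⁻¹ * (y * kr E1 b * y⁻¹) = y * (kr E1 a * kr E1 b) * y⁻¹ by group,
        kr_mul, one_mul])
      (fun a _ b _ => by rw [kr_mul, one_mul])
      (fun a ha b _ => by
        obtain ⟨s, -, e, -⟩ := diag _ (hz a ha).1 (hz a ha).2
        rw [e]
        exact kr_commute_one s b)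
      (fun a ha b hb => (dcomm _ _ (hz a ha).1 (hz a ha).2 (hz b hb).1 (hz b hb).2).1)
    intro l hl
    exact mul_inv_eq_iff_eq_mul.mp (hr l hl)
  -- it is a Sylow subgroup
  obtain ⟨Ψ, hΨ⟩ : ∃ Ψ, Ψ = Q.subgroupOf (Fs X u) := ⟨_, rfl⟩
  obtain ⟨Syl, hSyl⟩ := IsPGroup.exists_le_sylow (p := 2) (G := ↥(Fs X u)) (P := Ψ)
    (hΨ ▸ hQp.comap_of_injective (Fs X u).subtype Subtype.val_injective)
  have heq : ∀ g : ↥(Fs X u), g ∈ (Syl : Subgroup ↥(Fs X u)) → g.1 ∈ Q := by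
    by_contra hcon
    push Not at hcon
    obtain ⟨g₀, hg₀, hg₀Q⟩ := hcon
    haveI : Group.IsNilpotent ↥(Syl : Subgroup ↥(Fs X u)) := Syl.isPGroup'.isNilpotent
    have hlt : Ψ.subgroupOf (Syl : Subgroup ↥(Fs X u)) < ⊤ := lt_of_le_of_ne le_top fun e => hg₀Q (by
      have : (⟨g₀, hg₀⟩ : ↥(Syl : Subgroup ↥(Fs X u))) ∈ Ψ.subgroupOf _ := e ▸ Subgroup.mem_top _
      rw [hΨ] at this
      exact this)
    have hnc := Group.normalizerCondition_of_isNilpotent _ hlt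
    obtain ⟨⟨y, hyP⟩, hy, hyQ⟩ := SetLike.exists_of_lt hnc
    have hyn : ∀ q ∈ Q, y.1⁻¹ * q * y.1 ∈ Q := fun q hq => by
      have hq' : (⟨q, hQle hq⟩ : ↥(Fs X u)) ∈ Ψ := hΨ ▸ hq
      have := (Subgroup.mem_normalizer_iff''.mp hy ⟨_, hSyl hq'⟩).mp hq'
      rw [hΨ] at this
      exact this
    refine hyQ ?_
    show y ∈ Ψ
    rw [hΨ]
    show y.1 ∈ Q
    have hc := hnorm y.1 y.2 hyn
    have hcomm : ∀ z ∈ Q ⊔ Subgroup.zpowers y.1, ∀ l ∈ SGen fb, Commute z (kr E1 l) := by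
      intro z hz l hl
      have : Q ⊔ Subgroup.zpowers y.1 ≤ Subgroup.centralizer {kr E1 l} := sup_le
        (fun q hq => Subgroup.mem_centralizer_singleton_iff.mpr (hQc q hq l hl).eq)
        (Subgroup.zpowers_le.mpr (Subgroup.mem_centralizer_singleton_iff.mpr (hc l hl).eq))
      exact Subgroup.mem_centralizer_singleton_iff.mp (this hz)
    have hp : IsPGroup 2 ↥(Q ⊔ Subgroup.zpowers y.1) := by
      refine IsPGroup.to_le (Syl.isPGroup'.map (Fs X u).subtype) (sup_le (fun q hq => ?_) ?_)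
      · exact ⟨⟨q, hQle hq⟩, hSyl (hΨ ▸ hq), rfl⟩
      · exact Subgroup.zpowers_le.mpr ⟨y, hyP, rfl⟩
    exact hQmax.le_of_ge ⟨sup_le hQle (Subgroup.zpowers_le.mpr y.2), hp, hcomm⟩ le_sup_left
      ((le_sup_right : _ ≤ Q ⊔ _) (Subgroup.mem_zpowers y.1))
  have hSylc : ∀ g : ↥(Fs X u), g ∈ (Syl : Subgroup ↥(Fs X u)) → ∃ s : GL (Fin 3) F, g.1 = kr s 1 := fun g hg =>
    kr_one_blocks S fun l hl => (hQc _ (heq g hg) l hl).eq
  -- the stabiliser
  obtain ⟨R, hR⟩ : ∃ R, R = Fx X u := ⟨_, rfl⟩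
  have hRS : ∀ g ∈ R, g ∈ Fs X u := fun g hg => by
    rw [hR] at hg
    exact ⟨hg.1, hg.2.1, 1, mul_one 1, fun b => by rw [one_smul]; exact hg.2.2 b⟩
  have hRnorm : ∀ y ∈ Fs X u, ∀ g ∈ R, y * g * y⁻¹ ∈ R := fun y hy g hg => by
    rw [hR] at hg ⊢
    obtain ⟨ε, hε, he⟩ := (inv_mem hy).2.2
    refine ⟨mul_mem (mul_mem hy.1 hg.1) (inv_mem hy.1), (hy.2.1.mul_left hg.2.1).mul_left hy.2.1.inv_left,
      fun b => ?_⟩
    rw [gl_mul_mulVec, gl_mul_mulVec, he, Matrix.mulVec_smul, hg.2.2, ← he, gl_mulVec_inv_cancel]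
  have hRl : ∀ l ∈ SGen fb, ∀ g ∈ R, kr E1 l * g * (kr E1 l)⁻¹ ∈ R := fun l hl g hg => by
    rw [hR] at hg ⊢
    refine ⟨mul_mem (mul_mem (C.small l hl) hg.1) (inv_mem (C.small l hl)),
      ((kr_commute_az u l).mul_left hg.2.1).mul_left (kr_commute_az u l).inv_left, fun b => ?_⟩
    rw [gl_mul_mulVec, gl_mul_mulVec, kr_inv, kr_tm, inv_one, Units.val_one, Matrix.one_mulVec, hg.2.2, kr_tm,
      Units.val_one, Matrix.one_mulVec, gl_mulVec_inv_cancel]
  haveI : Fact (Nat.Prime 2) := ⟨Nat.prime_two⟩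
  obtain ⟨P₀⟩ : Nonempty (Sylow 2 ↥R) := inferInstance
  obtain ⟨T, hT⟩ := IsPGroup.exists_le_sylow (p := 2) (G := ↥(Fs X u))
    (P := (P₀ : Subgroup ↥R).map (Subgroup.inclusion hRS)) (P₀.isPGroup'.map _)
  obtain ⟨y, hy⟩ := MulAction.exists_smul_eq ↥(Fs X u) T Syl
  have hconj : ∀ g : ↥R, g ∈ (P₀ : Subgroup ↥R) →
      y.1 * g.1 * y.1⁻¹ ∈ R ∧ ∃ s : GL (Fin 3) F, y.1 * g.1 * y.1⁻¹ = kr s 1 := fun g hg => by
    refine ⟨hRnorm _ y.2 _ g.2, hSylc ⟨y.1 * g.1 * y.1⁻¹, mul_mem (mul_mem y.2 (hRS _ g.2)) (inv_mem y.2)⟩ ?_⟩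
    have h1 : MulAut.conj y (Subgroup.inclusion hRS g) ∈ ((y • T : Sylow 2 ↥(Fs X u)) : Subgroup ↥(Fs X u)) := by
      rw [Sylow.coe_subgroup_smul]
      exact Subgroup.smul_mem_pointwise_smul _ _ _ (hT ⟨g, hg, rfl⟩)
    rw [hy] at h1
    exact h1
  have hrot : ∀ g : ↥R, g ∈ (P₀ : Subgroup ↥R) →
      ∃ s ∈ Rot F, (s : M3) *ᵥ u = u ∧ y.1 * g.1 * y.1⁻¹ = kr s 1 := fun g hg => by
    obtain ⟨h1', s, hs⟩ := hconj g hg
    have h1 := (SetLike.ext_iff.mp hR _).mp h1'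
    rw [hs] at h1
    exact ⟨s, kr_rot C h1.1, by simpa using kr_fix (c := (1 : F)) (fun b => by rw [h1.2.2 b, one_smul]), hs⟩
  have hab : ∀ g h : ↥R, g ∈ (P₀ : Subgroup ↥R) → h ∈ (P₀ : Subgroup ↥R) → g * h = h * g := fun g h hg hh => by
    obtain ⟨s, hs, hsu, e⟩ := hrot g hg
    obtain ⟨s', hs', hsu', e'⟩ := hrot h hh
    refine Subtype.ext ?_
    have key : (y.1 * g.1 * y.1⁻¹) * (y.1 * h.1 * y.1⁻¹) = (y.1 * h.1 * y.1⁻¹) * (y.1 * g.1 * y.1⁻¹) := by
      rw [e, e', kr_mul, kr_mul, P.rot_comm (orth_rot hs) (det_rot hs) hsu (orth_rot hs') (det_rot hs') hsu']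
    rw [show (y.1 * g.1 * y.1⁻¹) * (y.1 * h.1 * y.1⁻¹) = y.1 * (g.1 * h.1) * y.1⁻¹ by group,
      show (y.1 * h.1 * y.1⁻¹) * (y.1 * g.1 * y.1⁻¹) = y.1 * (h.1 * g.1) * y.1⁻¹ by group] at key
    exact mul_left_cancel (mul_right_cancel key)
  have hinvol : ∀ g : ↥R, g ∈ (P₀ : Subgroup ↥R) → g * g = 1 → g = 1 ∨ y.1 * g.1 * y.1⁻¹ = az u := fun g hg hgg => by
    obtain ⟨s, hs, hsu, e⟩ := hrot g hg
    have e2 : kr (s * s) (1 : GB) = 1 := by
      rw [show kr (s * s) (1 : GB) = kr s 1 * kr s 1 by rw [kr_mul, one_mul], ← e, show (y.1 * g.1 * y.1⁻¹) * (y.1 * g.1 * y.1⁻¹) =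
        y.1 * ((g * g : ↥R) : GL κ F) * y.1⁻¹ by rw [Subgroup.coe_mul]; group, hgg, Subgroup.coe_one, mul_one,
        mul_inv_cancel]
    have hss : s * s = 1 := Units.ext (Matrix.ext_iff_mulVec.mpr fun a => by
      rw [Units.val_one, Matrix.one_mulVec]
      exact (kr_fix (c := (1 : F)) (u' := a)
        (fun b => by rw [e2, Units.val_one, Matrix.one_mulVec, one_smul])).trans (one_smul F _))
    rcases P.rot_invol S.h2 (orth_rot hs) (det_rot hs) hsu hss with rfl | rfl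
    · refine Or.inl (Subtype.ext ?_)
      rw [kr_one] at e
      exact conj_eq_one_iff.mp e
    · exact Or.inr e
  -- cyclic
  have hcyc : IsCyclic ↥(P₀ : Subgroup ↥R) := by
    have hu : Cfsg.Agent.Solv.UniqueOrderP 2 ↥(P₀ : Subgroup ↥R) := fun a b ha hb hb1 => by
      rw [pow_two] at ha hb
      rcases hinvol a.1 a.2 (congrArg Subtype.val ha) with h | h
      · rw [show a = 1 from Subtype.ext h]; exact one_mem _
      rcases hinvol b.1 b.2 (congrArg Subtype.val hb) with h' | h'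
      · exact absurd (Subtype.ext h') hb1
      rw [show a = b from Subtype.ext (Subtype.ext (mul_left_cancel (mul_right_cancel (h.trans h'.symm))))]
      exact Subgroup.mem_zpowers b
    obtain ⟨a, -, ha⟩ := Cfsg.Agent.Solv.abelian_cyclic_of_unique P₀.isPGroup' hu ⊤
      (fun a _ b _ => Subtype.ext (hab a.1 b.1 a.2 b.2))
    exact ⟨⟨a, fun x => by have h := Subgroup.mem_top x; rwa [ha] at h⟩⟩
  have haz : az u ∈ R := by
    rw [hR]
    exact ⟨C.az_mem P.uu, Commute.refl _, fun b => by rw [az_tm, zz_self P.uu]⟩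
  have hmin : (Nat.card ↥R).minFac = 2 := by
    rw [Nat.minFac_eq_two_iff]
    have ho : orderOf (⟨az u, haz⟩ : ↥R) = 2 := orderOf_eq_prime (by rw [pow_two]; exact Subtype.ext (az_sq u))
      fun h => az_ne_one S.h2 P (congrArg Subtype.val h)
    exact ho ▸ orderOf_dvd_natCard _
  -- the normal complement
  obtain ⟨N, hN, hNn⟩ : ∃ N : Subgroup ↥R, N.IsComplement' P₀ ∧ N.Normal :=
    ⟨_, IsCyclic.isComplement' hmin hcyc, inferInstance⟩
  have hcop : (Nat.card ↥N).Coprime (Nat.card ↥(P₀ : Subgroup ↥R)) := by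
    obtain ⟨k, hk⟩ := P₀.isPGroup'.exists_card_eq
    rw [hk]
    refine (Nat.Prime.coprime_iff_not_dvd Nat.prime_two).mpr ?_ |>.symm |>.pow_right k
    rw [← hN.index_eq_card]
    exact P₀.not_dvd_index
  have hchar : ∀ g : ↥R, g ∈ N ↔ g ^ Nat.card ↥N = 1 := fun g => by
    haveI := hNn
    refine ⟨fun hg => congrArg Subtype.val (pow_card_eq_one' (x := (⟨g, hg⟩ : ↥N))), fun hg => ?_⟩
    rw [← QuotientGroup.eq_one_iff, ← orderOf_eq_one_iff]
    refine Nat.eq_one_of_dvd_coprimes hcop (orderOf_dvd_of_pow_eq_one (by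
      rw [← QuotientGroup.mk_pow, hg, QuotientGroup.mk_one])) ?_
    rw [← hN.symm.index_eq_card]
    exact orderOf_dvd_natCard _
  obtain ⟨M, hM⟩ : ∃ M : Subgroup (GL κ F), M = N.map R.subtype := ⟨_, rfl⟩
  have hMR : ∀ g ∈ M, g ∈ R := by
    rw [hM]; rintro g ⟨z, -, rfl⟩; exact z.2
  have hMiff : ∀ g ∈ R, (g ∈ M ↔ g ^ Nat.card ↥N = 1) := fun g hg => by
    rw [hM]
    constructor
    · rintro ⟨z, hz, rfl⟩
      have := congrArg Subtype.val ((hchar z).mp hz)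
      simpa using this
    · exact fun h => ⟨⟨g, hg⟩, (hchar _).mpr (Subtype.ext (by simpa using h)), rfl⟩
  have hMconj : ∀ z : GL κ F, (∀ g ∈ R, z * g * z⁻¹ ∈ R) → ∀ g ∈ M, z * g * z⁻¹ ∈ M := fun z hz g hg => by
    rw [hMiff _ (hz g (hMR g hg)), conj_pow, (hMiff g (hMR g hg)).mp hg, mul_one, mul_inv_cancel]
  have hαinv : α⁻¹ = α := inv_eq_of_mul_eq_one_left hα2
  have hMα : ∀ g ∈ M, α * g * α ∈ M := fun g hg => by
    have := hMconj α (fun g hg => hRnorm α hα g hg) g hg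
    rwa [hαinv] at this
  -- no fixed points
  have hfree : ∀ g ∈ M, Commute g α → g = 1 := fun g hg hc => by
    have h2' := (dcomm g g (hRS _ (hMR g hg)) (hαdef ▸ hc) (hRS _ (hMR g hg)) (hαdef ▸ hc)).2
    have hodd : ¬ 2 ∣ Nat.card ↥N := by
      rw [← hN.index_eq_card]
      exact P₀.not_dvd_index
    have h1 : orderOf g ∣ 2 := orderOf_dvd_of_pow_eq_one (by rw [pow_two, h2'])
    have h3 : orderOf g ∣ Nat.card ↥N := orderOf_dvd_of_pow_eq_one ((hMiff g (hMR g hg)).mp hg)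
    rw [← orderOf_eq_one_iff]
    exact ((Nat.dvd_prime Nat.prime_two).mp h1).resolve_right fun h => hodd (h ▸ h3)
  have hinvert : ∀ g ∈ M, α * g * α = g⁻¹ := by
    let φ : ↥M → ↥M := fun g => ⟨g.1⁻¹ * (α * g.1 * α), mul_mem (inv_mem g.2) (hMα g.1 g.2)⟩
    have hinj : Function.Injective φ := fun a b hab' => by
      have e : a.1⁻¹ * (α * a.1 * α) = b.1⁻¹ * (α * b.1 * α) := congrArg Subtype.val hab'
      have hc : Commute (b.1 * a.1⁻¹) α := by
        show b.1 * a.1⁻¹ * α = α * (b.1 * a.1⁻¹)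
        calc b.1 * a.1⁻¹ * α = b.1 * (a.1⁻¹ * (α * a.1 * α)) * α⁻¹ * a.1⁻¹ * (α⁻¹ * α) := by group
          _ = _ := by rw [e]; group
      exact Subtype.ext (mul_inv_eq_one.mp (hfree _ (mul_mem b.2 (inv_mem a.2)) hc)).symm
    intro g hg
    obtain ⟨a, ha⟩ := (Finite.injective_iff_surjective.mp hinj) ⟨g, hg⟩
    have e : a.1⁻¹ * (α * a.1 * α) = g := congrArg Subtype.val ha
    rw [← e]
    have e2 : α * (a.1⁻¹ * (α * a.1 * α)) * α = α * a.1⁻¹ * α * a.1 := by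
      calc α * (a.1⁻¹ * (α * a.1 * α)) * α = α * a.1⁻¹ * α * a.1 * (α * α) := by group
        _ = _ := by rw [hα2, mul_one]
    rw [e2, _root_.mul_inv_rev, _root_.mul_inv_rev, _root_.mul_inv_rev, hαinv, inv_inv]
    group
  have hMab : ∀ g ∈ M, ∀ h ∈ M, Commute g h := fun g hg h hh => by
    have e1 := hinvert _ (mul_mem hg hh)
    have e : α * (g * h) * α = α * g * α * (α * h * α) := by
      calc α * (g * h) * α = α * g * (α * α) * h * α := by rw [hα2, mul_one]; group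
        _ = _ := by group
    rw [e, hinvert g hg, hinvert h hh, _root_.mul_inv_rev] at e1
    exact (Commute.inv_inv_iff).mp e1
  have hMc := inverted_central C P M (fun g hg => by have := hMR g hg; rw [hR] at this; exact this.1) hMab
    (fun g hg => by have := hMR g hg; rw [hR] at this; exact this.2.1)
    (fun g hg => by have := hMR g hg; rw [hR] at this; exact this.2.2)
    (fun g hg => hαdef ▸ hinvert g hg) (fun l hl g hg => hMconj _ (hRl l hl) g hg)
  -- the centralised part is everything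
  let C₀ : Subgroup ↥R :=
    { carrier := {g | ∀ l ∈ SGen fb, Commute g.1 (kr E1 l)}
      one_mem' := fun l _ => Commute.one_left _
      mul_mem' := fun ha hb l hl => (ha l hl).mul_left (hb l hl)
      inv_mem' := fun ha l hl => (ha l hl).inv_left }
  let c : ↥R →* ↥R :=
    MonoidHom.mk' (fun g => ⟨y.1 * g.1 * y.1⁻¹, hRnorm _ y.2 _ g.2⟩) fun a b => Subtype.ext (by
      show y.1 * (a.1 * b.1) * y.1⁻¹ = y.1 * a.1 * y.1⁻¹ * (y.1 * b.1 * y.1⁻¹)
      group)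
  have hc_inj : Function.Injective c := fun a b e =>
    Subtype.ext (mul_left_cancel (mul_right_cancel (congrArg Subtype.val e)))
  have hN0 : N ≤ C₀ := fun g hg l hl => hMc g.1 (hM ▸ ⟨g, hg, rfl⟩) l hl
  have hP0 : (P₀ : Subgroup ↥R).map c ≤ C₀ := by
    rintro _ ⟨g, hg, rfl⟩ l hl
    obtain ⟨-, s, hs⟩ := hconj g hg
    show Commute (y.1 * g.1 * y.1⁻¹) _
    rw [hs]
    exact kr_commute_one s l
  have htop : C₀ = ⊤ := by
    refine Subgroup.eq_top_of_le_card _ (Nat.le_of_dvd Nat.card_pos ?_)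
    rw [← Subgroup.IsComplement'.card_mul_card hN]
    refine Nat.Coprime.mul_dvd_of_dvd_of_dvd hcop (Subgroup.card_dvd_of_le hN0) ?_
    rw [← Nat.card_congr ((P₀ : Subgroup ↥R).equivMapOfInjective c hc_inj).toEquiv.symm]
    exact Subgroup.card_dvd_of_le hP0
  intro r hr
  have : (⟨r, hR ▸ hr⟩ : ↥R) ∈ C₀ := htop ▸ Subgroup.mem_top _
  exact kr_one_blocks S fun l hl => (this l hl).eq

end Cfsg.Agent.Classical.TThreeFour
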