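import Cfsg.Agent.Lib.Classical.TensorThreeFour.Minus
import Mathlib.FieldTheory.Perfect

/-!
# A matrix commuting with its conjugates under the group is scalar
-/

set_option autoImplicit false
set_option linter.unusedSectionVars false

namespace Cfsg.Agent.Classical.TThreeFour

open Matrix Module Cfsg.Geo
open Cfsg.Agent.Classical Cfsg.Agent.Classical.TensorMax.OO

variable {F : Type*} [Field F] [Fintype F] {f : (Fin 4 → F) → (Fin 4 → F) → F}

local notation "VB" => Fin 4 → F
local notation "MB" => Matrix (Fin 4) (Fin 4) F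
local notation:max g:max " •ᵥ " x:max => ((g : GL (Fin 4) F) : Matrix (Fin 4) (Fin 4) F) *ᵥ x

variable (S : Minus f)

include S

/-- A root element is an exponential. -/
theorem exists_exp {o w : VB} (ho : f o o = 0) (hw : f w o = 0) :
    ∃ N : MB, ∀ (c : F) (t : GL (Fin 4) F), Sg f o (c • w) t → (t : MB) = 1 + c • N + (c ^ 2 * 2⁻¹) • (N * N) := by
  let L : VB →ₗ[F] VB :=
    { toFun := fun x => f x o • w - f x w • o
      map_add' := fun x y => by simp only [ladd S.H]; module
      map_smul' := fun r x => by simp only [lsmul S.H, RingHom.id_apply]; module }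
  refine ⟨LinearMap.toMatrix' L, fun c t ht => Matrix.ext_iff_mulVec.mpr fun x => ?_⟩
  rw [ht]
  simp only [Matrix.add_mulVec, Matrix.smul_mulVec, Matrix.one_mulVec, ← Matrix.mulVec_mulVec]
  simp only [← Matrix.toLin'_apply, Matrix.toLin'_toMatrix', L, LinearMap.coe_mk, AddHom.coe_mk]
  simp only [lsub S.H, lsmul S.H, rsmul S.H, ho, hw, S.symm w o]
  have := S.h2
  match_scalars <;> field_simp <;> ring

/-- Commuting with the conjugates by a root group gives a vanishing double commutator. -/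
theorem ad_two {A N : MB} (hN : ∀ c : F, ∃ t : GL (Fin 4) F, ∃ s : GL (Fin 4) F,
    (t : MB) = 1 + c • N + (c ^ 2 * 2⁻¹) • (N * N) ∧ (s : MB) = 1 + (-c) • N + (c ^ 2 * 2⁻¹) • (N * N) ∧
    Commute A ((t : MB) * A * (s : MB))) : Commute A (N * A - A * N) := by
  obtain ⟨M, hM⟩ : ∃ M, M = (2⁻¹ : F) • (N * N) := ⟨_, rfl⟩
  obtain ⟨X, hX⟩ : ∃ X, X = N * A * M - M * A * N := ⟨_, rfl⟩
  have key : ∀ c : F, c ≠ 0 →
      (A * (N * A - A * N) - (N * A - A * N) * A) + c ^ 2 • (A * X - X * A) = 0 := by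
    intro c hc
    obtain ⟨t, s, ht, hs, h⟩ := hN c
    obtain ⟨t', s', ht', hs', h'⟩ := hN (-c)
    rw [neg_sq, neg_neg] at hs'
    rw [neg_sq] at ht'
    have e := h.eq
    have e' := h'.eq
    rw [ht, hs] at e
    rw [ht', hs'] at e'
    have h2c : (2 * c : F) ≠ 0 := mul_ne_zero S.h2 hc
    refine (smul_eq_zero.mp (?_ : (2 * c) • _ = (0 : MB))).resolve_left h2c
    rw [← sub_eq_zero] at e e'
    rw [← sub_zero (0 : MB)]
    nth_rewrite 1 [← e]
    nth_rewrite 1 [← e']
    rw [hX, hM]
    simp only [mul_add, add_mul, mul_sub, sub_mul, smul_add, smul_sub, Matrix.smul_mul, Matrix.mul_smul, smul_smul,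
      one_mul, mul_one, mul_assoc, neg_smul, mul_neg, neg_mul, smul_neg, pow_two, neg_neg]
    module
  obtain ⟨a, ha0, ha⟩ : ∃ a : F, a ≠ 0 ∧ a ^ 2 ≠ 1 := by
    classical
    by_contra hcon
    push Not at hcon
    have := (Finset.card_le_card (s := (Finset.univ : Finset F)) (t := ({0, 1, -1} : Finset F)) fun a _ => by
      by_cases ha : a = 0
      · simp [ha]
      · rcases sq_eq_one_iff.mp (hcon a ha) with h | h <;> simp [h]).trans Finset.card_le_three
    rw [Finset.card_univ] at this
    have := S.q5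
    omega
  have h1 := key 1 one_ne_zero
  have ha' := key a ha0
  rw [one_pow, one_smul] at h1
  have hZ : A * X - X * A = 0 := by
    have : (a ^ 2 - 1) • (A * X - X * A) = 0 := by
      rw [sub_smul, one_smul, sub_eq_zero]
      exact add_left_cancel (ha'.trans h1.symm)
    exact (smul_eq_zero.mp this).resolve_left (sub_ne_zero.mpr ha)
  rw [hZ, add_zero, sub_eq_zero] at h1
  exact h1

omit [Fintype F] S in
/-- A commutator commuting with the first factor. -/
theorem pow_comm {A N : MB} (h : Commute A (N * A - A * N)) : ∀ k : ℕ,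
    N * A ^ k - A ^ k * N = k • (A ^ (k - 1) * (N * A - A * N))
  | 0 => by simp
  | k + 1 => by
    have e : N * A ^ (k + 1) - A ^ (k + 1) * N = (N * A - A * N) * A ^ k + A * (N * A ^ k - A ^ k * N) := by
      rw [pow_succ']; noncomm_ring
    rw [e, pow_comm h k, ← (h.pow_left k).eq, mul_smul_comm, add_tsub_cancel_right, succ_nsmul']
    congr 1
    rcases k with _ | k
    · simp
    · rw [Nat.add_sub_cancel, ← mul_assoc, ← pow_succ']

/-- A matrix commuting with all its conjugates is scalar. -/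
theorem scalar_of_conjugates {A : MB}
    (h : ∀ t ∈ SGen f, ∀ s ∈ SGen f,
      Commute ((t : MB) * A * ((t⁻¹ : GL (Fin 4) F) : MB)) ((s : MB) * A * ((s⁻¹ : GL (Fin 4) F) : MB))) :
    ∃ a : F, A = a • 1 := by
  classical
  obtain ⟨p, hp⟩ := CharP.exists F
  haveI : Fact p.Prime := ⟨CharP.char_is_prime F p⟩
  have hself : ∀ t ∈ SGen f, Commute A ((t : MB) * A * ((t⁻¹ : GL (Fin 4) F) : MB)) := fun t ht => by
    have := h 1 (one_mem _) t ht
    simpa using this
  obtain ⟨a, ha⟩ := scalar_of_commute S (A ^ p) fun t ht => by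
    induction ht using Subgroup.closure_induction with
    | mem x hx =>
      obtain ⟨o, w, ho, hw, hxs⟩ := id hx
      obtain ⟨N, hN⟩ := exists_exp S ho hw
      have had := ad_two S (A := A) (N := N) fun c => by
        have hcw : ∀ d : F, f (d • w) o = 0 := fun d => by rw [lsmul S.H, hw, mul_zero]
        obtain ⟨t, ht, htS⟩ := exists_sg' S.H S.h2 ho (hcw c)
        obtain ⟨s, hs, -⟩ := exists_sg' S.H S.h2 ho (hcw (-c))
        have hts : t * s = 1 := sg_unique S
          (show Sg f o 0 (t * s) by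
            have := sg_mul S ho (hcw c) (hcw (-c)) ht hs
            rwa [← add_smul, add_neg_cancel, zero_smul] at this) (sg_one S)
        refine ⟨t, s, hN c t ht, ?_, ?_⟩
        · rw [hN (-c) s hs, neg_sq]
        · rw [show s = t⁻¹ from eq_inv_of_mul_eq_one_right hts]
          exact hself t htS
      have e := pow_comm had p
      rw [← Nat.cast_smul_eq_nsmul F, CharP.cast_eq_zero F p, zero_smul, sub_eq_zero] at e
      have hx1 : Sg f o ((1 : F) • w) x := by rw [one_smul]; exact hxs
      rw [hN 1 x hx1]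
      have c1 : Commute (A ^ p) N := e.symm
      exact ((((Commute.one_right _).add_right (c1.smul_right 1)).add_right
        ((c1.mul_right c1).smul_right _))).eq
    | one => simp
    | mul x y _ _ hx hy => rw [Units.val_mul]; exact (Commute.mul_right hx hy : Commute (A ^ p) _).eq
    | inv x _ hx => exact (Commute.units_inv_right (hx : Commute (A ^ p) _)).eq
  haveI : CharP MB p := inferInstance
  obtain ⟨b, hb⟩ : ∃ b : F, b ^ p = a := surjective_frobenius F p a
  obtain ⟨X, hX⟩ : ∃ X, X = A - b • (1 : MB) := ⟨_, rfl⟩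
  have hXp : X ^ p = 0 := by
    rw [hX, sub_pow_char_of_commute p ((Commute.one_right A).smul_right b), ha, smul_pow, one_pow, hb, sub_self]
  refine ⟨b, sub_eq_zero.mp (hX ▸ ?_)⟩
  -- the common kernel of the conjugates
  let cj : GL (Fin 4) F → MB := fun t => (t : MB) * X * ((t⁻¹ : GL (Fin 4) F) : MB)
  have hcj : ∀ t ∈ SGen f, ∀ s ∈ SGen f, Commute (cj t) (cj s) := by
    have e : ∀ t : GL (Fin 4) F, cj t = (t : MB) * A * ((t⁻¹ : GL (Fin 4) F) : MB) - b • 1 := fun t => by
      simp only [cj, hX, Matrix.mul_sub, Matrix.sub_mul, Matrix.mul_smul, Matrix.smul_mul, mul_one, Units.mul_inv]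
    intro t ht s hs
    rw [e, e]
    exact ((h t ht s hs).sub_left ((Commute.one_left _).smul_left b)).sub_right ((Commute.one_right _).smul_right b)
  have hnil : ∀ t : GL (Fin 4) F, cj t ^ p = 0 := fun t => by
    simp only [cj, Units.conj_pow, hXp, mul_zero, zero_mul]
  obtain ⟨Ω, hΩ⟩ : ∃ Ω : Finset (GL (Fin 4) F), ∀ t, t ∈ Ω ↔ t ∈ SGen f :=
    ⟨(Set.toFinite (SGen f : Set (GL (Fin 4) F))).toFinset, fun t => Set.Finite.mem_toFinset _⟩
  have hker : ∀ s : Finset (GL (Fin 4) F), (∀ t ∈ s, t ∈ SGen f) → ∃ v : VB, v ≠ 0 ∧ ∀ t ∈ s, cj t *ᵥ v = 0 := by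
    intro s
    induction s using Finset.induction_on with
    | empty => exact fun _ => ⟨Pi.single 0 1, by simp, by simp⟩
    | insert t s hts ih =>
      intro hs
      obtain ⟨v, hv0, hv⟩ := ih fun u hu => hs u (Finset.mem_insert_of_mem hu)
      have hex : ∃ k, (cj t ^ k) *ᵥ v = 0 := ⟨p, by rw [hnil, Matrix.zero_mulVec]⟩
      obtain ⟨k, hk⟩ : ∃ k, Nat.find hex = k + 1 := ⟨Nat.find hex - 1, by
        have := (Nat.find_pos hex).mpr (by simpa using hv0)
        omega⟩
      refine ⟨(cj t ^ k) *ᵥ v, Nat.find_min hex (by omega), fun u hu => ?_⟩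
      rcases Finset.mem_insert.mp hu with rfl | hu'
      · rw [Matrix.mulVec_mulVec, ← pow_succ', ← hk]
        exact Nat.find_spec hex
      · rw [Matrix.mulVec_mulVec, ((hcj u (hs u hu) t (hs t (Finset.mem_insert_self _ _))).pow_right k).eq,
          ← Matrix.mulVec_mulVec, hv u hu', Matrix.mulVec_zero]
  obtain ⟨v, hv0, hv⟩ := hker Ω fun t ht => (hΩ t).1 ht
  let U : Submodule F VB :=
    { carrier := {x | ∀ t ∈ SGen f, cj t *ᵥ x = 0}
      add_mem' := fun hx hy t ht => by rw [Matrix.mulVec_add, hx t ht, hy t ht, add_zero]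
      zero_mem' := fun t _ => Matrix.mulVec_zero _
      smul_mem' := fun r x hx t ht => by rw [Matrix.mulVec_smul, hx t ht, smul_zero] }
  have htop : U = ⊤ := irreducible S (U.ne_bot_iff.mpr ⟨v, fun t ht => hv t ((hΩ t).2 ht), hv0⟩) fun g hg x hx t ht => by
    have e : cj t * (g : MB) = (g : MB) * cj (g⁻¹ * t) := by
      simp only [cj, Units.val_mul, _root_.mul_inv_rev, inv_inv, ← mul_assoc, Units.mul_inv, one_mul]
    rw [Matrix.mulVec_mulVec, e, ← Matrix.mulVec_mulVec, hx _ (mul_mem (inv_mem hg) ht), Matrix.mulVec_zero]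
  refine Matrix.ext_iff_mulVec.mpr fun x => ?_
  have := (show x ∈ U from htop ▸ Submodule.mem_top) 1 (one_mem _)
  simpa [cj] using this

end Cfsg.Agent.Classical.TThreeFour
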