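import Cfsg.Agent.Lib.Classical.TensorThreeFour.Root

/-!
# The centraliser of a frame of involutions
-/

set_option autoImplicit false
set_option linter.unusedSectionVars false

namespace Cfsg.Agent.Classical.TThreeFour

open Matrix Module Cfsg.Geo
open Cfsg.Agent.Classical Cfsg.Agent.Classical.TensorMax Cfsg.Agent.Classical.TensorMax.Form
open Cfsg.Agent.Classical.TensorMax.OO
open scoped Kronecker

variable {F : Type*} [Field F] [Fintype F] {fb : (Fin 4 → F) → (Fin 4 → F) → F}
variable {X : Subgroup (GL (Fin 3 × Fin 4) F)}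

local notation "VA" => Fin 3 → F
local notation "VB" => Fin 4 → F
local notation "M3" => Matrix (Fin 3) (Fin 3) F
local notation "MB" => Matrix (Fin 4) (Fin 4) F
local notation "κ" => Fin 3 × Fin 4
local notation "Mκ" => Matrix (Fin 3 × Fin 4) (Fin 3 × Fin 4) F
local notation "GB" => GL (Fin 4) F
local notation:max g:max " ⬝ₘ " x:max =>
  ((g : GL (Fin 3 × Fin 4) F) : Matrix (Fin 3 × Fin 4) (Fin 3 × Fin 4) F) *ᵥ x

theorem kr_one_blocks {g : GL κ F} (hS : Minus fb)
    (h : ∀ t ∈ SGen fb, g * kr (1 : GL (Fin 3) F) t = kr (1 : GL (Fin 3) F) t * g) :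
    ∃ s : GL (Fin 3) F, g = kr s 1 := by
  have hc : ∀ i j, ∃ c : F, (Matrix.of fun k l => (g : Mκ) (i, k) (j, l) : MB) = c • 1 := fun i j => by
    refine scalar_of_commute hS _ fun t ht => ?_
    ext k l
    have e0 : (g : Mκ) * ((kr (1 : GL (Fin 3) F) t : GL κ F) : Mκ) = ((kr (1 : GL (Fin 3) F) t : GL κ F) : Mκ) * (g : Mκ) := by
      rw [← Units.val_mul, h t ht, Units.val_mul]
    have e := congrFun (congrFun e0 (i, k)) (j, l)
    simp only [Matrix.mul_apply, kr_val, Units.val_one, kroneckerMap_apply, Fintype.sum_prod_type,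
      Matrix.of_apply] at e ⊢
    rw [Finset.sum_eq_single j (fun j' _ hj => by simp [Matrix.one_apply_ne hj]) (by simp),
      Finset.sum_eq_single i (fun i' _ hi => by simp [Matrix.one_apply_ne (Ne.symm hi)]) (by simp)] at e
    simpa using e
  choose c hc using hc
  have hg : (g : Mκ) = (Matrix.of c : M3) ⊗ₖ (1 : MB) := by
    ext ⟨i, k⟩ ⟨j, l⟩
    simpa using congrFun (congrFun (hc i j) k) l
  have hdet : IsUnit (Matrix.of c : M3) := by
    rw [Matrix.isUnit_iff_isUnit_det]
    have h1 : IsUnit (g : Mκ).det := (Matrix.isUnit_iff_isUnit_det _).mp (Units.isUnit g)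
    rw [hg, Matrix.det_kronecker, Matrix.det_one, one_pow, mul_one] at h1
    exact (isUnit_pow_iff (by simp)).mp h1
  obtain ⟨s, hs⟩ := hdet
  exact ⟨s, Units.ext (by rw [kr_val, hs, hg, Units.val_one])⟩

/-- Commuting with everything. -/
def Cent {G : Type*} [Mul G] (z : G) : Prop := ∀ y, Commute z y

theorem cent_of_scalar {t : GB} {c : F} (h : (t : MB) = c • 1) : Cent t := fun y => Units.ext (by
  show (t : MB) * (y : MB) = (y : MB) * (t : MB)
  rw [h, Matrix.smul_mul, Matrix.mul_smul, one_mul, mul_one])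

theorem scalar_of_cent (hS : Minus fb) {t : GB} (h : Cent t) : ∃ c : F, (t : MB) = c • 1 :=
  scalar_of_commute hS _ fun y _ => congrArg Units.val (h y).eq

/-- An element with central twists is central. -/
theorem cent_of_comm (hS : Minus fb) {t : GB} (h : ∀ a ∈ SGen fb, Cent (t * a * t⁻¹ * a⁻¹)) : Cent t := by
  have h' := ratio_trivial hS (fun a => t * a * t⁻¹) (fun a => a) (fun a _ b _ => by group) (fun a _ b _ => rfl)
    (fun a ha b _ => h a ha b) (fun a ha b _ => h a ha _)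
  obtain ⟨c, hc⟩ := scalar_of_commute hS (t : MB) fun a ha => by
    have := congrArg Units.val (mul_inv_eq_iff_eq_mul.mp (h' a ha))
    simpa only [Units.val_mul] using this
  exact cent_of_scalar hc

/-- The standard vectors. -/
def es (i : Fin 3) : Fin 3 → F := Pi.single i 1

theorem es_dot (i j : Fin 3) : (es i : VA) ⬝ᵥ es j = if i = j then 1 else 0 := by
  simp [es, Pi.single_apply, eq_comm]

theorem es_self (i : Fin 3) : (es i : VA) ⬝ᵥ es i ≠ 0 := by simp [es_dot]

theorem es_perp {i j : Fin 3} (h : i ≠ j) : (es i : VA) ⬝ᵥ es j = 0 := by simp [es_dot, h]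

theorem es_frame : Frame (es 0 : VA) (es 1) (es 2) := by
  refine ⟨es_self 0, es_self 1, es_self 2, es_perp (by decide), es_perp (by decide), es_perp (by decide), ?_⟩
  funext i
  fin_cases i <;> simp [es, crossProduct, LinearMap.mk₂_apply]

/-- The block diagonal elements. -/
def dg : (GL (Fin 4) F × GL (Fin 4) F × GL (Fin 4) F) →* GL (Fin 3 × Fin 4) F where
  toFun p := blk (es 0) p.1 * (blk (es 1) p.2.1 * blk (es 2) p.2.2)
  map_one' := by simp
  map_mul' p q := by
    simp only [Prod.fst_mul, Prod.snd_mul, map_mul]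
    have c01 := blk_commute (F := F) (u := es 1) (v := es 0) (es_perp (by decide)) p.2.1 q.1
    have c02 := blk_commute (F := F) (u := es 2) (v := es 0) (es_perp (by decide)) p.2.2 q.1
    have c12 := blk_commute (F := F) (u := es 2) (v := es 1) (es_perp (by decide)) p.2.2 q.2.1
    calc blk (es 0) p.1 * blk (es 0) q.1 *
          (blk (es 1) p.2.1 * blk (es 1) q.2.1 * (blk (es 2) p.2.2 * blk (es 2) q.2.2))
        = blk (es 0) p.1 * (blk (es 0) q.1 * (blk (es 1) p.2.1 * blk (es 2) p.2.2)) *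
            (blk (es 1) q.2.1 * blk (es 2) q.2.2) := by
          simp only [mul_assoc]
          rw [← mul_assoc (blk (es 1) q.2.1) (blk (es 2) p.2.2), ← c12.eq, mul_assoc]
      _ = _ := by
          rw [← ((c01.mul_left c02).eq)]
          simp only [mul_assoc]

theorem dg_apply (p : GB × GB × GB) (b : VB) :
    (dg p) ⬝ₘ (tm (es 0) b) = tm (es 0) ((p.1 : MB) *ᵥ b) ∧
      (dg p) ⬝ₘ (tm (es 1) b) = tm (es 1) ((p.2.1 : MB) *ᵥ b) ∧
      (dg p) ⬝ₘ (tm (es 2) b) = tm (es 2) ((p.2.2 : MB) *ᵥ b) := by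
  refine ⟨?_, ?_, ?_⟩
  all_goals
    show (blk (es 0) p.1 * (blk (es 1) p.2.1 * blk (es 2) p.2.2)) ⬝ₘ _ = _
    rw [gl_mul_mulVec, gl_mul_mulVec]
  · rw [blk_perp (u := es 2) (a := es 0) (es_perp (by decide)), blk_perp (u := es 1) (a := es 0) (es_perp (by decide)),
      blk_self (es_self 0)]
  · rw [blk_perp (u := es 2) (a := es 1) (es_perp (by decide)), blk_self (es_self 1),
      blk_perp (u := es 0) (a := es 1) (es_perp (by decide))]
  · rw [blk_self (es_self 2), blk_perp (u := es 1) (a := es 2) (es_perp (by decide)),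
      blk_perp (u := es 0) (a := es 2) (es_perp (by decide))]

theorem kr_dg (t : GB) : kr (1 : GL (Fin 3) F) t = dg (t, t, t) := by
  refine Units.ext (ext_frame es_frame (fun b => ?_) (fun b => ?_) (fun b => ?_)) <;>
    rw [kr_tm, Units.val_one, Matrix.one_mulVec]
  · exact (dg_apply (t, t, t) b).1.symm
  · exact (dg_apply (t, t, t) b).2.1.symm
  · exact (dg_apply (t, t, t) b).2.2.symm

variable (C : Ctx fb X)

include C

/-- The cyclic shift of the blocks. -/
theorem exists_shift : ∃ s ∈ Rot F, (s : M3) *ᵥ es 0 = es 1 ∧ (s : M3) *ᵥ es 1 = es 2 ∧ (s : M3) *ᵥ es 2 = es 0 := by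
  let s : GL (Fin 3) F := ⟨!![0, 0, 1; 1, 0, 0; 0, 1, 0], !![0, 1, 0; 0, 0, 1; 1, 0, 0],
    by simp [← Matrix.ext_iff, Fin.forall_fin_succ, Matrix.mul_apply, Fin.sum_univ_three],
    by simp [← Matrix.ext_iff, Fin.forall_fin_succ, Matrix.mul_apply, Fin.sum_univ_three]⟩
  refine ⟨s, mem_rot C.S.h2 (fun x y => ?_) ?_, ?_, ?_, ?_⟩
  · simp [s, Matrix.mulVec, dotProduct, Fin.sum_univ_three]
    ring
  · simp [s, Matrix.det_fin_three]
  all_goals
    funext i
    fin_cases i <;> simp [s, es, Matrix.mulVec, dotProduct, Fin.sum_univ_three]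

theorem shift_mem {a b c : GB} (h : dg (a, b, c) ∈ X) : dg (c, a, b) ∈ X := by
  obtain ⟨s, hs, h0, h1, h2⟩ := exists_shift C
  have e : kr s 1 * dg (a, b, c) * (kr s 1)⁻¹ = dg (c, a, b) := by
    rw [mul_inv_eq_iff_eq_mul]
    refine Units.ext (ext_frame es_frame (fun x => ?_) (fun x => ?_) (fun x => ?_)) <;>
      rw [gl_mul_mulVec, gl_mul_mulVec]
    · simp only [(dg_apply (a, b, c) x).1, kr_tm, Units.val_one, Matrix.one_mulVec, h0, (dg_apply (c, a, b) x).2.1]
    · simp only [(dg_apply (a, b, c) x).2.1, kr_tm, Units.val_one, Matrix.one_mulVec, h1, (dg_apply (c, a, b) x).2.2]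
    · simp only [(dg_apply (a, b, c) x).2.2, kr_tm, Units.val_one, Matrix.one_mulVec, h2, (dg_apply (c, a, b) x).1]
  rw [← e]
  exact mul_mem (mul_mem (C.rot s hs) h) (inv_mem (C.rot s hs))

theorem block_iso {a b c : GB} (h : dg (a, b, c) ∈ X) :
    (∀ x y, fb ((a : MB) *ᵥ x) ((a : MB) *ᵥ y) = 1 * fb x y) ∧
      (∀ x y, fb ((b : MB) *ᵥ x) ((b : MB) *ᵥ y) = 1 * fb x y) ∧
      (∀ x y, fb ((c : MB) *ᵥ x) ((c : MB) *ᵥ y) = 1 * fb x y) :=
  ⟨fun x y => by rw [C.iso_block h (es_self 0) (es_self 0) fun b' => (dg_apply (a, b, c) b').1,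
      inv_mul_cancel₀ (es_self 0)],
    fun x y => by rw [C.iso_block h (es_self 1) (es_self 1) fun b' => (dg_apply (a, b, c) b').2.1,
      inv_mul_cancel₀ (es_self 1)],
    fun x y => by rw [C.iso_block h (es_self 2) (es_self 2) fun b' => (dg_apply (a, b, c) b').2.2,
      inv_mul_cancel₀ (es_self 2)]⟩

/-- A block trivial element is scalar in the other blocks. -/
theorem cent_of_trivial (hF : ¬ Full fb X) {a b : GB} (h : dg (1, a, b) ∈ X) : Cent a ∧ Cent b := by
  have S := C.S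
  have single : ∀ z, dg (1, 1, z) ∈ X → Cent z := fun z hz => by
    by_contra hcon
    refine hF (full_of_single C (u := es 2) (es_self 2) (t := z) ?_ fun c hc => hcon (cent_of_scalar hc))
    have e : dg (1, 1, z) = blk (es 2) z := by
      show blk (es 0) 1 * (blk (es 1) 1 * blk (es 2) z) = _
      rw [map_one, map_one, one_mul, one_mul]
    rwa [← e]
  have conj : ∀ r ∈ SGen fb, dg (1, r * a * r⁻¹, r * b * r⁻¹) ∈ X := fun r hr => by
    have := mul_mem (mul_mem (C.small r hr) h) (inv_mem (C.small r hr))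
    rwa [kr_dg, ← map_inv, ← map_mul, ← map_mul,
      show (r, r, r) * ((1 : GB), a, b) * (r, r, r)⁻¹ = (1, r * a * r⁻¹, r * b * r⁻¹) by
        ext1 <;> simp] at this
  -- the elements whose commutator with `b` is central
  let D : Subgroup GB :=
    { carrier := {x | Cent (b * x * b⁻¹ * x⁻¹)}
      one_mem' := fun y => by simp
      mul_mem' := fun {x y} hx hy => fun z => by
        have e : b * (x * y) * b⁻¹ * (x * y)⁻¹ = b * x * b⁻¹ * x⁻¹ * (b * y * b⁻¹ * y⁻¹) := by
          have := (hy x).eq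
          calc b * (x * y) * b⁻¹ * (x * y)⁻¹ = b * x * b⁻¹ * ((b * y * b⁻¹ * y⁻¹) * x⁻¹) := by group
            _ = _ := by rw [(hy x⁻¹).eq]; group
        rw [e]
        exact (hx z).mul_left (hy z)
      inv_mem' := fun {x} hx => fun z => by
        have e : b * x⁻¹ * b⁻¹ * x⁻¹⁻¹ = (b * x * b⁻¹ * x⁻¹)⁻¹ := by
          have h1 := (hx x).eq
          calc b * x⁻¹ * b⁻¹ * x⁻¹⁻¹ = (b * x * b⁻¹ * x⁻¹)⁻¹ * ((b * x * b⁻¹ * x⁻¹) * (b * x⁻¹ * b⁻¹ * x)) := by group
            _ = (b * x * b⁻¹ * x⁻¹)⁻¹ * (x⁻¹ * (b * x * b⁻¹ * x⁻¹ * x) * (b * x⁻¹ * b⁻¹ * x)) := by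
              rw [h1]; group
            _ = _ := by group
        rw [e]
        exact (hx z).inv_left }
  have hD : ∀ r ∈ SGen fb, r * a * r⁻¹ ∈ D := fun r hr => by
    refine single _ ?_
    have h1 := shift_mem C (conj r hr)
    have h2 := mul_mem (mul_mem h h1) (mul_mem (inv_mem h) (inv_mem h1))
    rw [← map_inv, ← map_inv, ← map_mul, ← map_mul, ← map_mul] at h2
    convert h2 using 2
    ext1 <;> simp [mul_assoc]
  by_cases ha : Cent a
  · refine ⟨ha, cent_of_comm S fun l hl => single _ ?_⟩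
    have h1 := mul_mem h (inv_mem (conj l hl))
    rw [← map_inv, ← map_mul] at h1
    have h3 := mul_mem h1 (show dg (1, (1 : GB), (1 : GB)) ∈ X by rw [show ((1 : GB), (1 : GB), (1 : GB)) = 1 from rfl, map_one]; exact one_mem X)
    have hb := (block_iso C h).2.2
    have e : (((1 : GB), a, b) * (1, l * a * l⁻¹, l * b * l⁻¹)⁻¹) = (1, 1, b * l * b⁻¹ * l⁻¹) := by
      refine Prod.ext (by simp) (Prod.ext ?_ ?_)
      · show a * (l * a * l⁻¹)⁻¹ = 1
        rw [← (ha l).eq, mul_inv_cancel_right, mul_inv_cancel]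
      · show b * (l * b * l⁻¹)⁻¹ = b * l * b⁻¹ * l⁻¹
        group
    rwa [e] at h1
  · obtain ⟨l, hl, hns⟩ : ∃ l ∈ SGen fb, ¬ Cent (a * l * a⁻¹ * l⁻¹) := by
      by_contra hcon
      push Not at hcon
      exact ha (cent_of_comm S hcon)
    let N : Subgroup GB :=
      { carrier := {x | x ∈ SGen fb ∧ ∀ r ∈ SGen fb, r * x * r⁻¹ ∈ D}
        one_mem' := ⟨one_mem _, fun r _ => by rw [mul_one, mul_inv_cancel]; exact one_mem _⟩
        mul_mem' := fun {x y} hx hy => ⟨mul_mem hx.1 hy.1, fun r hr => by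
          rw [show r * (x * y) * r⁻¹ = r * x * r⁻¹ * (r * y * r⁻¹) by group]
          exact mul_mem (hx.2 r hr) (hy.2 r hr)⟩
        inv_mem' := fun {x} hx => ⟨inv_mem hx.1, fun r hr => by
          rw [show r * x⁻¹ * r⁻¹ = (r * x * r⁻¹)⁻¹ by group]
          exact inv_mem (hx.2 r hr)⟩ }
    have hal : a * l * a⁻¹ * l⁻¹ ∈ N :=
      ⟨mul_mem (sgen_conj S.H S.h2 one_ne_zero (block_iso C h).2.1 hl) (inv_mem hl), fun r hr => by
        rw [show r * (a * l * a⁻¹ * l⁻¹) * r⁻¹ = r * a * r⁻¹ * (r * l * a * (r * l)⁻¹)⁻¹ by group]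
        exact mul_mem (hD r hr) (inv_mem (hD _ (mul_mem hr hl)))⟩
    have hsub : SGen fb ≤ N := normal_top S N (fun x hx => hx.1) (fun t ht x hx =>
      ⟨mul_mem (mul_mem ht hx.1) (inv_mem ht), fun r hr => by
        rw [show r * (t * x * t⁻¹) * r⁻¹ = r * t * x * (r * t)⁻¹ by group]
        exact hx.2 _ (mul_mem hr ht)⟩) hal fun c hc => hns (cent_of_scalar hc)
    have hb : Cent b := cent_of_comm S fun t ht => by
      have := (hsub ht).2 1 (one_mem _)
      rwa [one_mul, inv_one, mul_one] at this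
    refine absurd (fun y => ?_) ha
    obtain ⟨c, hc⟩ := scalar_of_cent S (cent_of_comm S fun t ht => single _ (by
      have h4 := mul_mem h (inv_mem (conj t ht))
      rw [← map_inv, ← map_mul] at h4
      have h6 : dg (1, a * t * a⁻¹ * t⁻¹, 1) ∈ X := by
        convert h4 using 2
        refine Prod.ext (by simp) (Prod.ext ?_ ?_)
        · show a * t * a⁻¹ * t⁻¹ = a * (t * a * t⁻¹)⁻¹
          group
        · show (1 : GB) = b * (t * b * t⁻¹)⁻¹
          rw [← (hb t).eq, mul_inv_cancel_right, mul_inv_cancel]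
      exact shift_mem C h6) : Cent a)
    exact cent_of_scalar hc y

/-- The centraliser of the standard frame lies in the tensor stabiliser. -/
theorem cent_frame (hF : ¬ Full fb X) {g : GL κ F} (hg : g ∈ X) (h0 : Commute g (az (es 0)))
    (h1 : Commute g (az (es 1))) : g ∈ Kr (Fin 3) (Fin 4) F := by
  have S := C.S
  have h2' : Commute g (az (es 2)) := by
    have e : az (es 2 : VA) = az (es 0) * az (es 1) := by rw [az, az, az, kr_mul, one_mul, es_frame.zz_mul]
    rw [e]; exact h0.mul_right h1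
  obtain ⟨a, ha⟩ := exists_block S.h2 (es_self 0) (es_self 0) h0.eq
  obtain ⟨b, hb⟩ := exists_block S.h2 (es_self 1) (es_self 1) h1.eq
  obtain ⟨c, hc⟩ := exists_block S.h2 (es_self 2) (es_self 2) h2'.eq
  have hgd : g = dg (a, b, c) := Units.ext (ext_frame es_frame (fun x => by rw [ha, (dg_apply (a, b, c) x).1])
    (fun x => by rw [hb, (dg_apply (a, b, c) x).2.1]) (fun x => by rw [hc, (dg_apply (a, b, c) x).2.2]))
  subst hgd
  have ia := (block_iso C hg).1
  have hcen : ∀ l ∈ SGen fb, Cent (b * l * b⁻¹ * (a * l * a⁻¹)⁻¹) ∧ Cent (c * l * c⁻¹ * (a * l * a⁻¹)⁻¹) := by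
    intro l hl
    refine cent_of_trivial C hF ?_
    have := mul_mem (mul_mem (mul_mem hg (C.small l hl)) (inv_mem hg))
      (inv_mem (C.small _ (sgen_conj S.H S.h2 one_ne_zero ia hl)))
    rw [kr_dg, kr_dg, ← map_inv, ← map_inv, ← map_mul, ← map_mul, ← map_mul] at this
    convert this using 2
    ext1 <;> simp
  have key : ∀ d : GB, (∀ l ∈ SGen fb, Cent (d * l * d⁻¹ * (a * l * a⁻¹)⁻¹)) →
      ∃ k : F, k ≠ 0 ∧ (d : MB) = k • (a : MB) := by
    intro d hd
    have h := ratio_trivial S (fun l => d * l * d⁻¹) (fun l => a * l * a⁻¹) (fun l _ m _ => by group)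
      (fun l _ m _ => by group) (fun l hl m _ => hd l hl _) (fun l hl m _ => hd l hl _)
    obtain ⟨k, hk⟩ := scalar_of_commute S ((a⁻¹ * d : GB) : MB) fun l hl => by
      have e : a⁻¹ * d * l = l * (a⁻¹ * d) := by
        have := h l hl
        rw [mul_inv_eq_iff_eq_mul] at this
        calc a⁻¹ * d * l = a⁻¹ * (d * l) := mul_assoc _ _ _
          _ = _ := by rw [this]; group
      simpa only [Units.val_mul] using congrArg Units.val e
    refine ⟨k, fun h0 => ?_, ?_⟩
    · rw [h0, zero_smul] at hk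
      exact (Units.isUnit (a⁻¹ * d)).ne_zero hk
    · calc (d : MB) = (a : MB) * ((a⁻¹ * d : GB) : MB) := by rw [← Units.val_mul, mul_inv_cancel_left]
        _ = _ := by rw [hk, Matrix.mul_smul, mul_one]
  obtain ⟨k, hk0, hk⟩ := key b fun l hl => (hcen l hl).1
  obtain ⟨m, hm0, hm⟩ := key c fun l hl => (hcen l hl).2
  let s : GL (Fin 3) F := ⟨Matrix.diagonal ![1, k, m], Matrix.diagonal ![1, k⁻¹, m⁻¹],
    by rw [Matrix.diagonal_mul_diagonal, ← Matrix.diagonal_one]; congr 1; funext i; fin_cases i <;> simp [hk0, hm0],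
    by rw [Matrix.diagonal_mul_diagonal, ← Matrix.diagonal_one]; congr 1; funext i; fin_cases i <;> simp [hk0, hm0]⟩
  have hs : ∀ i, (s : M3) *ᵥ es i = (![1, k, m] i) • es i := fun i => by
    funext j
    show (Matrix.diagonal ![1, k, m] *ᵥ (es i : VA)) j = _
    rw [Matrix.mulVec_diagonal]
    by_cases hij : j = i
    · subst hij; simp [es]
    · simp [es, hij]
  refine ⟨s, a, Units.ext (ext_frame es_frame (fun x => ?_) (fun x => ?_) (fun x => ?_))⟩ <;> rw [kr_tm, hs]
  · rw [(dg_apply (a, b, c) x).1]; simp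
  · rw [(dg_apply (a, b, c) x).2.1, hk, Matrix.smul_mulVec, tm_smul_right]; simp [tm_smul_left]
  · rw [(dg_apply (a, b, c) x).2.2, hm, Matrix.smul_mulVec, tm_smul_right]; simp [tm_smul_left]

end Cfsg.Agent.Classical.TThreeFour
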