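import Cfsg.Agent.Lib.Classical.TensorThreeFour.Main
import Cfsg.Agent.Lib.Classical.TensorThreeFour.Spinor
import Cfsg.Agent.Lib.Classical.TensorMax.OO.Final
import Cfsg.Agent.Lib.Classical.TensorNine.Final
import Cfsg.Agent.Lib.Classical.RadicalQuad

/-!
# The stabiliser of `O₃ ⊗ O₄⁻` is maximal in the twelve-dimensional orthogonal group
-/

set_option autoImplicit false
set_option linter.unusedSectionVars false

namespace Cfsg.Agent.Classical.TThreeFour

open Matrix Module QuadraticMap Cfsg.Geo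
open Cfsg.Agent.Classical Cfsg.Agent.Classical.TensorMax Cfsg.Agent.Classical.TensorMax.Form
open Cfsg.Agent.Classical.TensorMax.OO
open Cfsg.Agent.Classical.OCount (PND)
open Cfsg.Agent.Classical.ORefl (Iso toMat)
open scoped Kronecker

variable {F : Type*} [Field F] [Fintype F] {ι : Type} [Fintype ι] [DecidableEq ι]

local notation "VA" => Fin 3 → F
local notation "VB" => Fin 4 → F
local notation "κ" => Fin 3 × Fin 4
local notation "M3" => Matrix (Fin 3) (Fin 3) F

theorem formOfGram_mulVec {n : Type} [Fintype n] [DecidableEq n] (M A : Matrix n n F) (x y : n → F) :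
    formOfGram (id : F → F) M (A *ᵥ x) (A *ᵥ y) = formOfGram (id : F → F) (Aᵀ * M * A) x y := by
  have h : ∀ (N : Matrix n n F) (u v : n → F), formOfGram (id : F → F) N u v = u ⬝ᵥ (N *ᵥ v) := fun N u v => by
    simp only [formOfGram, dotProduct, Matrix.mulVec, Finset.mul_sum, id_eq, mul_assoc]
  rw [h, h, Matrix.mul_assoc, ← Matrix.mulVec_mulVec, ← Matrix.mulVec_mulVec, Matrix.dotProduct_mulVec x,
    Matrix.vecMul_transpose]

theorem gram_dot : gramMatrix (dot F) = (1 : M3) := by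
  ext i j
  simp [gramMatrix, dot, Matrix.one_apply, Pi.single_apply, eq_comm]

/-- A symmetric form in three variables is a scalar times the dot product after a change of basis. -/
theorem exists_dot (h2 : (2 : F) ≠ 0) {f₁ : VA → VA → F} (hf : IsSymmetricForm f₁) :
    ∃ (k : F) (L : GL (Fin 3) F), k ≠ 0 ∧ (L : M3)ᵀ * gramMatrix f₁ * (L : M3) = k • 1 := by
  haveI : Fact ((2 : F) ≠ 0) := ⟨h2⟩
  have hA := reflexForm_of_symmetric hf
  have hsym : (gramMatrix f₁)ᵀ = gramMatrix f₁ := by ext i j; exact hf.symm _ _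
  have hdet : (gramMatrix f₁).det ≠ 0 := by
    intro h0
    obtain ⟨v, hv, hv0⟩ := Matrix.exists_mulVec_eq_zero_iff.mpr h0
    obtain ⟨x, hx⟩ := (hA.nondeg v hv).1
    refine hx ?_
    rw [hA.apply_eq]
    show _ ⬝ᵥ (_ *ᵥ v) = 0
    rw [hv0, dotProduct_zero]
  obtain ⟨k, L, hk, hL, h⟩ := TensorNine.exists_congr hsym hdet
  exact ⟨k, Matrix.GeneralLinearGroup.mkOfDetNeZero L hL, hk, h⟩

/-- The stabiliser is maximal. -/
theorem isMaximalIn_omega (h2 : (2 : F) ≠ 0) (h5 : 5 ≤ Fintype.card F) (Q : (ι → F) → F)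
    (hQ : IsNondegenerateQuadraticForm Q) (e : ι ≃ κ) (P : GL ι F) {f₁ : VA → VA → F} {fb : VB → VB → F}
    (hA : IsSymmetricForm f₁) (hB : IsSymmetricForm fb)
    (hminus : ¬ IsPlusTypeOn (fun v : Fin 4 → F => fb v v) ⊤)
    (hT : IsTensorFormStructure id (QuadraticMap.polar Q) f₁ fb e P) :
    IsMaximalIn (omegaGL Q) (tensorProductSubgroup 3 4 e P ⊓ omegaGL Q) := by
  classical
  obtain ⟨Qf, rfl, hPND⟩ := ONotMax.exists_qform hQ
  have H := reflexForm_of_symmetric hB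
  have S : Minus fb := ⟨H, h2, h5, no_plane H (Or.inr ⟨rfl, hminus⟩)⟩
  have D : Data (RingEquiv.refl F) 1 1 (dot F) fb := ⟨dot_reflex, H⟩
  have h12 : Fintype.card ι = 12 := by simpa using Fintype.card_congr e
  obtain ⟨c₀, hc₀, hT⟩ := hT
  obtain ⟨k, L, hk, hL⟩ := exists_dot h2 hA
  obtain ⟨Lk, hLk⟩ : ∃ Lk, Lk = kr L (1 : GL (Fin 4) F) := ⟨_, rfl⟩
  obtain ⟨c, hcdef⟩ : ∃ c, c = c₀ * k := ⟨_, rfl⟩
  have hc : c ≠ 0 := hcdef ▸ mul_ne_zero hc₀ hk
  let T : (κ → F) →ₗ[F] (ι → F) :=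
    (P : Matrix ι ι F).mulVecLin ∘ₗ LinearMap.funLeft F F (e : ι → κ) ∘ₗ (Lk : Matrix κ κ F).mulVecLin
  have hTapp : ∀ x, T x = (P : Matrix ι ι F) *ᵥ (((Lk : Matrix κ κ F) *ᵥ x) ∘ e) := fun x => rfl
  have hTh : ∀ x y, polar (⇑Qf) (T x) (T y) = c * tf (RingEquiv.refl F) (dot F) fb x y := fun x y => by
    rw [hTapp, hTapp, hT, formOfGram_mulVec, hcdef, mul_assoc c₀ k]
    congr 1
    rw [hLk, kr_val, Units.val_one, ← Matrix.kroneckerMap_transpose, Matrix.transpose_one, ← Matrix.mul_kronecker_mul,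
      ← Matrix.mul_kronecker_mul, one_mul, mul_one, hL, Matrix.smul_kronecker]
    show formOfGram _ _ x y = k * formOfGram _ _ x y
    rw [gram_dot]
    simp only [formOfGram, Matrix.smul_apply, smul_eq_mul, Finset.mul_sum]
    exact Finset.sum_congr rfl fun i _ => Finset.sum_congr rfl fun j _ => by simp [id_eq]; ring
  have hTsurj : ∀ v, ∃ x, T x = v := fun v =>
    ⟨((Lk⁻¹ : GL κ F) : Matrix κ κ F) *ᵥ ((((P⁻¹ : GL ι F) : Matrix ι ι F) *ᵥ v) ∘ e.symm), by
      rw [hTapp, gl_mulVec_inv_cancel, Function.comp_assoc, Equiv.symm_comp_self, Function.comp_id,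
        gl_mulVec_inv_cancel]⟩
  have hQT : ∀ x, Qf (T x) = c * (2⁻¹ * tf (RingEquiv.refl F) (dot F) fb x x) := fun x => by
    have h := hTh x x
    rw [QuadraticMap.polar_self, nsmul_eq_mul, Nat.cast_ofNat] at h
    field_simp
    linear_combination h
  let φ : GL κ F ≃* GL ι F := ((MulAut.conj Lk).trans (glReindex (F := F) e.symm)).trans (MulAut.conj P)
  have hφ : ∀ g x, ((φ g : GL ι F) : Matrix ι ι F) *ᵥ T x = T ((g : Matrix κ κ F) *ᵥ x) := fun g x => by
    have hre : ((glReindex (F := F) e.symm (Lk * g * Lk⁻¹) : GL ι F) : Matrix ι ι F) =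
        ((Lk * g * Lk⁻¹ : GL κ F) : Matrix κ κ F).submatrix e e := rfl
    simp only [hTapp, φ, MulEquiv.trans_apply, MulAut.conj_apply, gl_mul_mulVec, gl_inv_mulVec_cancel]
    rw [hre, Matrix.submatrix_mulVec_equiv, Function.comp_assoc, Equiv.self_comp_symm, Function.comp_id]
    simp only [gl_mul_mulVec, gl_inv_mulVec_cancel]
  have hLK : Lk ∈ Kr (Fin 3) (Fin 4) F := hLk ▸ ⟨L, 1, rfl⟩
  have hkr : ∀ g, φ g ∈ tensorProductSubgroup 3 4 e P ↔ g ∈ Kr (Fin 3) (Fin 4) F := fun g => by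
    have : φ g ∈ tensorProductSubgroup 3 4 e P ↔ Lk * g * Lk⁻¹ ∈ Kr (Fin 3) (Fin 4) F := by
      constructor
      · rintro ⟨y, ⟨x, ⟨a, b, hab⟩, rfl⟩, hy⟩
        have h1 : glReindex (F := F) e.symm x = glReindex (F := F) e.symm (Lk * g * Lk⁻¹) :=
          (MulAut.conj P).injective hy
        rw [← (glReindex (F := F) e.symm).injective h1]
        exact ⟨a, b, Units.ext hab⟩
      · rintro ⟨a, b, hab⟩
        exact ⟨_, ⟨_, ⟨a, b, congrArg Units.val hab⟩, rfl⟩, rfl⟩
    rw [this]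
    refine ⟨fun h => ?_, fun h => mul_mem (mul_mem hLK h) (inv_mem hLK)⟩
    have := mul_mem (mul_mem (inv_mem hLK) h) hLK
    rwa [show Lk⁻¹ * (Lk * g * Lk⁻¹) * Lk = g by group] at this
  refine ⟨lt_of_le_of_ne inf_le_right fun hEq => ?_, fun M hM hMS => ?_⟩
  · exact OEven.omega_not_tensor hPND (by omega) (by omega) (by omega) e P (hEq.symm.le.trans inf_le_left)
  obtain ⟨X, hXdef⟩ : ∃ X, X = M.comap φ.toMonoidHom := ⟨_, rfl⟩
  have hX : ∀ g, g ∈ X ↔ φ g ∈ M := fun g => by rw [hXdef]; rfl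
  have hiso : ∀ g ∈ X, ∀ x y, tf (RingEquiv.refl F) (dot F) fb ((g : Matrix κ κ F) *ᵥ x)
      ((g : Matrix κ κ F) *ᵥ y) = tf (RingEquiv.refl F) (dot F) fb x y := by
    intro g hg x y
    refine mul_left_cancel₀ hc ?_
    rw [← hTh, ← hTh, ← hφ, ← hφ, Radical.omega_polar (hMS ((hX g).1 hg))]
  obtain ⟨δ, hδ, hδδ, hrefl⟩ := exists_refl_iso h2 hPND (by omega) H hminus T hTsurj hc hTh
  -- the reflections
  have hG : ∀ (G : ↥(Iso Qf)) (g : GL κ F), (∀ x, G.1 (T x) = T ((g : Matrix κ κ F) *ᵥ x)) → (toMat Qf G).1 = φ g :=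
    fun G g h => gl_ext_mulVec fun z => by
      obtain ⟨x, rfl⟩ := hTsurj z
      rw [ORefl.toMat_apply, h, hφ]
  have hrot : ∀ s ∈ Rot F, kr s (1 : GL (Fin 4) F) ∈ X := fun s hs => by
    induction hs using Subgroup.closure_induction with
    | mem s hs =>
      obtain ⟨v, w, hv, hw, rfl⟩ := hs
      obtain ⟨G, hGd, hGx⟩ := hrefl v hv
      obtain ⟨G', hGd', hGx'⟩ := hrefl w hw
      refine (hX _).2 (hM ⟨(hkr _).2 ⟨_, _, rfl⟩, ?_⟩)
      show φ _ ∈ omegaGL ⇑Qf
      rw [← hG (G * G') _ fun x => ?_, mem_omega_iff h2 hPND (by omega), map_mul, hGd, hGd', hδδ]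
      show G.1 (G'.1 (T x)) = _
      rw [hGx', hGx, ← gl_mul_mulVec, kr_mul, one_mul]
    | one => rw [kr_one]; exact one_mem X
    | mul a b _ _ ha hb =>
      rw [← one_mul (1 : GL (Fin 4) F), ← kr_mul]
      exact mul_mem ha hb
    | inv a _ ha =>
      rw [← inv_one (G := GL (Fin 4) F), ← kr_inv]
      exact inv_mem ha
  have hneg : ∀ v : VA, v ⬝ᵥ v ≠ 0 → kr (rr v) (1 : GL (Fin 4) F) ∉ X := fun v hv h => by
    obtain ⟨G, hGd, hGx⟩ := hrefl v hv
    have h' := hMS ((hX _).1 h)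
    rw [← hG G _ hGx, mem_omega_iff h2 hPND (by omega), hGd] at h'
    exact hδ h'
  -- the second factor
  obtain ⟨p, hp⟩ := CharP.exists F
  haveI : Fact p.Prime := ⟨CharP.char_is_prime F p⟩
  have hodd : Odd p := (Fact.out : p.Prime).odd_of_ne_two fun h => h2 (by
    subst h
    exact_mod_cast CharP.cast_eq_zero F 2)
  have hsmall : ∀ t ∈ SGen fb, kr (1 : GL (Fin 3) F) t ∈ X := fun t ht => by
    induction ht using Subgroup.closure_induction with
    | mem t ht =>
      obtain ⟨o, w, ho, hw, hts⟩ := id ht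
      refine (hX _).2 (hM ⟨(hkr _).2 ⟨_, _, rfl⟩, mem_omega_of_pow h2 hPND (by omega) (fun v => ?_) hodd ?_⟩)
      · obtain ⟨x, rfl⟩ := hTsurj v
        rw [hφ, hQT, hQT]
        congr 2
        have key : ∀ (y z : κ → F), tf (RingEquiv.refl F) (dot F) fb
            (((kr (1 : GL (Fin 3) F) t : GL κ F) : Matrix κ κ F) *ᵥ y)
            (((kr (1 : GL (Fin 3) F) t : GL κ F) : Matrix κ κ F) *ᵥ z) = tf (RingEquiv.refl F) (dot F) fb y z := by
          intro y z
          have hR : ∀ (v : κ → F) (w : Fin 3 → κ → F), tf (RingEquiv.refl F) (dot F) fb v (∑ i, w i) =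
              ∑ i, tf (RingEquiv.refl F) (dot F) fb v (w i) := fun v w =>
            map_sum (AddMonoidHom.mk' (fun z => tf (RingEquiv.refl F) (dot F) fb v z) ((tf_semi D).add_right v)) w
              Finset.univ
          conv_rhs => rw [Form.sum_rows y, Form.sum_rows z]
          conv_lhs => rw [Form.sum_rows y, Form.sum_rows z]
          simp only [Matrix.mulVec_sum, (Form.reflex D).sum_left, hR, kr_tm, tf_tm D, Units.val_one,
            Matrix.one_mulVec, sg_iso H h2 ho hw hts]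
        exact key x x
      · rw [← map_pow]
        have hpw : ∀ m : ℕ, (kr (1 : GL (Fin 3) F) t) ^ m = kr (1 : GL (Fin 3) F) (t ^ m) := fun m => by
          induction m with
          | zero => simp only [pow_zero, kr_one]
          | succ m ih => rw [pow_succ, ih, kr_mul, pow_succ, one_mul]
        have htp : t ^ p = 1 := gl_ext_mulVec fun x => by
          rw [sg_pow H h2 ho hw hts p, CharP.cast_eq_zero F p, zero_smul, Units.val_one, Matrix.one_mulVec]
          simp [lzero H, rzero H]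
        rw [hpw, htp, kr_one, map_one]
    | one => rw [kr_one]; exact one_mem X
    | mul a b _ _ ha hb =>
      rw [← one_mul (1 : GL (Fin 3) F), ← kr_mul]
      exact mul_mem ha hb
    | inv a _ ha =>
      rw [← inv_one (G := GL (Fin 3) F), ← kr_inv]
      exact inv_mem ha
  have C : Ctx fb X := ⟨S, hiso, hsmall, hrot, hneg⟩
  by_cases hF : Full fb X
  swap
  · refine Or.inl (le_antisymm (fun g hg => ?_) hM)
    obtain ⟨g', rfl⟩ := φ.surjective g
    exact ⟨(hkr g').2 (le_kr C hF ((hX g').2 hg)), hMS hg⟩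
  refine Or.inr (le_antisymm hMS ?_)
  obtain ⟨p₁, p₂, hne, hr₁, hr₂⟩ := hF
  have hD2 := Radical.quad_data hPND (by omega)
  have has : ∀ q, Rad fb X q → Radical.Has (fun v => Qf v = 0) (Radical.UQ Qf) M (T q) := fun q hq => by
    refine ⟨show Qf (T q) = 0 by rw [hQT, hq.1, mul_zero, mul_zero], fun h hh => ?_⟩
    obtain ⟨y, hy, hhx⟩ := hh
    obtain ⟨y', rfl⟩ := hTsurj y
    rw [hTh] at hy
    obtain ⟨g, hg, hgx⟩ := hq.2 (c • y')
      (by rw [rsmul C.tH, (mul_eq_zero.mp hy).resolve_left hc, mul_zero])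
    rw [show h = φ g from gl_ext_mulVec fun x => by
      obtain ⟨z, rfl⟩ := hTsurj x
      rw [hhx, hφ, hgx]
      simp only [map_sub, map_add, LinearMap.map_smul, hTh, hQT, lsmul C.tH, rsmul C.tH, symm' C.tH z q,
        symm' C.tH z y']
      module]
    exact (hX g).1 hg
  exact Radical.le_of_pair hD2 hMS (has p₁ hr₁) (has p₂ hr₂) (by rw [hTh]; exact mul_ne_zero hc hne)

end Cfsg.Agent.Classical.TThreeFour
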