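import Cfsg.Agent.Lib.Classical.TensorThreeFour.Diagonal
import Cfsg.Agent.Lib.Classical.TensorThreeFour.Conjugates

/-!
# The pointwise stabiliser of a block; elements moving one involution to another
-/

set_option autoImplicit false
set_option linter.unusedSectionVars false

namespace Cfsg.Agent.Classical.TThreeFour

open Matrix Module Cfsg.Geo
open Cfsg.Agent.Classical Cfsg.Agent.Classical.TensorMax Cfsg.Agent.Classical.TensorMax.Form
open Cfsg.Agent.Classical.TensorMax.OO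
open scoped Kronecker

variable {F : Type*} [Field F] [Fintype F] {fb : (Fin 4 → F) → (Fin 4 → F) → F}
variable {X : Subgroup (GL (Fin 3 × Fin 4) F)}

local notation "VA" => Fin 3 → F
local notation "VB" => Fin 4 → F
local notation "M3" => Matrix (Fin 3) (Fin 3) F
local notation "MB" => Matrix (Fin 4) (Fin 4) F
local notation "κ" => Fin 3 × Fin 4
local notation "Mκ" => Matrix (Fin 3 × Fin 4) (Fin 3 × Fin 4) F
local notation "GB" => GL (Fin 4) F
local notation "E1" => (1 : GL (Fin 3) F)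
local notation:max g:max " ⬝ₘ " x:max =>
  ((g : GL (Fin 3 × Fin 4) F) : Matrix (Fin 3 × Fin 4) (Fin 3 × Fin 4) F) *ᵥ x

/-- The elements fixing one block and commuting with its involution. -/
def Fx (X : Subgroup (GL (Fin 3 × Fin 4) F)) (u : Fin 3 → F) : Subgroup (GL (Fin 3 × Fin 4) F) where
  carrier := {g | g ∈ X ∧ Commute g (az u) ∧
    ∀ b, (g : Matrix (Fin 3 × Fin 4) (Fin 3 × Fin 4) F) *ᵥ tm u b = tm u b}
  one_mem' := ⟨one_mem _, Commute.one_left _, fun b => by rw [Units.val_one, Matrix.one_mulVec]⟩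
  mul_mem' := fun {a b} ha hb => ⟨mul_mem ha.1 hb.1, ha.2.1.mul_left hb.2.1, fun c => by
    rw [gl_mul_mulVec, hb.2.2, ha.2.2]⟩
  inv_mem' := fun {a} ha => ⟨inv_mem ha.1, ha.2.1.inv_left, fun c => by
    conv_lhs => rw [← ha.2.2 c, gl_inv_mulVec_cancel]⟩

/-- The elements fixing a block pointwise are pure. -/
def Triv (X : Subgroup (GL (Fin 3 × Fin 4) F)) (u : Fin 3 → F) : Prop :=
  ∀ r ∈ Fx X u, ∃ s : GL (Fin 3) F, r = kr s 1

theorem kr_commute_one (s : GL (Fin 3) F) (t : GB) : Commute (kr s (1 : GB)) (kr E1 t) := by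
  show kr s 1 * kr E1 t = kr E1 t * kr s 1
  rw [kr_mul, kr_mul, mul_one, one_mul, one_mul, mul_one]

theorem kr_commute_az (u : VA) (t : GB) : Commute (kr E1 t) (az u) := (kr_commute_one (zz u) t).symm

theorem cu_tm (x v : VA) (b : VB) : cu x (tm v b) = ((x ⬝ᵥ x)⁻¹ * (x ⬝ᵥ v)) • b := by
  funext k
  simp only [cu, tm_apply, Pi.smul_apply, smul_eq_mul, dotProduct, Finset.mul_sum, Finset.sum_mul]
  exact Finset.sum_congr rfl fun i _ => by ring

theorem cu_add (x : VA) (a b : κ → F) : cu x (a + b) = cu x a + cu x b := by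
  funext k
  simp only [cu, Pi.add_apply, mul_add, Finset.sum_add_distrib]

theorem cu_smul (x : VA) (c : F) (a : κ → F) : cu x (c • a) = c • cu x a := by
  funext k
  simp only [cu, Pi.smul_apply, smul_eq_mul, Finset.mul_sum]
  exact Finset.sum_congr rfl fun i _ => by ring

theorem exists_pair_mul (C : Ctx fb X) : ∃ b b' : VB, fb b b' = 1 := by
  obtain ⟨o, o', P⟩ := exists_pair C.S
  exact ⟨o', o, P.o'o⟩

/-- A pure element acting on the first factor only is a rotation. -/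
theorem kr_rot (C : Ctx fb X) {s : GL (Fin 3) F} (h : kr s (1 : GB) ∈ X) : s ∈ Rot F := by
  obtain ⟨b, b', hb⟩ := exists_pair_mul C
  have hs : Orth s := fun x y => by
    have e := C.iso _ h (tm x b) (tm y b')
    rw [kr_tm, kr_tm, C.tt, C.tt, Units.val_one, Matrix.one_mulVec, Matrix.one_mulVec, hb, mul_one, mul_one] at e
    exact e
  refine (orth_det C.S.h2 hs).resolve_right fun h' => ?_
  have he : (Pi.single 0 1 : VA) ⬝ᵥ Pi.single 0 1 ≠ 0 := by simp
  refine C.neg _ he ?_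
  have := mul_mem (inv_mem h) (C.rot _ (h' _ he))
  rwa [kr_inv, kr_mul, inv_one, one_mul, inv_mul_cancel_left] at this

theorem kr_fix {s : GL (Fin 3) F} {u u' : VA} {c : F}
    (h : ∀ b : VB, (kr s (1 : GB)) ⬝ₘ (tm u b) = c • tm u' b) : (s : M3) *ᵥ u = c • u' := by
  have h1 := h (Pi.single 0 1)
  rw [kr_tm, Units.val_one, Matrix.one_mulVec, ← tm_smul_left] at h1
  have h2 : tm ((s : M3) *ᵥ u - c • u') (Pi.single 0 1 : VB) = 0 := by rw [tm_sub_left, h1, sub_self]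
  exact sub_eq_zero.mp ((tm_eq_zero h2).resolve_right (by simp))

theorem fx_form (C : Ctx fb X) {u : VA} (hT : Triv X u) {r : GL κ F} (hr : r ∈ Fx X u) :
    ∃ s ∈ Rot F, (s : M3) *ᵥ u = u ∧ r = kr s 1 := by
  obtain ⟨s, rfl⟩ := hT r hr
  exact ⟨s, kr_rot C hr.1, by simpa using kr_fix (c := (1 : F)) (fun b => by rw [hr.2.2 b, one_smul]), rfl⟩

/-- An element moving one involution to another is a pure tensor. -/
theorem move_kr (C : Ctx fb X) {g : GL κ F} (hg : g ∈ X) {v w : VA} (hv : v ⬝ᵥ v ≠ 0) (hw : w ⬝ᵥ w ≠ 0)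
    (hT : Triv X w) (h : g * az v = az w * g) :
    ∃ s t, g = kr s t ∧ ∃ c : F, (s : M3) *ᵥ v = c • w := by
  have S := C.S
  obtain ⟨t, ht⟩ := exists_block S.h2 hv hw h
  have hν : (w ⬝ᵥ w)⁻¹ * (v ⬝ᵥ v) ≠ 0 := mul_ne_zero (inv_ne_zero hw) hv
  have hti : ∀ x y, fb ((t : MB) *ᵥ x) ((t : MB) *ᵥ y) = (w ⬝ᵥ w)⁻¹ * (v ⬝ᵥ v) * fb x y :=
    fun x y => C.iso_block hg hv hw ht x y
  obtain ⟨w', w'', P⟩ := exists_frame S.h2 hw
  have hz : ∀ l ∈ SGen fb, g * kr E1 l * g⁻¹ * (kr E1 (t * l * t⁻¹))⁻¹ ∈ Fx X w := fun l hl => by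
    refine ⟨mul_mem (mul_mem (mul_mem hg (C.small l hl)) (inv_mem hg))
      (inv_mem (C.small _ (sgen_conj S.H S.h2 hν hti hl))), ?_, fun b => ?_⟩
    · refine Commute.mul_left ?_ (kr_commute_az w _).inv_left
      show g * kr E1 l * g⁻¹ * az w = az w * (g * kr E1 l * g⁻¹)
      have h' : g⁻¹ * az w = az v * g⁻¹ := by rw [eq_mul_inv_iff_mul_eq, mul_assoc, ← h, inv_mul_cancel_left]
      rw [mul_assoc _ g⁻¹, h', ← mul_assoc, mul_assoc g (kr E1 l), (kr_commute_az v l).eq, ← mul_assoc, h,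
        mul_assoc (az w), mul_assoc (az w)]
    · have e : ∀ c, g⁻¹ ⬝ₘ (tm w c) = tm v (((t⁻¹ : GB) : MB) *ᵥ c) := fun c => by
        conv_lhs => rw [show c = (t : MB) *ᵥ (((t⁻¹ : GB) : MB) *ᵥ c) from (gl_mulVec_inv_cancel t c).symm, ← ht,
          gl_inv_mulVec_cancel]
      rw [gl_mul_mulVec, gl_mul_mulVec, gl_mul_mulVec, kr_inv, kr_tm, inv_one, Units.val_one, Matrix.one_mulVec, e,
        kr_tm, Units.val_one, Matrix.one_mulVec, ht]
      simp only [Matrix.mulVec_mulVec, ← Units.val_mul]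
      rw [show t * (l * (t⁻¹ * (t * l * t⁻¹)⁻¹)) = 1 by group, Units.val_one, Matrix.one_mulVec]
  have hr := ratio_trivial S (fun l => g * kr E1 l * g⁻¹) (fun l => kr E1 (t * l * t⁻¹))
    (fun a _ b _ => by rw [show g * kr E1 a * g⁻¹ * (g * kr E1 b * g⁻¹) = g * (kr E1 a * kr E1 b) * g⁻¹ by group,
      kr_mul, one_mul])
    (fun a _ b _ => by rw [kr_mul, one_mul, show t * a * t⁻¹ * (t * b * t⁻¹) = t * (a * b) * t⁻¹ by group])
    (fun a ha b _ => by
      obtain ⟨s, -, -, e⟩ := fx_form C hT (hz a ha)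
      rw [e]
      exact kr_commute_one s _)
    (fun a ha b hb => by
      obtain ⟨s, hs, hsw, e⟩ := fx_form C hT (hz a ha)
      obtain ⟨s', hs', hsw', e'⟩ := fx_form C hT (hz b hb)
      rw [e, e']
      show kr s 1 * kr s' 1 = kr s' 1 * kr s 1
      rw [kr_mul, kr_mul, P.rot_comm (orth_rot hs) (det_rot hs) hsw (orth_rot hs') (det_rot hs') hsw'])
  obtain ⟨s, hs⟩ := kr_one_blocks (g := (kr E1 t)⁻¹ * g) S fun l hl => by
    have e := hr l hl
    rw [mul_inv_eq_iff_eq_mul] at e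
    calc (kr E1 t)⁻¹ * g * kr E1 l = (kr E1 t)⁻¹ * (g * kr E1 l) := mul_assoc _ _ _
      _ = (kr E1 t)⁻¹ * kr E1 (t * l * t⁻¹) * g := by rw [e]; exact (mul_assoc _ _ _).symm
      _ = kr E1 l * ((kr E1 t)⁻¹ * g) := by
        rw [kr_inv, kr_mul, inv_one, one_mul, show t⁻¹ * (t * l * t⁻¹) = l * t⁻¹ by group, ← mul_assoc, kr_mul,
          one_mul]
  have hgk : g = kr s t := by
    rw [← mul_inv_cancel_left (kr E1 t) g, hs, kr_mul, one_mul, mul_one]
  refine ⟨s, t, hgk, 1, ?_⟩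
  refine kr_fix (c := (1 : F)) fun b => ?_
  have := ht (((t⁻¹ : GB) : MB) *ᵥ b)
  rw [hgk, kr_tm, gl_mulVec_inv_cancel] at this
  rw [kr_tm, Units.val_one, Matrix.one_mulVec, one_smul, this]

/-- A pure element of the group moves a line only to one of the same class. -/
theorem kr_class (C : Ctx fb X) {s : GL (Fin 3) F} {t : GB} (h : kr s t ∈ X) :
    ∃ μ : F, μ ≠ 0 ∧ ∀ x y : VA, ((s : M3) *ᵥ x) ⬝ᵥ ((s : M3) *ᵥ y) = μ * μ * (x ⬝ᵥ y) := by
  obtain ⟨b, b', hb⟩ := exists_pair_mul C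
  obtain ⟨k, hk⟩ : ∃ k, k = fb ((t : MB) *ᵥ b) ((t : MB) *ᵥ b') := ⟨_, rfl⟩
  have e : ∀ x y : VA, ((s : M3) *ᵥ x) ⬝ᵥ ((s : M3) *ᵥ y) * k = x ⬝ᵥ y := fun x y => by
    have := C.iso _ h (tm x b) (tm y b')
    rwa [kr_tm, kr_tm, C.tt, C.tt, hb, mul_one, ← hk] at this
  have hk0 : k ≠ 0 := fun h0 => es_self (F := F) 0 (by rw [← e, h0, mul_zero])
  have hgram : (s : M3)ᵀ * (s : M3) = k⁻¹ • 1 := by
    ext i j
    have h1 := e (Pi.single i 1) (Pi.single j 1)
    rw [Matrix.mulVec_single_one, Matrix.mulVec_single_one, single_dotProduct, one_mul] at h1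
    rw [Matrix.mul_apply, Matrix.smul_apply, smul_eq_mul, Matrix.one_apply]
    rw [Pi.single_apply] at h1
    rw [← h1, dotProduct]
    field_simp
    rfl
  have hd := congrArg Matrix.det hgram
  rw [Matrix.det_mul, Matrix.det_transpose, Matrix.det_smul, Matrix.det_one, mul_one, Fintype.card_fin] at hd
  have hd0 : (s : M3).det ≠ 0 := ((Matrix.isUnit_iff_isUnit_det _).mp (Units.isUnit s)).ne_zero
  refine ⟨(s : M3).det * k, mul_ne_zero hd0 hk0, fun x y => ?_⟩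
  rw [← e x y]
  field_simp at hd
  have e2 : (s : M3).det * (s : M3).det * k * k * k = 1 := by linear_combination hd
  linear_combination (-(((s : M3) *ᵥ x) ⬝ᵥ ((s : M3) *ᵥ y))) * e2

/-- Conjugation of pointwise stabilisers. -/
theorem triv_conj (C : Ctx fb X) {u : VA} {s : GL (Fin 3) F} (hs : s ∈ Rot F) (hT : Triv X u) :
    Triv X ((s : M3) *ᵥ u) := by
  intro r hr
  have hk := C.rot s hs
  obtain ⟨s', hs'⟩ := hT ((kr s (1 : GB))⁻¹ * r * kr s 1) ⟨mul_mem (mul_mem (inv_mem hk) hr.1) hk, by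
    have e := hr.2.1.eq
    rw [← conj_az (orth_rot hs) (1 : GB) u] at e
    show (kr s (1 : GB))⁻¹ * r * kr s 1 * az u = az u * ((kr s (1 : GB))⁻¹ * r * kr s 1)
    calc (kr s (1 : GB))⁻¹ * r * kr s 1 * az u
        = (kr s (1 : GB))⁻¹ * (r * (kr s 1 * az u * (kr s (1 : GB))⁻¹)) * kr s 1 := by group
      _ = _ := by rw [e]; group, fun b => by
    rw [gl_mul_mulVec, gl_mul_mulVec, kr_tm, Units.val_one, Matrix.one_mulVec, hr.2.2]
    nth_rewrite 1 [show b = ((1 : GB) : MB) *ᵥ b by simp]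
    rw [← kr_tm, gl_inv_mulVec_cancel]⟩
  refine ⟨s * s' * s⁻¹, ?_⟩
  calc r = kr s 1 * ((kr s (1 : GB))⁻¹ * r * kr s 1) * (kr s (1 : GB))⁻¹ := by group
    _ = _ := by rw [hs', kr_inv, kr_mul, kr_mul]; simp

end Cfsg.Agent.Classical.TThreeFour
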