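import Cfsg.Agent.Lib.Classical.TensorThreeFour.Minus
import Mathlib.GroupTheory.Abelianization.Defs

/-!
# The group of Siegel elements: perfect, simple modulo scalars; commuting conjugates
-/

set_option autoImplicit false
set_option linter.unusedSectionVars false

namespace Cfsg.Agent.Classical.TThreeFour

open Matrix Module Cfsg.Geo
open Cfsg.Agent.Classical Cfsg.Agent.Classical.TensorMax.OO

variable {F : Type*} [Field F] [Fintype F] {f : (Fin 4 → F) → (Fin 4 → F) → F}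

local notation "VB" => Fin 4 → F
local notation "MB" => Matrix (Fin 4) (Fin 4) F
local notation:max g:max " •ᵥ " x:max => ((g : GL (Fin 4) F) : Matrix (Fin 4) (Fin 4) F) *ᵥ x

variable (S : Minus f)

include S

omit [Fintype F] S in
theorem exists_sq_ne_one [Fintype F] (h : 5 ≤ Fintype.card F) : ∃ a : F, a ≠ 0 ∧ a ^ 2 ≠ 1 := by
  classical
  by_contra hcon
  push Not at hcon
  have := (Finset.card_le_card (s := (Finset.univ : Finset F)) (t := ({0, 1, -1} : Finset F)) fun a _ => by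
    by_cases ha : a = 0
    · simp [ha]
    · rcases sq_eq_one_iff.mp (hcon a ha) with h | h <;> simp [h]).trans Finset.card_le_three
  rw [Finset.card_univ] at this
  omega

/-- The element turning a pair round. -/
theorem exists_turn {o o' w : VB} (P : Pair f o o') (hw : f w o = 0) (hw' : f w o' = 0) (hk : f w w ≠ 0) :
    ∃ m ∈ SGen f, m •ᵥ o' = -(2⁻¹ * f w w) • o ∧ m •ᵥ o = -(2 / f w w) • o' ∧
      ∀ p, f p o = 0 → f p o' = 0 → m •ᵥ p = p - (2 / f w w * f p w) • w := by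
  obtain ⟨A, hA, hAS⟩ := exists_sg' S.H S.h2 P.oo hw
  have hv : f ((2 / f w w) • w) o' = 0 := by rw [lsmul S.H, hw', mul_zero]
  obtain ⟨B, hB, hBS⟩ := exists_sg' S.H S.h2 P.o'o' hv
  refine ⟨A * B * A, mul_mem (mul_mem hAS hBS) hAS, ?_, ?_, fun p hp hp' => ?_⟩
  all_goals
    have := S.h2
    rw [gl_mul_mulVec, gl_mul_mulVec, hA]
    rw [hB, hA]
  · simp only [ladd S.H, radd S.H, lsub S.H, rsub S.H, lsmul S.H, rsmul S.H, P.oo, P.o'o', P.o'o, S.symm o' o, hw,
      hw', S.symm w o, S.symm w o']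
    match_scalars <;> field_simp <;> ring
  · simp only [ladd S.H, radd S.H, lsub S.H, rsub S.H, lsmul S.H, rsmul S.H, P.oo, P.o'o', P.o'o, S.symm o' o, hw,
      hw', S.symm w o, S.symm w o']
    match_scalars <;> field_simp <;> ring
  · simp only [ladd S.H, radd S.H, lsub S.H, rsub S.H, lsmul S.H, rsmul S.H, P.oo, P.o'o', P.o'o, S.symm o' o, hw,
      hw', S.symm w o, S.symm w o', hp, hp']
    match_scalars <;> field_simp <;> ring

/-- A homomorphism of the group with commuting values is trivial. -/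
theorem hom_trivial {M : Type*} [Group M] (φ : ↥(SGen f) →* M) (hc : ∀ a b, Commute (φ a) (φ b))
    (t : ↥(SGen f)) : φ t = 1 := by
  obtain ⟨a, ha0, ha⟩ := exists_sq_ne_one S.q5
  have main : ∀ (o o' w : VB), Pair f o o' → f w o = 0 → f w o' = 0 → w ≠ 0 →
      ∀ (s : GL (Fin 4) F) (hs : s ∈ SGen f), Sg f o w s → φ ⟨s, hs⟩ = 1 := by
    intro o o' w P hw hw' hw0 s hs hsg
    have hk := aniso S P hw hw' hw0
    have haw : f (a • w) (a • w) = a ^ 2 * f w w := by rw [lsmul S.H, rsmul S.H]; ring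
    obtain ⟨m, hm, m1, m2, m3⟩ := exists_turn S P hw hw' hk
    obtain ⟨n, hn, n1, n2, n3⟩ := exists_turn S P (w := a • w) (by rw [lsmul S.H, hw, mul_zero])
      (by rw [lsmul S.H, hw', mul_zero]) (by rw [haw]; exact mul_ne_zero (pow_ne_zero 2 ha0) hk)
    rw [haw] at n1 n2 n3
    obtain ⟨c, hc'⟩ : ∃ c, c = a ^ 2 := ⟨_, rfl⟩
    have hc0 : c ≠ 0 := hc' ▸ pow_ne_zero 2 ha0
    obtain ⟨h, hh⟩ : ∃ h, h = n * m := ⟨_, rfl⟩
    have hho : h •ᵥ o = c • o := by
      rw [hh, gl_mul_mulVec, m2, Matrix.mulVec_smul, n1, hc']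
      have := S.h2
      match_scalars
      field_simp
    have hhp : ∀ p, f p o = 0 → f p o' = 0 → h •ᵥ p = p := fun p hp hp' => by
      have := S.h2
      rw [hh, gl_mul_mulVec, m3 p hp hp', n3 _ (by simp only [lsub S.H, lsmul S.H, hp, hw]; ring)
        (by simp only [lsub S.H, lsmul S.H, hp', hw']; ring)]
      simp only [lsub S.H, lsmul S.H, rsmul S.H, smul_smul]
      match_scalars <;> field_simp <;> ring
    have hiso : ∀ x y, f (h •ᵥ x) (h •ᵥ y) = 1 * f x y := fun x y => by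
      rw [one_mul]; exact sgen_iso S.H S.h2 (hh ▸ mul_mem hn hm) x y
    -- the root group is moved by a scalar
    obtain ⟨v, hv⟩ : ∃ v, v = (c - 1)⁻¹ • w := ⟨_, rfl⟩
    have hc1 : c - 1 ≠ 0 := sub_ne_zero.mpr (hc' ▸ ha)
    have hvo : f v o = 0 := by rw [hv, lsmul S.H, hw, mul_zero]
    have hvo' : f v o' = 0 := by rw [hv, lsmul S.H, hw', mul_zero]
    obtain ⟨r, hr, hrS⟩ := exists_sg' S.H S.h2 P.oo hvo
    have h1 : Sg f (h •ᵥ o) ((1 : F)⁻¹ • h •ᵥ v) (h * r * h⁻¹) := sg_conj S.H one_ne_zero hiso hr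
    rw [hho, hhp v hvo hvo', inv_one, one_smul] at h1
    have h2 := sg_scale S h1
    have h3 : Sg f o (w + v) (s * r) := sg_mul S P.oo hw hvo hsg hr
    have hcv : c • v = w + v := by
      rw [hv, ← sub_eq_iff_eq_add, smul_smul, ← sub_smul]
      rw [show c * (c - 1)⁻¹ - (c - 1)⁻¹ = 1 by field_simp, one_smul]
    rw [hcv] at h2
    have e : φ (⟨h, hh ▸ mul_mem hn hm⟩ * ⟨r, hrS⟩ * ⟨h, hh ▸ mul_mem hn hm⟩⁻¹) = φ (⟨s, hs⟩ * ⟨r, hrS⟩) :=
      congrArg φ (Subtype.ext (sg_unique S h2 h3))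
    rw [map_mul, map_mul, map_mul, map_inv, (hc _ _).eq, mul_inv_cancel_right] at e
    exact (mul_eq_right (b := φ ⟨r, hrS⟩)).mp e.symm
  obtain ⟨t, ht⟩ := t
  induction ht using Subgroup.closure_induction with
  | mem x hx =>
    obtain ⟨o, w, ho, hw, hx'⟩ := id hx
    by_cases ho0 : o = 0
    · have : x = 1 := gl_ext_mulVec fun y => by
        rw [hx', ho0, Units.val_one, Matrix.one_mulVec, rzero S.H]
        simp
      subst this
      exact map_one φ
    obtain ⟨o', P⟩ := exists_pair_of S ho0 ho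
    obtain ⟨p, hp⟩ : ∃ p, p = w - f w o' • o := ⟨_, rfl⟩
    have hpo : f p o = 0 := by rw [hp, lsub S.H, lsmul S.H, hw, ho, mul_zero, sub_zero]
    have hpo' : f p o' = 0 := by rw [hp, lsub S.H, lsmul S.H, S.symm o' o, P.o'o, mul_one, sub_self]
    have hx2 : Sg f o p x := sg_shift S ho hpo (f w o') (by rw [hp, sub_add_cancel]; exact hx')
    by_cases hp0 : p = 0
    · subst hp0
      have := sg_unique S hx2 (sg_one S)
      subst this
      exact map_one φ
    exact main o o' p P hpo hpo' hp0 x _ hx2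
  | one => exact map_one φ
  | mul x y hx hy ihx ihy =>
    show φ (⟨x, hx⟩ * ⟨y, hy⟩) = 1
    rw [map_mul, ihx, ihy, one_mul]
  | inv x hx ih =>
    show φ (⟨x, hx⟩⁻¹) = 1
    rw [map_inv, ih, inv_one]

/-- A function on the group, multiplicative with commuting values, is trivial. -/
theorem fun_trivial {M : Type*} [Group M] (φ : GL (Fin 4) F → M)
    (hm : ∀ a ∈ SGen f, ∀ b ∈ SGen f, φ (a * b) = φ a * φ b)
    (hc : ∀ a ∈ SGen f, ∀ b ∈ SGen f, φ a * φ b = φ b * φ a) : ∀ t ∈ SGen f, φ t = 1 := fun t ht =>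
  hom_trivial S (MonoidHom.mk' (fun t : ↥(SGen f) => φ t.1) fun a b => hm a.1 a.2 b.1 b.2)
    (fun a b => hc a.1 a.2 b.1 b.2) ⟨t, ht⟩

/-- A normal subgroup with an element moving a line is the whole group. -/
theorem normal_top (N : Subgroup (GL (Fin 4) F)) (hN : N ≤ SGen f)
    (hnorm : ∀ t ∈ SGen f, ∀ x ∈ N, t * x * t⁻¹ ∈ N) {n : GL (Fin 4) F} (hn : n ∈ N)
    (hns : ∀ c : F, (n : MB) ≠ c • 1) : SGen f ≤ N := by
  -- a moved singular point
  obtain ⟨o, ho, hmv⟩ : ∃ o, f o o = 0 ∧ ∀ c : F, n •ᵥ o ≠ c • o := by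
    by_contra hcon
    push Not at hcon
    obtain ⟨c, hc⟩ := scalar_of_lines S (n : MB) hcon
    exact hns c hc
  have ho0 : o ≠ 0 := fun h => hmv 0 (by rw [h, Matrix.mulVec_zero, smul_zero])
  obtain ⟨o₁, ho₁⟩ : ∃ o₁, o₁ = n •ᵥ o := ⟨_, rfl⟩
  have h11 : f o₁ o₁ = 0 := by rw [ho₁, sgen_iso S.H S.h2 (hN hn), ho]
  have h1o : f o₁ o ≠ 0 := fun h => by
    obtain ⟨c, hc⟩ := dependent S ho h11 (by rw [S.symm]; exact h) ho0
    exact hmv c (ho₁ ▸ hc)
  -- every point is an image under the normal subgroup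
  have trans : ∀ u, f u u = 0 → u ≠ 0 → ∃ x ∈ N, ∃ c : F, c ≠ 0 ∧ x •ᵥ o = c • u := by
    intro u hu hu0
    by_cases huo : f u o = 0
    · obtain ⟨c, rfl⟩ := dependent S ho hu (by rw [S.symm]; exact huo) ho0
      have hc : c ≠ 0 := fun h => hu0 (by rw [h, zero_smul])
      exact ⟨1, one_mem _, c⁻¹, inv_ne_zero hc, by rw [Units.val_one, Matrix.one_mulVec, inv_smul_smul₀ hc]⟩
    obtain ⟨t, ht, hto, hte⟩ := exists_move S (o := o) (o' := (f o₁ o)⁻¹ • o₁) (o'' := (f u o)⁻¹ • u) ho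
      (by rw [lsmul S.H, rsmul S.H, h11, mul_zero, mul_zero]) (by rw [lsmul S.H, rsmul S.H, hu, mul_zero, mul_zero])
      (by rw [lsmul S.H, inv_mul_cancel₀ h1o]) (by rw [lsmul S.H, inv_mul_cancel₀ huo])
    refine ⟨t * n * t⁻¹, hnorm t ht n hn, f o₁ o * (f u o)⁻¹, mul_ne_zero h1o (inv_ne_zero huo), ?_⟩
    rw [Matrix.mulVec_smul, inv_smul_eq_iff₀ h1o, smul_smul] at hte
    rw [gl_mul_mulVec, gl_mul_mulVec, show t⁻¹ •ᵥ o = o by conv_lhs => rw [← hto, gl_inv_mulVec_cancel],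
      ← ho₁, hte]
  -- the quotient is commutative
  haveI : (N.subgroupOf (SGen f)).Normal := ⟨fun x hx g => hnorm g.1 g.2 x.1 hx⟩
  let π : ↥(SGen f) →* ↥(SGen f) ⧸ N.subgroupOf (SGen f) := QuotientGroup.mk' _
  have hroot : ∀ u w, f u u = 0 → f w u = 0 → ∀ s, ∀ hs : s ∈ SGen f, Sg f u w s →
      ∃ w', f w' o = 0 ∧ ∃ r, ∃ hr : r ∈ SGen f, Sg f o w' r ∧ π ⟨s, hs⟩ = π ⟨r, hr⟩ := by
    intro u w hu hw s hs hsg
    by_cases hu0 : u = 0
    · refine ⟨0, lzero S.H o, 1, one_mem _, sg_one S, ?_⟩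
      congr 1
      exact Subtype.ext (gl_ext_mulVec fun y => by
        rw [hsg, hu0, Units.val_one, Matrix.one_mulVec, rzero S.H]; simp)
    obtain ⟨x, hx, c, hc, e⟩ := trans u hu hu0
    have hiso : ∀ y z, f (x⁻¹ •ᵥ y) (x⁻¹ •ᵥ z) = 1 * f y z := fun y z => by
      rw [one_mul, sgen_iso S.H S.h2 (inv_mem (hN hx))]
    have h1 := sg_conj S.H one_ne_zero hiso hsg
    have e2 : x⁻¹ •ᵥ u = c⁻¹ • o := by
      rw [eq_inv_smul_iff₀ hc, ← Matrix.mulVec_smul, ← e, gl_inv_mulVec_cancel]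
    rw [e2] at h1
    refine ⟨_, ?_, _, mul_mem (mul_mem (inv_mem (hN hx)) hs) (inv_mem (inv_mem (hN hx))), sg_scale S h1, ?_⟩
    · have h := hiso w u
      rw [e2, rsmul S.H, hw, mul_zero] at h
      rw [lsmul S.H, inv_one, one_smul]
      exact h
    · have h1 : π ⟨x, hN hx⟩ = 1 := (QuotientGroup.eq_one_iff _).mpr hx
      show _ = π (⟨x, hN hx⟩⁻¹ * ⟨s, hs⟩ * ⟨x, hN hx⟩⁻¹⁻¹)
      rw [map_mul, map_mul, map_inv, map_inv, map_inv, h1, inv_one, inv_one, mul_one, one_mul]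
  have hcomm : ∀ a b : ↥(SGen f), Commute (π a) (π b) := by
    have hgen : ∀ a : ↥(SGen f), ∀ b : GL (Fin 4) F, ∀ hb : b ∈ SGen f,
        (∃ v, f v o = 0 ∧ Sg f o v b) → Commute (π a) (π ⟨b, hb⟩) := by
      rintro ⟨a, ha⟩ b hb ⟨v, hv, hvb⟩
      induction ha using Subgroup.closure_induction with
      | mem x hx =>
        obtain ⟨u, w, hu, hw, hxs⟩ := id hx
        obtain ⟨w', hw', r, hr, hrs, e⟩ := hroot u w hu hw x (mem_sgen S hu hw hxs) hxs
        refine Eq.subst (motive := fun z => Commute z _) e.symm ?_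
        refine Commute.map (Subtype.ext ?_ : Commute (⟨r, hr⟩ : ↥(SGen f)) ⟨b, hb⟩) π
        exact sg_unique S (sg_mul S ho hw' hv hrs hvb) (add_comm v w' ▸ sg_mul S ho hv hw' hvb hrs)
      | one => exact (map_one π) ▸ Commute.one_left _
      | mul x y hx hy ihx ihy =>
        show Commute (π (⟨x, hx⟩ * ⟨y, hy⟩)) _
        rw [map_mul]
        exact ihx.mul_left ihy
      | inv x hx ih =>
        show Commute (π (⟨x, hx⟩⁻¹)) _
        rw [map_inv]
        exact ih.inv_left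
    rintro a ⟨b, hb⟩
    induction hb using Subgroup.closure_induction with
    | mem x hx =>
      obtain ⟨u, w, hu, hw, hxs⟩ := id hx
      obtain ⟨w', hw', r, hr, hrs, e⟩ := hroot u w hu hw x (mem_sgen S hu hw hxs) hxs
      refine Eq.subst (motive := fun z => Commute _ z) e.symm ?_
      exact hgen a r hr ⟨w', hw', hrs⟩
    | one => exact (map_one π) ▸ Commute.one_right _
    | mul x y hx hy ihx ihy =>
      show Commute _ (π (⟨x, hx⟩ * ⟨y, hy⟩))
      rw [map_mul]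
      exact ihx.mul_right ihy
    | inv x hx ih =>
      show Commute _ (π (⟨x, hx⟩⁻¹))
      rw [map_inv]
      exact ih.inv_right
  intro t ht
  exact (QuotientGroup.eq_one_iff (⟨t, ht⟩ : ↥(SGen f))).mp (hom_trivial S π hcomm ⟨t, ht⟩)

end Cfsg.Agent.Classical.TThreeFour
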