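import Cfsg.Agent.Lib.Classical.TensorThreeFour.Fixer

/-!
# An abelian group inverted by an involution and normalised by the second factor is centralised by it
-/

set_option autoImplicit false
set_option linter.unusedSectionVars false

namespace Cfsg.Agent.Classical.TThreeFour

open Matrix Module Cfsg.Geo
open Cfsg.Agent.Classical Cfsg.Agent.Classical.TensorMax Cfsg.Agent.Classical.TensorMax.Form
open Cfsg.Agent.Classical.TensorMax.OO
open scoped Kronecker

variable {F : Type*} [Field F] [Fintype F] {fb : (Fin 4 → F) → (Fin 4 → F) → F}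
variable {X : Subgroup (GL (Fin 3 × Fin 4) F)}

local notation "VA" => Fin 3 → F
local notation "VB" => Fin 4 → F
local notation "M3" => Matrix (Fin 3) (Fin 3) F
local notation "MB" => Matrix (Fin 4) (Fin 4) F
local notation "κ" => Fin 3 × Fin 4
local notation "Mκ" => Matrix (Fin 3 × Fin 4) (Fin 3 × Fin 4) F
local notation "GB" => GL (Fin 4) F
local notation "E1" => (1 : GL (Fin 3) F)
local notation:max g:max " ⬝ₘ " x:max =>
  ((g : GL (Fin 3 × Fin 4) F) : Matrix (Fin 3 × Fin 4) (Fin 3 × Fin 4) F) *ᵥ x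

/-- The coordinate of one block of an element in another. -/
noncomputable def bl (x y : Fin 3 → F) (n : GL (Fin 3 × Fin 4) F) : Matrix (Fin 4) (Fin 4) F :=
  LinearMap.toMatrix'
    { toFun := fun b => cu x ((n : Matrix (Fin 3 × Fin 4) (Fin 3 × Fin 4) F) *ᵥ tm y b)
      map_add' := fun a b => by rw [tm_add_right, Matrix.mulVec_add, cu_add]
      map_smul' := fun c a => by rw [tm_smul_right, Matrix.mulVec_smul, cu_smul, RingHom.id_apply] }

theorem bl_apply (x y : VA) (n : GL κ F) (b : VB) : bl x y n *ᵥ b = cu x (n ⬝ₘ (tm y b)) := by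
  rw [bl, LinearMap.toMatrix'_mulVec]
  rfl

theorem range_eq_zero {M : MB} (h : ∀ b : VB, M *ᵥ b = 0) : M = 0 :=
  Matrix.ext_iff_mulVec.mpr fun b => by rw [h, Matrix.zero_mulVec]

/-- The group is centralised by the second factor. -/
theorem inverted_central (C : Ctx fb X) {u v w : VA} (P : Frame u v w) (N : Subgroup (GL κ F)) (hNX : N ≤ X)
    (hab : ∀ n ∈ N, ∀ m ∈ N, Commute n m) (hcu : ∀ n ∈ N, Commute n (az u))
    (hfix : ∀ n ∈ N, ∀ b, n ⬝ₘ (tm u b) = tm u b) (hinv : ∀ n ∈ N, az v * n * az v = n⁻¹)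
    (hL : ∀ l ∈ SGen fb, ∀ n ∈ N, kr E1 l * n * (kr E1 l)⁻¹ ∈ N) :
    ∀ n ∈ N, ∀ l ∈ SGen fb, Commute n (kr E1 l) := by
  classical
  have S := C.S
  -- uniqueness of coordinates
  have cv : ∀ a c : VB, cu v (tm v a + tm w c) = a ∧ cu w (tm v a + tm w c) = c := fun a c => by
    refine ⟨?_, ?_⟩ <;>
      simp only [cu_add, cu_tm, P.vw, dotProduct_comm w v, inv_mul_cancel₀ P.vv, inv_mul_cancel₀ P.ww, mul_zero,
        zero_smul, one_smul, add_zero, zero_add]
  -- the two columns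
  have col : ∀ n ∈ N, ∀ y : VA, u ⬝ᵥ y = 0 → ∀ b, n ⬝ₘ (tm y b) = tm v (bl v y n *ᵥ b) + tm w (bl w y n *ᵥ b) := by
    intro n hn y hy b
    have hneg : (az u) ⬝ₘ (n ⬝ₘ (tm y b)) = -(n ⬝ₘ (tm y b)) := by
      rw [← gl_mul_mulVec, ← (hcu n hn).eq, gl_mul_mulVec, az_tm, zz_perp hy, ← neg_one_smul F y, tm_smul_left,
        Matrix.mulVec_smul, neg_one_smul]
    obtain ⟨z, hz⟩ : ∃ z, z = n ⬝ₘ (tm y b) := ⟨_, rfl⟩
    rw [bl_apply, bl_apply, ← hz]
    rw [← hz] at hneg
    have e : z = tm u (cu u z) + tm v (cu v z) + tm w (cu w z) := by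
      rw [← pr_kron, ← pr_kron, ← pr_kron, ← Matrix.add_mulVec, ← Matrix.add_mulVec, ← Matrix.add_kronecker,
        ← Matrix.add_kronecker, P.resolution, Matrix.one_kronecker_one, Matrix.one_mulVec]
    have e' := hneg
    rw [e, Matrix.mulVec_add, Matrix.mulVec_add, az_tm, az_tm, az_tm, zz_self P.uu, zz_perp P.uv, zz_perp P.uw] at e'
    simp only [← neg_one_smul F v, ← neg_one_smul F w, tm_smul_left] at e'
    have e2 : (2 : F) • tm u (cu u z) = (0 : κ → F) := by
      rw [← sub_eq_zero] at e'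
      rw [← e']
      module
    rw [(smul_eq_zero.mp e2).resolve_left S.h2, zero_add] at e
    exact e
  have hvu : u ⬝ᵥ v = 0 := P.uv
  have hwu : u ⬝ᵥ w = 0 := P.uw
  have eav : ∀ (a c : VB), (az v) ⬝ₘ (tm v a + tm w c) = tm v a - tm w c := fun a c => by
    rw [Matrix.mulVec_add, az_tm, az_tm, zz_self P.vv, zz_perp P.vw, ← neg_one_smul F w, tm_smul_left, neg_one_smul,
      ← sub_eq_add_neg]
  -- products
  have prod : ∀ n ∈ N, ∀ m ∈ N, ∀ y : VA, u ⬝ᵥ y = 0 →
      bl v y (n * m) = bl v v n * bl v y m + bl v w n * bl w y m ∧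
        bl w y (n * m) = bl w v n * bl v y m + bl w w n * bl w y m := by
    intro n hn m hm y hy
    refine ⟨Matrix.ext_iff_mulVec.mpr fun b => ?_, Matrix.ext_iff_mulVec.mpr fun b => ?_⟩ <;>
    · rw [bl_apply, gl_mul_mulVec, col m hm y hy, Matrix.mulVec_add, col n hn v hvu, col n hn w hwu,
        Matrix.add_mulVec, ← Matrix.mulVec_mulVec, ← Matrix.mulVec_mulVec]
      rw [show ∀ p q r s : κ → F, p + q + (r + s) = (p + r) + (q + s) from fun p q r s => by abel,
        ← tm_add_right, ← tm_add_right]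
      first
        | exact (cv _ _).1
        | exact (cv _ _).2
  have inv1 : ∀ n ∈ N, bl v v n⁻¹ = bl v v n ∧ bl v w n⁻¹ = -bl v w n ∧ bl w v n⁻¹ = -bl w v n ∧
      bl w w n⁻¹ = bl w w n := by
    intro n hn
    refine ⟨?_, ?_, ?_, ?_⟩ <;> refine Matrix.ext_iff_mulVec.mpr fun b => ?_ <;>
      rw [bl_apply, ← hinv n hn, gl_mul_mulVec, gl_mul_mulVec]
    · rw [az_tm, zz_self P.vv, col n hn v hvu, eav, sub_eq_add_neg, ← neg_one_smul F (tm w _), ← tm_smul_right,
        (cv _ _).1]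
    · rw [az_tm, zz_perp P.vw, ← neg_one_smul F w, tm_smul_left, Matrix.mulVec_smul, col n hn w hwu,
        Matrix.mulVec_smul, eav, cu_smul, sub_eq_add_neg, ← neg_one_smul F (tm w _), ← tm_smul_right,
        (cv _ _).1, Matrix.neg_mulVec, neg_one_smul]
    · rw [az_tm, zz_self P.vv, col n hn v hvu, eav, sub_eq_add_neg, ← neg_one_smul F (tm w _), ← tm_smul_right,
        (cv _ _).2, Matrix.neg_mulVec, neg_one_smul]
    · rw [az_tm, zz_perp P.vw, ← neg_one_smul F w, tm_smul_left, Matrix.mulVec_smul, col n hn w hwu,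
        Matrix.mulVec_smul, eav, cu_smul, sub_eq_add_neg, ← neg_one_smul F (tm w _), ← tm_smul_right,
        (cv _ _).2, smul_smul, neg_one_mul, neg_neg, one_smul]
  have conj : ∀ l ∈ SGen fb, ∀ n ∈ N, ∀ x y : VA, u ⬝ᵥ y = 0 →
      bl x y (kr E1 l * n * (kr E1 l)⁻¹) = (l : MB) * bl x y n * ((l⁻¹ : GB) : MB) := by
    intro l hl n hn x y hy
    refine Matrix.ext_iff_mulVec.mpr fun b => ?_
    have hcl : ∀ z : κ → F, cu x ((kr E1 l) ⬝ₘ z) = (l : MB) *ᵥ cu x z := fun z => by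
      have e : cu x ((kr E1 l) ⬝ₘ z) = cu x ((kr E1 l) ⬝ₘ (∑ i, tm (Pi.single i 1) (Form.row z i))) := by
        rw [← Form.sum_rows]
      rw [e]
      have hsum : ∀ g : Fin 3 → κ → F, cu x (∑ i, g i) = ∑ i, cu x (g i) := fun g =>
        map_sum (AddMonoidHom.mk' (cu x) (cu_add x)) g Finset.univ
      conv_rhs => rw [Form.sum_rows z]
      simp only [Matrix.mulVec_sum, hsum, kr_tm, Units.val_one, Matrix.one_mulVec, cu_tm, Matrix.mulVec_smul]
    rw [bl_apply, kr_inv, gl_mul_mulVec, gl_mul_mulVec, kr_tm, inv_one, Units.val_one, Matrix.one_mulVec, hcl,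
      ← bl_apply, Matrix.mulVec_mulVec, Matrix.mulVec_mulVec]
  -- the diagonal coordinates are scalar
  have comm2 : ∀ n ∈ N, ∀ m ∈ N, Commute (bl v v n) (bl v v m) ∧ Commute (bl w w n) (bl w w m) := by
    intro n hn m hm
    obtain ⟨p1, -⟩ := prod n hn m hm v hvu
    obtain ⟨p2, -⟩ := prod n⁻¹ (inv_mem hn) m hm v hvu
    obtain ⟨p3, -⟩ := prod m hm n hn v hvu
    obtain ⟨p4, -⟩ := prod m hm n⁻¹ (inv_mem hn) v hvu
    obtain ⟨-, q1⟩ := prod n hn m hm w hwu
    obtain ⟨-, q2⟩ := prod n⁻¹ (inv_mem hn) m hm w hwu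
    obtain ⟨-, q3⟩ := prod m hm n hn w hwu
    obtain ⟨-, q4⟩ := prod m hm n⁻¹ (inv_mem hn) w hwu
    obtain ⟨i1, i2, i3, i4⟩ := inv1 n hn
    rw [(hab n hn m hm).eq, p3] at p1
    rw [(hab n⁻¹ (inv_mem hn) m hm).eq, p4, i1, i2, i3] at p2
    rw [(hab n hn m hm).eq, q3] at q1
    rw [(hab n⁻¹ (inv_mem hn) m hm).eq, q4, i2, i3, i4] at q2
    refine ⟨?_, ?_⟩ <;> refine smul_right_injective MB S.h2 ?_ <;>
      simp only [two_smul]
    · have e := congrArg₂ (· + ·) p1 p2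
      simp only [neg_mul, mul_neg] at e
      rw [← sub_eq_zero] at e ⊢
      rw [← neg_eq_zero, ← e]
      abel
    · have e := congrArg₂ (· + ·) q1 q2
      simp only [neg_mul, mul_neg] at e
      rw [← sub_eq_zero] at e ⊢
      rw [← neg_eq_zero, ← e]
      abel
  have diag : ∀ n ∈ N, ∃ a d : F, bl v v n = a • 1 ∧ bl w w n = d • 1 := by
    intro n hn
    obtain ⟨a, ha⟩ := scalar_of_conjugates S (A := bl v v n) fun t ht s hs => by
      rw [← conj t ht n hn v v hvu, ← conj s hs n hn v v hvu]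
      exact (comm2 _ (hL t ht n hn) _ (hL s hs n hn)).1
    obtain ⟨d, hd⟩ := scalar_of_conjugates S (A := bl w w n) fun t ht s hs => by
      rw [← conj t ht n hn w w hwu, ← conj s hs n hn w w hwu]
      exact (comm2 _ (hL t ht n hn) _ (hL s hs n hn)).2
    exact ⟨a, d, ha, hd⟩
  have offp : ∀ n ∈ N, ∀ m ∈ N, ∃ k k' : F,
      bl v w n * bl w v m = k • 1 ∧ bl w v n * bl v w m = k' • 1 := by
    intro n hn m hm
    obtain ⟨a, d, ha, hd⟩ := diag n hn
    obtain ⟨a', d', ha', hd'⟩ := diag m hm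
    obtain ⟨a'', d'', ha'', hd''⟩ := diag (n * m) (mul_mem hn hm)
    have e := (prod n hn m hm v hvu).1
    have e' := (prod n hn m hm w hwu).2
    rw [ha, ha', ha''] at e
    rw [hd, hd', hd''] at e'
    refine ⟨a'' - a * a', d'' - d * d', ?_, ?_⟩
    · rw [sub_smul, e, Matrix.smul_mul, one_mul, smul_smul, add_sub_cancel_left]
    · rw [sub_smul, e', Matrix.smul_mul, one_mul, smul_smul, add_sub_cancel_right]
  -- the off diagonal coordinates are scalar
  suffices hoff : ∀ n ∈ N, ∃ b c : F, bl v w n = b • 1 ∧ bl w v n = c • 1 by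
    intro n hn l hl
    obtain ⟨a, d, ha, hd⟩ := diag n hn
    obtain ⟨b, c, hb, hc⟩ := hoff n hn
    refine Units.ext (ext_frame P (fun x => ?_) (fun x => ?_) (fun x => ?_)) <;>
      rw [Units.val_mul, Units.val_mul, ← Matrix.mulVec_mulVec, ← Matrix.mulVec_mulVec, kr_tm, Units.val_one,
        Matrix.one_mulVec]
    · rw [hfix n hn, hfix n hn, kr_tm, Units.val_one, Matrix.one_mulVec]
    all_goals
      first
        | rw [col n hn v hvu, col n hn v hvu, ha, hc]
        | rw [col n hn w hwu, col n hn w hwu, hb, hd]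
      simp only [Matrix.mulVec_add, Matrix.smul_mulVec, Matrix.one_mulVec, tm_smul_right, Matrix.mulVec_smul, kr_tm,
        Units.val_one]
  have zero_side : ∀ (x y : VA), (x = v ∧ y = w) ∨ (x = w ∧ y = v) → (∀ n ∈ N, bl x y n = 0) →
      ∀ n ∈ N, bl y x n = 0 := by
    intro x y hxy h0 n hn
    have hxd : x ⬝ᵥ x ≠ 0 ∧ x ⬝ᵥ y = 0 ∧ u ⬝ᵥ x = 0 ∧ u ⬝ᵥ y = 0 ∧ y ⬝ᵥ y ≠ 0 ∧
        (∀ m ∈ N, ∀ b, m ⬝ₘ (tm y b) = tm y (bl y y m *ᵥ b) + tm x (bl x y m *ᵥ b)) ∧
        (∀ m ∈ N, ∀ b, m ⬝ₘ (tm x b) = tm y (bl y x m *ᵥ b) + tm x (bl x x m *ᵥ b)) ∧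
        ∀ m ∈ N, ∃ a : F, bl y y m = a • 1 := by
      rcases hxy with ⟨rfl, rfl⟩ | ⟨rfl, rfl⟩
      · exact ⟨P.vv, P.vw, hvu, hwu, P.ww, fun m hm b => by rw [col m hm _ hwu, add_comm],
          fun m hm b => by rw [col m hm _ hvu, add_comm], fun m hm => by
            obtain ⟨a, d, -, hd⟩ := diag m hm; exact ⟨d, hd⟩⟩
      · exact ⟨P.ww, by rw [dotProduct_comm]; exact P.vw, hwu, hvu, P.vv, fun m hm b => col m hm _ hvu b,
          fun m hm b => col m hm _ hwu b, fun m hm => by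
            obtain ⟨a, d, ha, -⟩ := diag m hm; exact ⟨a, ha⟩⟩
    obtain ⟨hxx, hxy0, hux, huy, hyy, cy, cx, dy⟩ := hxd
    obtain ⟨a, ha⟩ := dy n hn
    have e1 : ∀ b, n ⬝ₘ (tm y b) = tm y (a • b) := fun b => by
      rw [cy n hn, h0 n hn, ha, Matrix.zero_mulVec, tm_zero_right, add_zero, Matrix.smul_mulVec, Matrix.one_mulVec]
    have ha0 : a ≠ 0 := fun h => by
      have := e1 (Pi.single 0 1)
      rw [h, zero_smul, tm_zero_right] at this
      have h' : tm y (Pi.single 0 1 : VB) = 0 := by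
        rw [← gl_inv_mulVec_cancel n (tm y (Pi.single 0 1 : VB)), this, Matrix.mulVec_zero]
      rcases tm_eq_zero h' with h' | h'
      · exact hyy (by rw [h', zero_dotProduct])
      · simp at h'
    refine range_eq_zero fun b => ext_left S.H fun z => ?_
    have e := C.iso n (hNX hn) (tm x b) (tm y z)
    rw [cx n hn, e1, ladd C.tH, C.tt, C.tt, C.tt, hxy0, zero_mul, zero_mul, add_zero, rsmul S.H] at e
    rw [lzero S.H]
    exact (mul_eq_zero.mp ((mul_eq_zero.mp e).resolve_left hyy)).resolve_left ha0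
  by_cases hall : ∃ n ∈ N, ∃ m ∈ N, bl v w n * bl w v m ≠ 0
  · obtain ⟨n₀, hn₀, m₀, hm₀, hne⟩ := hall
    obtain ⟨k, -, hk, -⟩ := offp n₀ hn₀ m₀ hm₀
    have hk0 : k ≠ 0 := fun h => hne (by rw [hk, h, zero_smul])
    have hunit : IsUnit (bl v w n₀) := by
      rw [Matrix.isUnit_iff_isUnit_det]
      have : IsUnit (bl v w n₀ * bl w v m₀).det := by
        rw [hk, Matrix.det_smul, Matrix.det_one, mul_one]
        exact (IsUnit.mk0 _ hk0).pow _
      rw [Matrix.det_mul] at this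
      exact isUnit_of_mul_isUnit_left this
    obtain ⟨T, hT⟩ := hunit
    have hC : ∀ m ∈ N, ∃ c : F, bl w v m = c • ((T⁻¹ : GB) : MB) := fun m hm => by
      obtain ⟨c, -, hc, -⟩ := offp n₀ hn₀ m hm
      rw [← hT] at hc
      exact ⟨c, by rw [← Units.inv_mul_cancel_left T (bl w v m), hc, Matrix.mul_smul, mul_one]⟩
    obtain ⟨c₀, hc₀⟩ := hC m₀ hm₀
    have hc₀0 : c₀ ≠ 0 := fun h => hne (by rw [hc₀, h, zero_smul, mul_zero])
    have hB : ∀ m ∈ N, ∃ c : F, bl v w m = c • (T : MB) := fun m hm => by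
      obtain ⟨-, c, -, hc⟩ := offp m₀ hm₀ m hm
      rw [hc₀, Matrix.smul_mul] at hc
      refine ⟨c₀⁻¹ * c, ?_⟩
      rw [← Units.mul_inv_cancel_left T (bl v w m), ← inv_smul_smul₀ hc₀0 (((T⁻¹ : GB) : MB) * bl v w m), hc,
        smul_smul, Matrix.mul_smul, mul_one]
    have hTc : Cent T := cent_of_comm S fun l hl => by
      obtain ⟨c, hc⟩ := hB _ (hL l hl n₀ hn₀)
      rw [conj l hl n₀ hn₀ v w hwu, ← hT] at hc
      have hc0 : c ≠ 0 := fun h => by
        rw [h, zero_smul] at hc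
        refine (Units.isUnit (l * T * l⁻¹)).ne_zero ?_
        rw [Units.val_mul, Units.val_mul, hc]
      refine cent_of_scalar (c := c⁻¹) ?_
      rw [eq_inv_smul_iff₀ hc0, mul_assoc (T * l) T⁻¹, Units.val_mul, Units.val_mul, Units.val_mul,
        ← Matrix.smul_mul, ← Matrix.smul_mul, ← hc]
      simp [mul_assoc]
    obtain ⟨z, hz⟩ := scalar_of_cent S hTc
    obtain ⟨z', hz'⟩ := scalar_of_cent S (t := T⁻¹) fun y => (hTc y).inv_left
    intro n hn
    obtain ⟨b, hb⟩ := hB n hn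
    obtain ⟨c, hc⟩ := hC n hn
    exact ⟨b * z, c * z', by rw [hb, hz, smul_smul], by rw [hc, hz', smul_smul]⟩
  · push Not at hall
    suffices h : ∀ n ∈ N, bl v w n = 0 by
      intro n hn
      exact ⟨0, 0, by rw [h n hn, zero_smul], by rw [zero_side v w (Or.inl ⟨rfl, rfl⟩) h n hn, zero_smul]⟩
    by_contra hcon
    push Not at hcon
    obtain ⟨n, hn, hne⟩ := hcon
    refine hne (zero_side w v (Or.inr ⟨rfl, rfl⟩) (fun m hm => range_eq_zero fun b => ?_) n hn)
    -- the common image is invariant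
    let U : Submodule F VB :=
      { carrier := {z | ∀ k ∈ N, bl v w k *ᵥ z = 0}
        add_mem' := fun ha hb k hk => by rw [Matrix.mulVec_add, ha k hk, hb k hk, add_zero]
        zero_mem' := fun k _ => Matrix.mulVec_zero _
        smul_mem' := fun c a ha k hk => by rw [Matrix.mulVec_smul, ha k hk, smul_zero] }
    by_contra h0
    have htop : U = ⊤ := irreducible S
      (U.ne_bot_iff.mpr ⟨bl w v m *ᵥ b, fun k hk => by rw [Matrix.mulVec_mulVec, hall k hk m hm, Matrix.zero_mulVec],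
        h0⟩) fun t ht z hz k hk => by
      have hk' := hL t⁻¹ (inv_mem ht) k hk
      have e := hz _ hk'
      rw [conj t⁻¹ (inv_mem ht) k hk v w hwu, inv_inv, ← Matrix.mulVec_mulVec, ← Matrix.mulVec_mulVec] at e
      have := congrArg (fun z => (t : MB) *ᵥ z) e
      rwa [gl_mulVec_inv_cancel, Matrix.mulVec_zero] at this
    exact hne (range_eq_zero fun z => (show z ∈ U from htop ▸ Submodule.mem_top) n hn)

end Cfsg.Agent.Classical.TThreeFour
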