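import Cfsg.Agent.Lib.Classical.TensorThreeFour.Centr
import Cfsg.Agent.Lib.Classical.TensorNine.Dihedral

/-!
# The group lies in the tensor stabiliser or is full
-/

set_option autoImplicit false
set_option linter.unusedSectionVars false

namespace Cfsg.Agent.Classical.TThreeFour

open Matrix Module Cfsg.Geo
open Cfsg.Agent.Classical Cfsg.Agent.Classical.TensorMax Cfsg.Agent.Classical.TensorMax.Form
open Cfsg.Agent.Classical.TensorMax.OO
open scoped Kronecker

variable {F : Type*} [Field F] [Fintype F] {fb : (Fin 4 → F) → (Fin 4 → F) → F}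
variable {X : Subgroup (GL (Fin 3 × Fin 4) F)}

local notation "VA" => Fin 3 → F
local notation "VB" => Fin 4 → F
local notation "M3" => Matrix (Fin 3) (Fin 3) F
local notation "MB" => Matrix (Fin 4) (Fin 4) F
local notation "κ" => Fin 3 × Fin 4
local notation "Mκ" => Matrix (Fin 3 × Fin 4) (Fin 3 × Fin 4) F
local notation "GB" => GL (Fin 4) F
local notation:max g:max " ⬝ₘ " x:max =>
  ((g : GL (Fin 3 × Fin 4) F) : Matrix (Fin 3 × Fin 4) (Fin 3 × Fin 4) F) *ᵥ x

/-- The sign of a boolean. -/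
def sgn (F : Type*) [Field F] (b : Bool) : F := if b then 1 else -1

/-- A map with the two eigenspaces. -/
theorem eigen_basis {n : Type} [Fintype n] [DecidableEq n] (h2 : (2 : F) ≠ 0) (L : (n → F) →ₗ[F] (n → F))
    (hL : ∀ x, L (L x) = x) : ∃ (c : Basis n F (n → F)) (ε : n → Bool), ∀ i, L (c i) = sgn F (ε i) • c i := by
  classical
  obtain ⟨E₁, hE₁⟩ : ∃ E : Submodule F (n → F), ∀ x, x ∈ E ↔ L x = x :=
    ⟨LinearMap.ker (L - LinearMap.id), fun x => by simp [sub_eq_zero]⟩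
  obtain ⟨E₂, hE₂⟩ : ∃ E : Submodule F (n → F), ∀ x, x ∈ E ↔ L x = -x :=
    ⟨LinearMap.ker (L + LinearMap.id), fun x => by simp [add_eq_zero_iff_eq_neg]⟩
  have hc : IsCompl E₁ E₂ := by
    refine ⟨Submodule.disjoint_def.mpr fun x h1 h1' => ?_, codisjoint_iff.mpr (eq_top_iff.mpr fun x _ => ?_)⟩
    · rw [hE₁] at h1
      rw [hE₂, h1] at h1'
      refine (smul_eq_zero.mp (?_ : (2 : F) • x = 0)).resolve_left h2
      rw [two_smul]
      nth_rewrite 1 [h1']
      rw [neg_add_cancel]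
    · refine Submodule.mem_sup.mpr ⟨(2 : F)⁻¹ • (x + L x), ?_, (2 : F)⁻¹ • (x - L x), ?_, ?_⟩
      · rw [hE₁, map_smul, map_add, hL, add_comm]
      · rw [hE₂, map_smul, map_sub, hL, ← smul_neg, neg_sub]
      · match_scalars <;> field_simp <;> ring
  obtain ⟨b, hb⟩ : ∃ b : Basis (Fin (finrank F E₁) ⊕ Fin (finrank F E₂)) F (n → F),
      ∀ k, L (b k) = sgn F (k.elim (fun _ => true) (fun _ => false)) • b k := by
    refine ⟨((Module.finBasis F E₁).prod (Module.finBasis F E₂)).map (Submodule.prodEquivOfIsCompl _ _ hc),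
      fun k => ?_⟩
    rcases k with j | j <;> rw [Basis.map_apply, Submodule.coe_prodEquivOfIsCompl']
    · simp only [Basis.prod_apply_inl_fst, Basis.prod_apply_inl_snd, ZeroMemClass.coe_zero, add_zero, sgn,
        Sum.elim_inl, if_true, one_smul]
      exact (hE₁ _).mp (Module.finBasis F E₁ j).2
    · simp only [Basis.prod_apply_inr_fst, Basis.prod_apply_inr_snd, ZeroMemClass.coe_zero, zero_add, sgn,
        Sum.elim_inr, Bool.false_eq_true, if_false, neg_smul, one_smul]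
      exact (hE₂ _).mp (Module.finBasis F E₂ j).2
  obtain ⟨e⟩ : Nonempty (n ≃ Fin (finrank F E₁) ⊕ Fin (finrank F E₂)) := by
    refine ⟨Fintype.equivOfCardEq ?_⟩
    rw [← Module.finrank_fintype_fun_eq_card (R := F) (η := n), finrank_eq_card_basis b]
  refine ⟨b.reindex e.symm, fun i => (e i).elim (fun _ => true) (fun _ => false), fun i => ?_⟩
  rw [Basis.reindex_apply, Equiv.symm_symm]
  exact hb (e i)

/-- An involution is diagonalisable. -/
theorem exists_diag {n : Type} [Fintype n] [DecidableEq n] (h2 : (2 : F) ≠ 0) {M : Matrix n n F} (hM : M * M = 1) :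
    ∃ (Q : GL n F) (ε : n → Bool), M * (Q : Matrix n n F) = (Q : Matrix n n F) * Matrix.diagonal fun i => sgn F (ε i) := by
  classical
  obtain ⟨c, ε, hc⟩ := eigen_basis h2 M.mulVecLin fun x => by
    rw [Matrix.mulVecLin_apply, Matrix.mulVecLin_apply, Matrix.mulVec_mulVec, hM, Matrix.one_mulVec]
  obtain ⟨Q, hQ⟩ := (Matrix.linearIndependent_cols_iff_isUnit (A := Matrix.of fun i j => c j i)).mp
    (c.linearIndependent : LinearIndependent F (fun j => c j))
  refine ⟨Q, ε, ?_⟩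
  ext i j
  rw [Matrix.mul_diagonal, hQ, Matrix.mul_apply]
  have := congrFun (hc j) i
  simp only [Matrix.mulVecLin_apply, Matrix.mulVec, dotProduct, Pi.smul_apply, smul_eq_mul] at this
  simp only [Matrix.of_apply]
  rw [mul_comm (c j i)]
  exact this

/-- The eigenbasis of the involution of a line. -/
theorem exists_diag_zz {u v w : VA} (P : Frame u v w) :
    ∃ Q : GL (Fin 3) F, (zz u : M3) * (Q : M3) = (Q : M3) * Matrix.diagonal fun i => sgn F (decide (i = 0)) := by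
  let R : M3 := Matrix.of ![(u ⬝ᵥ u)⁻¹ • u, (v ⬝ᵥ v)⁻¹ • v, (w ⬝ᵥ w)⁻¹ • w]
  let Q : M3 := (Matrix.of ![u, v, w])ᵀ
  have h : R * Q = 1 := by
    ext i j
    rw [show (R * Q) i j = (![(u ⬝ᵥ u)⁻¹ • u, (v ⬝ᵥ v)⁻¹ • v, (w ⬝ᵥ w)⁻¹ • w] : Fin 3 → VA) i ⬝ᵥ ![u, v, w] j from rfl]
    fin_cases i <;> fin_cases j <;>
      simp [smul_dotProduct, P.uu, P.vv, P.ww, P.uv, P.uw, P.vw, dotProduct_comm v u, dotProduct_comm w u,
        dotProduct_comm w v]
  refine ⟨⟨Q, R, mul_eq_one_comm.mp h, h⟩, ?_⟩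
  ext i j
  rw [Matrix.mul_diagonal, show ((zz u : M3) * Q) i j = ((zz u : M3) *ᵥ ![u, v, w] j) i from rfl]
  fin_cases j <;> simp [Q, sgn, zz_self P.uu, zz_perp P.uv, zz_perp P.uw]

theorem rank_one_add {n : Type} [Fintype n] [DecidableEq n] (h2 : (2 : F) ≠ 0) {M : Matrix n n F} {Q : GL n F}
    {ε : n → Bool} (h : M * (Q : Matrix n n F) = (Q : Matrix n n F) * Matrix.diagonal fun i => sgn F (ε i)) :
    (1 + M).rank = Fintype.card {i // ε i = true} := by
  classical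
  have hdet : IsUnit (Q : Matrix n n F).det := (Matrix.isUnit_iff_isUnit_det _).mp (Units.isUnit Q)
  rw [← Matrix.rank_mul_eq_left_of_isUnit_det (Q : Matrix n n F) (1 + M) hdet, add_mul, h, one_mul,
    show (Q : Matrix n n F) + (Q : Matrix n n F) * Matrix.diagonal (fun i => sgn F (ε i)) =
      (Q : Matrix n n F) * Matrix.diagonal fun i => 1 + sgn F (ε i) by
      rw [← Matrix.diagonal_add, mul_add, Matrix.diagonal_one, mul_one],
    Matrix.rank_mul_eq_right_of_isUnit_det (Q : Matrix n n F) _ hdet, Matrix.rank_diagonal]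
  refine Fintype.card_congr (Equiv.subtypeEquivRight fun i => ?_)
  cases ε i <;> simp [sgn, one_add_one_eq_two, h2]

theorem count_cases : ∀ (ε : Fin 3 → Bool) (δ : Fin 4 → Bool),
    Fintype.card {p : Fin 3 × Fin 4 // (ε p.1 == δ p.2) = true} = 4 →
      (∀ k, δ k = δ 0) ∧ ∃ i, ∀ j, ε j = δ 0 ↔ j = i := by
  decide

theorem kr_diag {s : M3} {t : MB} {Q : GL (Fin 3) F} {R : GB} {ε : Fin 3 → Bool} {δ : Fin 4 → Bool}
    (hs : s * (Q : M3) = (Q : M3) * Matrix.diagonal fun i => sgn F (ε i))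
    (ht : t * (R : MB) = (R : MB) * Matrix.diagonal fun i => sgn F (δ i)) :
    (s ⊗ₖ t) * (kr Q R : Mκ) = (kr Q R : Mκ) * Matrix.diagonal fun p => sgn F (ε p.1 == δ p.2) := by
  rw [kr_val, ← Matrix.mul_kronecker_mul, hs, ht, Matrix.mul_kronecker_mul, Matrix.diagonal_kronecker_diagonal]
  congr 2
  funext p
  cases ε p.1 <;> cases δ p.2 <;> simp [sgn]

theorem kr_left_inj {s s' : GL (Fin 3) F} (h : kr s (1 : GB) = kr s' 1) : s = s' := by
  refine Units.ext (Matrix.ext_iff_mulVec.mpr fun a => ?_)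
  have e := congrArg (fun g : GL κ F => g ⬝ₘ (tm a (Pi.single 0 1 : VB))) h
  simp only [kr_tm, Units.val_one, Matrix.one_mulVec] at e
  have h0 : tm ((s : M3) *ᵥ a - (s' : M3) *ᵥ a) (Pi.single 0 1 : VB) = 0 := by rw [tm_sub_left, e, sub_self]
  exact sub_eq_zero.mp ((tm_eq_zero h0).resolve_right (by simp))

theorem fx_smul {c : F} (hc : c ≠ 0) (u : VA) : Fx X (c • u) = Fx X u := by
  ext g
  have ha : az (c • u) = (az u : GL κ F) := by rw [az, az, zz_smul hc]
  refine ⟨fun h => ⟨h.1, ha ▸ h.2.1, fun b => ?_⟩, fun h => ⟨h.1, ha ▸ h.2.1, fun b => ?_⟩⟩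
  · have := h.2.2 (c⁻¹ • b)
    rwa [tm_smul_left, tm_smul_right, smul_smul, mul_inv_cancel₀ hc, one_smul] at this
  · rw [tm_smul_left, Matrix.mulVec_smul, h.2.2]

theorem exists_value_line (h2 : (2 : F) ≠ 0) (c : F) :
    ∃ x : VA, x ⬝ᵥ x = c ∧ x ⬝ᵥ es 2 = 0 := by
  obtain ⟨a, b, hab⟩ := exists_norm h2 (a := (1 : F)) (b := 1) one_ne_zero one_ne_zero c
  refine ⟨a • es 0 + b • es 1, ?_, ?_⟩ <;>
    simp [add_dotProduct, dotProduct_add, smul_dotProduct, dotProduct_smul, es_dot, ← hab]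
  ring

variable (C : Ctx fb X) (hF : ¬ Full fb X)

include C hF

/-- The pointwise stabilisers are pure. -/
theorem all_triv {u : VA} (hu : u ⬝ᵥ u ≠ 0) : Triv X u := by
  classical
  have S := C.S
  have h0 : Triv X (es 0 : VA) := triv_of C es_frame fun g hg h h' => cent_frame C hF hg h h'
  have same : ∀ {a b : VA}, Triv X a → a ⬝ᵥ a ≠ 0 → b ⬝ᵥ b = a ⬝ᵥ a → Triv X b := fun hT ha hab => by
    obtain ⟨s, hs, e⟩ := exists_rot S.h2 hab ha
    exact e ▸ triv_conj C hs hT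
  have h2' : Triv X (es 2 : VA) := same h0 (es_self 0) (by simp [es_dot])
  obtain ⟨ν, hν⟩ := FiniteField.exists_nonsquare (F := F) fun h => S.h2 (by
    haveI := ringChar.of_eq h; exact_mod_cast CharP.cast_eq_zero F 2)
  obtain ⟨x, hxx, hx2⟩ := exists_value_line S.h2 ν
  have hν0 : ν ≠ 0 := fun h => hν (h ▸ IsSquare.zero)
  have hx : Triv X x := triv_of C (frame_of_perp (hxx ▸ hν0) (es_self 2) hx2) fun g hg _ h => by
    obtain ⟨s, t, e, -⟩ := move_kr C hg (es_self 2) (es_self 2) h2' h.eq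
    exact ⟨s, t, e⟩
  obtain ⟨r, hr, hr'⟩ := exists_class hν hu
  have hT : Triv X (r • u) := by
    have hru : (r • u) ⬝ᵥ (r • u) = r * r * (u ⬝ᵥ u) := by
      rw [smul_dotProduct, dotProduct_smul, smul_eq_mul, smul_eq_mul, mul_assoc]
    rcases hr' with h | h
    · exact same h0 (es_self 0) (by rw [hru, h, es_dot, if_pos rfl])
    · exact same hx (hxx ▸ hν0) (by rw [hru, h, hxx])
  intro g hg
  exact hT g (by rwa [fx_smul hr])

/-- The centraliser of an involution of a line. -/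
theorem cent_kr {g : GL κ F} (hg : g ∈ X) {u : VA} (hu : u ⬝ᵥ u ≠ 0) (h : Commute g (az u)) :
    g ∈ Kr (Fin 3) (Fin 4) F := by
  obtain ⟨s, t, e, -⟩ := move_kr C hg hu hu (all_triv C hF hu) h.eq
  exact ⟨s, t, e⟩

/-- A pure involution conjugate to the involution of a line is one. -/
theorem invol_kr {g : GL κ F} (hg : g ∈ X) {u : VA} (hu : u ⬝ᵥ u ≠ 0)
    (hi : g * az u * g⁻¹ ∈ Kr (Fin 3) (Fin 4) F) : ∃ v : VA, v ⬝ᵥ v ≠ 0 ∧ g * az u * g⁻¹ = az v := by
  classical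
  have S := C.S
  obtain ⟨i, hidef⟩ : ∃ i, i = g * az u * g⁻¹ := ⟨_, rfl⟩
  rw [← hidef] at hi ⊢
  have hiX : i ∈ X := hidef ▸ mul_mem (mul_mem hg (C.az_mem hu)) (inv_mem hg)
  have hii : i * i = 1 := by
    rw [hidef, show g * az u * g⁻¹ * (g * az u * g⁻¹) = g * (az u * az u) * g⁻¹ by group, az_sq, mul_one,
      mul_inv_cancel]
  obtain ⟨s₀, t₀, hst⟩ := hi
  obtain ⟨μ, hμ, hsim⟩ := kr_class C (hst ▸ hiX)
  -- normalise
  obtain ⟨s, hs⟩ : ∃ s : GL (Fin 3) F, (s : M3) = μ⁻¹ • (s₀ : M3) :=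
    ⟨⟨μ⁻¹ • (s₀ : M3), μ • ((s₀⁻¹ : GL (Fin 3) F) : M3),
      by rw [Matrix.smul_mul, Matrix.mul_smul, smul_smul, inv_mul_cancel₀ hμ, one_smul, Units.mul_inv],
      by rw [Matrix.smul_mul, Matrix.mul_smul, smul_smul, mul_inv_cancel₀ hμ, one_smul, Units.inv_mul]⟩, rfl⟩
  obtain ⟨t, ht⟩ : ∃ t : GB, (t : MB) = μ • (t₀ : MB) :=
    ⟨⟨μ • (t₀ : MB), μ⁻¹ • ((t₀⁻¹ : GB) : MB),
      by rw [Matrix.smul_mul, Matrix.mul_smul, smul_smul, mul_inv_cancel₀ hμ, one_smul, Units.mul_inv],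
      by rw [Matrix.smul_mul, Matrix.mul_smul, smul_smul, inv_mul_cancel₀ hμ, one_smul, Units.inv_mul]⟩, rfl⟩
  have hi' : i = kr s t := Units.ext (by
    rw [hst, kr_val, kr_val, hs, ht, Matrix.smul_kronecker, Matrix.kronecker_smul, smul_smul, inv_mul_cancel₀ hμ,
      one_smul])
  have ho : Orth s := fun x y => by
    rw [hs, Matrix.smul_mulVec, Matrix.smul_mulVec, smul_dotProduct, dotProduct_smul, hsim, smul_eq_mul, smul_eq_mul]
    field_simp
  have happ : ∀ (a : VA) (b : VB), tm ((s : M3) *ᵥ ((s : M3) *ᵥ a)) ((t : MB) *ᵥ ((t : MB) *ᵥ b)) = tm a b :=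
    fun a b => by
      rw [← kr_tm, ← kr_tm, ← gl_mul_mulVec, ← hi', hii, Units.val_one, Matrix.one_mulVec]
  have he0 : (Pi.single 0 1 : VA) ≠ 0 := by simp
  have hb0 : (Pi.single 0 1 : VB) ≠ 0 := by simp
  obtain ⟨k, hk0, hk⟩ : ∃ k : F, k ≠ 0 ∧ ∀ a : VA, (s : M3) *ᵥ ((s : M3) *ᵥ a) = k • a := by
    have hne : (t : MB) *ᵥ ((t : MB) *ᵥ (Pi.single 0 1 : VB)) ≠ 0 := fun h => by
      have := happ (Pi.single 0 1) (Pi.single 0 1)
      rw [h, tm_zero_right] at this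
      exact tm_ne_zero he0 hb0 this.symm
    obtain ⟨c, hc, -, hc'⟩ := tm_inj (happ (Pi.single 0 1) (Pi.single 0 1)).symm he0 hb0
    refine ⟨c⁻¹, inv_ne_zero hc, fun a => ?_⟩
    have e := happ a (Pi.single 0 1)
    rw [hc', tm_smul_right, ← tm_smul_left] at e
    have e' : tm (c • (s : M3) *ᵥ ((s : M3) *ᵥ a) - a) (Pi.single 0 1 : VB) = 0 := by
      rw [tm_sub_left, e, sub_self]
    rw [eq_inv_smul_iff₀ hc]
    exact sub_eq_zero.mp ((tm_eq_zero e').resolve_right hb0)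
  have hss : (s : M3) * (s : M3) = 1 := by
    have hkk : (s : M3) * (s : M3) = k • 1 := Matrix.ext_iff_mulVec.mpr fun a => by
      rw [← Matrix.mulVec_mulVec, hk, Matrix.smul_mulVec, Matrix.one_mulVec]
    have hsym : ∀ a b : VA, ((s : M3) *ᵥ a) ⬝ᵥ b = k⁻¹ * (a ⬝ᵥ ((s : M3) *ᵥ b)) := fun a b => by
      rw [← ho a ((s : M3) *ᵥ b), hk, dotProduct_smul, smul_eq_mul, inv_mul_cancel_left₀ hk0]
    have hk2 : k * k = 1 := by
      have h := ho (Pi.single 0 1) (Pi.single 0 1)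
      rw [hsym, hk, dotProduct_smul, smul_eq_mul, inv_mul_cancel_left₀ hk0] at h
      have h' := ho ((s : M3) *ᵥ Pi.single 0 1) ((s : M3) *ᵥ Pi.single 0 1)
      rw [hk, smul_dotProduct, dotProduct_smul, ho, smul_eq_mul, smul_eq_mul, ← mul_assoc] at h'
      exact mul_right_cancel₀ (by simp) (h'.trans (one_mul _).symm)
    have hd := congrArg Matrix.det hkk
    rw [Matrix.det_mul, Matrix.det_smul, Matrix.det_one, mul_one, Fintype.card_fin] at hd
    have hd1 : (s : M3).det * (s : M3).det = 1 := by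
      have hg : (s : M3)ᵀ * (s : M3) = 1 := by
        ext a b
        have h1 := ho (Pi.single a 1) (Pi.single b 1)
        rw [Matrix.mulVec_single_one, Matrix.mulVec_single_one, single_dotProduct, one_mul, Pi.single_apply] at h1
        rw [Matrix.mul_apply, Matrix.one_apply, ← h1, dotProduct]
        rfl
      have := congrArg Matrix.det hg
      rwa [Matrix.det_mul, Matrix.det_transpose, Matrix.det_one] at this
    rw [hd1] at hd
    rw [hkk, show k = 1 by linear_combination (-k) * hk2 - hd, one_smul]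
  have htt : (t : MB) * (t : MB) = 1 := Matrix.ext_iff_mulVec.mpr fun b => by
    have e := happ (Pi.single 0 1) b
    rw [Matrix.mulVec_mulVec, hss, Matrix.one_mulVec] at e
    rw [← Matrix.mulVec_mulVec, Matrix.one_mulVec]
    exact tm_right_inj he0 e
  obtain ⟨Q, ε, hQ⟩ := exists_diag S.h2 hss
  obtain ⟨R, δ, hR⟩ := exists_diag S.h2 htt
  obtain ⟨v₁, v₂, P⟩ := exists_frame S.h2 hu
  obtain ⟨Q', hQ'⟩ := exists_diag_zz P
  -- compare the fixed spaces
  have r1 : (1 + (i : Mκ)).rank = Fintype.card {p : κ // (ε p.1 == δ p.2) = true} := by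
    rw [hi', kr_val]
    exact rank_one_add S.h2 (kr_diag hQ hR)
  have r2 : (1 + (az u : Mκ)).rank = 4 := by
    rw [az, kr_val, Units.val_one]
    refine (rank_one_add S.h2 (kr_diag (R := 1) (δ := fun _ => true) hQ' ?_)).trans ?_
    · rw [Units.val_one, one_mul, one_mul, eq_comm]
      simp [sgn]
    · decide
  have r3 : (1 + (i : Mκ)).rank = (1 + (az u : Mκ)).rank := by
    have hdet : IsUnit (g : Mκ).det := (Matrix.isUnit_iff_isUnit_det _).mp (Units.isUnit g)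
    rw [← Matrix.rank_mul_eq_left_of_isUnit_det (g : Mκ) (1 + (i : Mκ)) hdet,
      ← Matrix.rank_mul_eq_right_of_isUnit_det (g : Mκ) (1 + (az u : Mκ)) hdet, add_mul, mul_add, one_mul, mul_one]
    congr 2
    rw [← Units.val_mul, ← Units.val_mul, hidef, inv_mul_cancel_right]
  obtain ⟨hδ, i₀, hi₀⟩ := count_cases ε δ (by rw [← r1, r3, r2])
  -- the second factor is a sign
  obtain ⟨σ, hσ⟩ : ∃ σ : F, σ = sgn F (δ 0) := ⟨_, rfl⟩
  have hσσ : σ * σ = 1 := by rw [hσ]; cases δ 0 <;> simp [sgn]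
  have htσ : (t : MB) = σ • 1 := by
    have e : (t : MB) * (R : MB) = σ • (R : MB) := by
      rw [hR, show (fun k => sgn F (δ k)) = fun _ => σ from funext fun k => by rw [hδ k, hσ],
        ← Matrix.smul_one_eq_diagonal, Matrix.mul_smul, mul_one]
    calc (t : MB) = (t : MB) * ((R : MB) * ((R⁻¹ : GB) : MB)) := by rw [Units.mul_inv, mul_one]
      _ = _ := by rw [← mul_assoc, e, Matrix.smul_mul, Units.mul_inv]
  let s' : GL (Fin 3) F := ⟨σ • (s : M3), σ • (s : M3),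
    by rw [Matrix.smul_mul, Matrix.mul_smul, smul_smul, hσσ, one_smul, hss],
    by rw [Matrix.smul_mul, Matrix.mul_smul, smul_smul, hσσ, one_smul, hss]⟩
  have hi'' : i = kr s' 1 := Units.ext (by
    rw [hi', kr_val, kr_val, htσ, Matrix.kronecker_smul, Units.val_one]
    show σ • ((s : M3) ⊗ₖ (1 : MB)) = (σ • (s : M3)) ⊗ₖ (1 : MB)
    rw [Matrix.smul_kronecker])
  have hs' : Orth s' := orth_rot (kr_rot C (hi'' ▸ hiX))
  have hcol : ∀ j, (s' : M3) *ᵥ (fun a => (Q : M3) a j) = (sgn F (decide (j = i₀))) • fun a => (Q : M3) a j := by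
    intro j
    show (σ • (s : M3)) *ᵥ _ = _
    funext a
    rw [Matrix.smul_mulVec, Pi.smul_apply, Pi.smul_apply,
      show ((s : M3) *ᵥ fun a => (Q : M3) a j) a = ((s : M3) * (Q : M3)) a j from rfl, hQ, Matrix.mul_diagonal, hσ]
    have := hi₀ j
    by_cases h : j = i₀
    · rw [this.mpr h, decide_eq_true h]; cases δ 0 <;> simp [sgn]
    · have h' : ε j = !δ 0 := by
        cases hε : ε j <;> cases hδ0 : δ 0 <;> simp_all
      rw [h', decide_eq_false h]; cases δ 0 <;> simp [sgn]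
  obtain ⟨v, hvdef⟩ : ∃ v : VA, v = fun a => (Q : M3) a i₀ := ⟨_, rfl⟩
  have hsv : (s' : M3) *ᵥ v = v := by rw [hvdef, hcol, decide_eq_true rfl]; simp [sgn]
  have hperp : ∀ j, j ≠ i₀ → v ⬝ᵥ (fun a => (Q : M3) a j) = 0 := fun j hj => by
    have e := hs' v (fun a => (Q : M3) a j)
    rw [hsv, hcol, decide_eq_false hj, dotProduct_smul] at e
    simp only [sgn, Bool.false_eq_true, if_false, neg_smul, one_smul] at e
    exact (mul_eq_zero.mp (show (2 : F) * (v ⬝ᵥ fun a => (Q : M3) a j) = 0 by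
      rw [two_mul]; nth_rewrite 1 [← e]; exact neg_add_cancel _)).resolve_left S.h2
  have hvv : v ⬝ᵥ v ≠ 0 := fun h => by
    have hz : v ᵥ* (Q : M3) = 0 := funext fun j => by
      by_cases hj : j = i₀
      · subst hj
        show v ⬝ᵥ (fun a => (Q : M3) a j) = 0
        rw [← hvdef]; exact h
      · exact hperp j hj
    have hv0 : v = 0 := by
      have := congrArg (fun z => z ᵥ* ((Q⁻¹ : GL (Fin 3) F) : M3)) hz
      simpa [Matrix.vecMul_vecMul] using this
    have h1 := congrFun (congrFun (Units.inv_mul Q) i₀) i₀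
    rw [Matrix.mul_apply, Matrix.one_apply_eq] at h1
    rw [hvdef] at hv0
    rw [Finset.sum_eq_zero fun k _ => by rw [show (Q : M3) k i₀ = 0 from congrFun hv0 k, mul_zero]] at h1
    exact zero_ne_one h1
  refine ⟨v, hvv, ?_⟩
  have hzs : (s' : M3) * (Q : M3) = (zz v : M3) * (Q : M3) := by
    ext a j
    show ((s' : M3) *ᵥ fun a => (Q : M3) a j) a = ((zz v : M3) *ᵥ fun a => (Q : M3) a j) a
    by_cases hj : j = i₀
    · subst hj; rw [← hvdef, hsv, zz_self hvv]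
    · rw [hcol, decide_eq_false hj, zz_perp (hperp j hj)]
      simp [sgn]
  have : s' = zz v := Units.ext (Units.mul_left_inj Q |>.mp hzs)
  rw [hi'', this]
  rfl

/-- The group lies in the tensor stabiliser. -/
theorem le_kr : X ≤ Kr (Fin 3) (Fin 4) F := by
  classical
  have S := C.S
  intro g hg
  by_contra hgK
  obtain ⟨ν, hν⟩ := FiniteField.exists_nonsquare (F := F) fun h => S.h2 (by
    haveI := ringChar.of_eq h; exact_mod_cast CharP.cast_eq_zero F 2)
  obtain ⟨w, hww, -⟩ := exists_value_line S.h2 ν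
  have hw : w ⬝ᵥ w ≠ 0 := fun h => hν (hww ▸ h ▸ IsSquare.zero)
  obtain ⟨x, hx⟩ : ∃ x, x = g * az (es 0) * g⁻¹ := ⟨_, rfl⟩
  have hxX : x ∈ X := hx ▸ mul_mem (mul_mem hg (C.az_mem (es_self 0))) (inv_mem hg)
  have hxK : x ∉ Kr (Fin 3) (Fin 4) F := fun h => by
    obtain ⟨v, hv, e⟩ := invol_kr C hF hg (es_self 0) (hx ▸ h)
    obtain ⟨s, t, e', -⟩ := move_kr C hg (es_self 0) hv (all_triv C hF hv) (mul_inv_eq_iff_eq_mul.mp e)
    exact hgK ⟨s, t, e'⟩
  have hxx : x * x = 1 := by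
    rw [hx, show g * az (es 0) * g⁻¹ * (g * az (es 0) * g⁻¹) = g * (az (es 0) * az (es 0)) * g⁻¹ by group, az_sq,
      mul_one, mul_inv_cancel]
  have hcl : ∀ d ∈ Subgroup.closure ({az w, x} : Set (GL κ F)), d ∈ X := fun d hd =>
    (Subgroup.closure_le X).mpr (Set.insert_subset (C.az_mem hw) (Set.singleton_subset_iff.mpr hxX)) hd
  have hne : ∀ d ∈ Subgroup.closure ({az w, x} : Set (GL κ F)), d * az w * d⁻¹ ≠ x := fun d hd e => by
    have hm : g⁻¹ * d ∈ X := mul_mem (inv_mem hg) (hcl d hd)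
    have h' : g⁻¹ * d * az w = az (es 0) * (g⁻¹ * d) := by
      rw [mul_inv_eq_iff_eq_mul] at e
      rw [mul_assoc, e, hx]
      group
    obtain ⟨s, t, est, c, hc⟩ := move_kr C hm hw (es_self 0) (all_triv C hF (es_self 0)) h'
    obtain ⟨μ, hμ, hsim⟩ := kr_class C (est ▸ hm)
    have e2 := hsim w w
    rw [hc, smul_dotProduct, dotProduct_smul, es_dot, if_pos rfl, hww, smul_eq_mul, smul_eq_mul, mul_one] at e2
    exact hν ⟨c / μ, by field_simp; linear_combination -e2⟩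
  obtain ⟨j, hjmem, hjj, hj1, hjw, hjx, hcase⟩ := TensorNine.dihedral_pair (az_sq w) hxx hne
  obtain ⟨h, z, hh, hz, hi⟩ : ∃ h z, h ∈ X ∧ z ⬝ᵥ z ≠ (0 : F) ∧ az w * j = h * az z * h⁻¹ := by
    rcases hcase with ⟨⟨d, hd, e⟩, -⟩ | ⟨d, hd, e⟩
    · exact ⟨d, w, hcl d hd, hw, e.symm⟩
    · refine ⟨d⁻¹ * g, es 0, mul_mem (inv_mem (hcl d hd)) hg, es_self 0, ?_⟩
      rw [show d⁻¹ * g * az (es 0) * (d⁻¹ * g)⁻¹ = d⁻¹ * (g * az (es 0) * g⁻¹) * d by group, ← hx, ← e]
      group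
  have hiK : az w * j ∈ Kr (Fin 3) (Fin 4) F :=
    cent_kr C hF (mul_mem (C.az_mem hw) (hcl j hjmem)) hw ((Commute.refl (az w)).mul_left hjw)
  obtain ⟨v, hv, ev⟩ := invol_kr C hF hh hz (hi ▸ hiK)
  rw [← hi] at ev
  have hj : j = az w * az v := by rw [← ev, ← mul_assoc, az_sq, one_mul]
  have hcomm : zz w * zz v = zz v * zz w := by
    refine kr_left_inj ?_
    have e : az w * az v = az v * az w := by rw [← ev, mul_assoc (az w) j, hjw.eq, ← mul_assoc]
    simpa [az, kr_mul] using e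
  rcases zz_commute hw hv S.h2 hcomm with h1 | h1
  · exact hj1 (by rw [hj, az, az, ← h1, kr_mul, zz_sq, one_mul, kr_one])
  have P := frame_of_perp hw hv h1
  refine hxK (cent_kr C hF hxX P.ww ?_)
  have e : az (crossProduct w v) = j := by rw [hj, az, az, az, kr_mul, one_mul, P.zz_mul]
  rw [e]
  exact hjx.symm

end Cfsg.Agent.Classical.TThreeFour
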