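import Cfsg.Agent.Lib.Classical.TensorMax.OO.Space

/-!
# The group of Siegel elements of a four-space without singular planes

It is perfect, absolutely irreducible and simple modulo scalars; a matrix commuting with its conjugates is scalar.
-/

set_option autoImplicit false
set_option linter.unusedSectionVars false

namespace Cfsg.Agent.Classical.TThreeFour

open Matrix Module Cfsg.Geo
open Cfsg.Agent.Classical Cfsg.Agent.Classical.TensorMax.OO

variable {F : Type*} [Field F] [Fintype F] {f : (Fin 4 → F) → (Fin 4 → F) → F}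

local notation "VB" => Fin 4 → F
local notation "MB" => Matrix (Fin 4) (Fin 4) F
local notation:max g:max " •ᵥ " x:max => ((g : GL (Fin 4) F) : Matrix (Fin 4) (Fin 4) F) *ᵥ x

/-- The hypotheses on the four-space. -/
structure Minus (f : (Fin 4 → F) → (Fin 4 → F) → F) : Prop where
  H : IsReflexForm (RingEquiv.refl F) 1 f
  h2 : (2 : F) ≠ 0
  q5 : 5 ≤ Fintype.card F
  noPl : ∀ u v, ¬ Pl f u v

/-- A hyperbolic pair. -/
structure Pair (f : (Fin 4 → F) → (Fin 4 → F) → F) (o o' : Fin 4 → F) : Prop where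
  oo : f o o = 0
  o'o' : f o' o' = 0
  o'o : f o' o = 1

variable (S : Minus f)

include S

theorem Minus.symm (u v : VB) : f v u = f u v := symm' S.H u v

theorem Pair.swap {o o' : VB} (P : Pair f o o') : Pair f o' o := ⟨P.o'o', P.oo, by rw [S.symm]; exact P.o'o⟩

theorem Pair.ne {o o' : VB} (P : Pair f o o') : o ≠ 0 := fun h => by
  have := P.o'o
  rw [h, rzero S.H] at this
  exact one_ne_zero this.symm

/-- Singular orthogonal vectors are dependent. -/
theorem dependent {u v : VB} (hu : f u u = 0) (hv : f v v = 0) (huv : f u v = 0) (hu0 : u ≠ 0) :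
    ∃ c : F, v = c • u := by
  by_contra hcon
  push Not at hcon
  refine S.noPl u v ⟨hu, huv, hv, fun r s h => ?_⟩
  have hs : s = 0 := by
    by_contra hs
    refine hcon (-(s⁻¹ * r)) ?_
    have h1 : s • v = -(r • u) := eq_neg_of_add_eq_zero_right h
    rw [neg_smul, ← smul_smul, ← smul_neg, ← h1, smul_smul, inv_mul_cancel₀ hs, one_smul]
  subst hs
  rw [zero_smul, add_zero] at h
  exact ⟨(smul_eq_zero.mp h).resolve_right hu0, rfl⟩

theorem exists_pair_of {o : VB} (ho : o ≠ 0) (hoo : f o o = 0) : ∃ o', Pair f o o' := by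
  obtain ⟨x, hx⟩ := exists_nonorth S.H ho
  refine ⟨(f x o)⁻¹ • x - (2⁻¹ * ((f x o)⁻¹ * (f x o)⁻¹ * f x x)) • o, hoo, ?_, ?_⟩
  · simp only [lsub S.H, rsub S.H, lsmul S.H, rsmul S.H, hoo, S.symm x o]
    have := S.h2
    field_simp
    ring
  · rw [lsub S.H, lsmul S.H, lsmul S.H, hoo, inv_mul_cancel₀ hx, mul_zero, sub_zero]

theorem exists_pair : ∃ o o', Pair f o o' := by
  obtain ⟨o, -, ho, hoo⟩ := TensorMax.OO.exists_sing S.H S.h2 (W := (⊤ : Submodule F VB))
    (by rw [finrank_top, Module.finrank_fin_fun]; norm_num)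
  exact ⟨o, exists_pair_of S ho hoo⟩

/-- The plane orthogonal to a pair is anisotropic. -/
theorem aniso {o o' p : VB} (P : Pair f o o') (h : f p o = 0) (h' : f p o' = 0) (hp : p ≠ 0) : f p p ≠ 0 := by
  intro hpp
  obtain ⟨c, rfl⟩ := dependent S P.oo hpp (by rw [S.symm]; exact h) (Pair.ne S P)
  rw [lsmul S.H, S.symm o' o, P.o'o, mul_one] at h'
  exact hp (by rw [h', zero_smul])

theorem exists_off {o o' : VB} (P : Pair f o o') : ∃ p, f p o = 0 ∧ f p o' = 0 ∧ p ≠ 0 := by
  classical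
  obtain ⟨p, hp, hp0⟩ := Submodule.exists_mem_ne_zero_of_ne_bot
    (p := S.H.perp (Submodule.span F (({o, o'} : Finset VB) : Set VB))) fun e => by
      have h1 := S.H.finrank_perp (Submodule.span F (({o, o'} : Finset VB) : Set VB))
      have h3 := finrank_span_finset_le_card (R := F) ({o, o'} : Finset VB)
      have h4 : ({o, o'} : Finset VB).card ≤ 2 := (Finset.card_insert_le _ _).trans (by simp)
      rw [e, finrank_bot, Fintype.card_fin] at h1
      simp only [Set.finrank] at h3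
      omega
  exact ⟨p, hp _ (Submodule.subset_span (by simp)), hp _ (Submodule.subset_span (by simp)), hp0⟩

/-- Decomposition along a pair. -/
theorem split {o o' : VB} (P : Pair f o o') (x : VB) :
    f (x - f x o' • o - f x o • o') o = 0 ∧ f (x - f x o' • o - f x o • o') o' = 0 := by
  constructor <;> simp only [lsub S.H, lsmul S.H, P.oo, P.o'o', P.o'o, S.symm o' o] <;> ring

theorem ne_zero_half (k : F) (hk : k ≠ 0) : 2⁻¹ * k ≠ 0 := mul_ne_zero (inv_ne_zero S.h2) hk

/-- The third point of a pair and an orthogonal vector. -/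
theorem third {o o' p : VB} (P : Pair f o o') (h : f p o = 0) (h' : f p o' = 0) :
    f (o' + p - (2⁻¹ * f p p) • o) (o' + p - (2⁻¹ * f p p) • o) = 0 := by
  simp only [lsub S.H, rsub S.H, ladd S.H, radd S.H, lsmul S.H, rsmul S.H, P.oo, P.o'o', P.o'o, S.symm o' o,
    S.symm p o, S.symm p o', h, h']
  have := S.h2
  field_simp
  ring

theorem sg_scale {o w : VB} {c : F} {t : GL (Fin 4) F} (ht : Sg f (c • o) w t) : Sg f o (c • w) t := fun x => by
  rw [ht]
  simp only [lsmul S.H, rsmul S.H, smul_smul]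
  match_scalars <;> ring

theorem sg_unique {o w : VB} {t s : GL (Fin 4) F} (ht : Sg f o w t) (hs : Sg f o w s) : t = s :=
  gl_ext_mulVec fun x => by rw [ht, hs]

/-- Composition in a root group. -/
theorem sg_mul {o v w : VB} (ho : f o o = 0) (hv : f v o = 0) (hw : f w o = 0) {s t : GL (Fin 4) F}
    (hs : Sg f o v s) (ht : Sg f o w t) : Sg f o (v + w) (s * t) := fun x => by
  rw [gl_mul_mulVec, ht, hs]
  have := S.h2
  simp only [ladd S.H, lsub S.H, radd S.H, lsmul S.H, ho, hv, hw, S.symm v o, S.symm w o, S.symm v w]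
  match_scalars <;> field_simp <;> ring

theorem sg_shift {o w : VB} (ho : f o o = 0) (hw : f w o = 0) (c : F) {t : GL (Fin 4) F}
    (ht : Sg f o (w + c • o) t) : Sg f o w t := fun x => by
  rw [ht]
  have := S.h2
  simp only [ladd S.H, radd S.H, lsmul S.H, rsmul S.H, ho, hw, S.symm w o]
  match_scalars <;> field_simp <;> ring

theorem sg_one {o : VB} : Sg f o 0 (1 : GL (Fin 4) F) := fun x => by
  simp [rzero S.H, lzero S.H]

theorem mem_sgen {o w : VB} (ho : f o o = 0) (hw : f w o = 0) {t : GL (Fin 4) F} (ht : Sg f o w t) : t ∈ SGen f :=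
  Subgroup.subset_closure ⟨o, w, ho, hw, ht⟩

/-- Root groups are transitive on the other points. -/
theorem exists_move {o o' o'' : VB} (ho : f o o = 0) (h' : f o' o' = 0) (h'' : f o'' o'' = 0) (e' : f o' o = 1)
    (e'' : f o'' o = 1) : ∃ t ∈ SGen f, t •ᵥ o = o ∧ t •ᵥ o' = o'' := by
  have hw : f (o'' - o') o = 0 := by rw [lsub S.H, e', e'', sub_self]
  obtain ⟨t, ht, htS⟩ := exists_sg' S.H S.h2 ho hw
  refine ⟨t, htS, sg_fix S.H ho hw ht, ?_⟩
  rw [ht, e']
  simp only [lsub S.H, rsub S.H, h', h'', S.symm o' o'']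
  have := S.h2
  match_scalars <;> field_simp <;> ring

/-- Transitivity on singular lines. -/
theorem exists_map {o o₁ : VB} (ho0 : o ≠ 0) (ho : f o o = 0) (h0 : o₁ ≠ 0) (h1 : f o₁ o₁ = 0) :
    ∃ t ∈ SGen f, ∃ c : F, c ≠ 0 ∧ t •ᵥ o = c • o₁ := by
  -- two points not orthogonal to a third
  have key : ∀ {a b : VB}, a ≠ 0 → f a a = 0 → f b b = 0 → ∀ {z : VB}, f z z = 0 → f a z ≠ 0 → f b z ≠ 0 →
      ∃ t ∈ SGen f, ∃ c : F, c ≠ 0 ∧ t •ᵥ a = c • b := by
    intro a b ha0 ha hb z hz haz hbz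
    obtain ⟨t, ht, -, e⟩ := exists_move S (o := z) (o' := (f a z)⁻¹ • a) (o'' := (f b z)⁻¹ • b) hz
      (by rw [lsmul S.H, rsmul S.H, ha, mul_zero, mul_zero]) (by rw [lsmul S.H, rsmul S.H, hb, mul_zero, mul_zero])
      (by rw [lsmul S.H, inv_mul_cancel₀ haz]) (by rw [lsmul S.H, inv_mul_cancel₀ hbz])
    refine ⟨t, ht, f a z * (f b z)⁻¹, mul_ne_zero haz (inv_ne_zero hbz), ?_⟩
    rw [Matrix.mulVec_smul, inv_smul_eq_iff₀ haz, smul_smul] at e
    exact e
  obtain ⟨o', P⟩ := exists_pair_of S ho0 ho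
  obtain ⟨p, hp, hp', hp0⟩ := exists_off S P
  have hk := aniso S P hp hp' hp0
  have hz := third S P hp hp'
  have hoz : f o (o' + p - (2⁻¹ * f p p) • o) = 1 := by
    simp only [rsub S.H, radd S.H, rsmul S.H, ho, S.symm o' o, P.o'o, S.symm p o, hp]; ring
  by_cases h2 : f o₁ o' = 0
  · obtain ⟨c, rfl⟩ := dependent S P.o'o' h1 (by rw [S.symm]; exact h2) (Pair.ne S (Pair.swap S P))
    have hc : c ≠ 0 := fun h => h0 (by rw [h, zero_smul])
    refine key ho0 ho h1 hz (by rw [hoz]; exact one_ne_zero) ?_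
    simp only [lsmul S.H, rsub S.H, radd S.H, rsmul S.H, P.o'o', P.o'o, S.symm p o', hp']
    simpa using mul_ne_zero hc (ne_zero_half S _ hk)
  · exact key ho0 ho h1 P.o'o' (by rw [S.symm o' o, P.o'o]; exact one_ne_zero) h2

/-- A matrix keeping every singular line is scalar. -/
theorem scalar_of_lines (M : MB) (h : ∀ o, f o o = 0 → ∃ c : F, M *ᵥ o = c • o) : ∃ c : F, M = c • 1 := by
  obtain ⟨o, o', P⟩ := exists_pair S
  obtain ⟨a, ha⟩ := h o P.oo
  obtain ⟨b, hb⟩ := h o' P.o'o'
  have hP : ∀ p, f p o = 0 → f p o' = 0 → p ≠ 0 → a = b ∧ M *ᵥ p = a • p := by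
    intro p hp hp' hp0
    have hk := aniso S P hp hp' hp0
    obtain ⟨c, hc⟩ := h _ (third S P hp hp')
    obtain ⟨d, hd⟩ := h _ (third S P (p := -p) (by rw [lneg S.H, hp, neg_zero]) (by rw [lneg S.H, hp', neg_zero]))
    have hpp : f (-p) (-p) = f p p := by rw [lneg S.H, rneg S.H, neg_neg]
    rw [hpp] at hd
    simp only [Matrix.mulVec_sub, Matrix.mulVec_add, Matrix.mulVec_smul, Matrix.mulVec_neg, ha, hb] at hc hd
    have hz : (2 * b - (c + d)) • o' - (c - d) • p + (2⁻¹ * f p p * (c + d - 2 * a)) • o = 0 := by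
      have e := congrArg₂ (· + ·) hc hd
      rw [← sub_eq_zero] at e
      rw [← e]
      module
    have e1 := congrArg (fun z => f z o) hz
    have e2 := congrArg (fun z => f z p) hz
    have e3 := congrArg (fun z => f z o') hz
    simp only [ladd S.H, lsub S.H, lsmul S.H, P.oo, P.o'o', P.o'o, S.symm o' o, hp, hp', S.symm p o, S.symm p o',
      lzero S.H, mul_zero, mul_one, sub_zero, add_zero, zero_add, zero_sub, neg_eq_zero, mul_eq_zero] at e1 e2 e3
    have hcd : c = d := sub_eq_zero.mp (e2.resolve_right hk)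
    subst hcd
    have hcb : b = c := mul_left_cancel₀ S.h2 (by linear_combination e1)
    have hac : a = c := by
      rcases e3 with h3 | h3
      · exact absurd h3 (not_or.mpr ⟨inv_ne_zero S.h2, hk⟩)
      · exact mul_left_cancel₀ S.h2 (by linear_combination -h3)
    subst hcb hac
    refine ⟨rfl, ?_⟩
    rw [← sub_eq_zero]
    rw [← sub_eq_zero] at hc
    rw [← hc]
    module
  obtain ⟨p, hp, hp', hp0⟩ := exists_off S P
  obtain ⟨rfl, -⟩ := hP p hp hp' hp0
  refine ⟨a, Matrix.ext_iff_mulVec.mpr fun x => ?_⟩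
  rw [Matrix.smul_mulVec, Matrix.one_mulVec]
  obtain ⟨hs, hs'⟩ := split S P x
  have e : x = (x - f x o' • o - f x o • o') + f x o' • o + f x o • o' := by abel
  have hm : M *ᵥ (x - f x o' • o - f x o • o') = a • (x - f x o' • o - f x o • o') := by
    by_cases h0 : x - f x o' • o - f x o • o' = 0
    · rw [h0, Matrix.mulVec_zero, smul_zero]
    · exact (hP _ hs hs' h0).2
  conv_lhs => rw [e]
  rw [Matrix.mulVec_add, Matrix.mulVec_add, Matrix.mulVec_smul, Matrix.mulVec_smul, ha, hb, hm]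
  module

/-- A matrix commuting with the group is scalar. -/
theorem scalar_of_commute (M : MB) (h : ∀ t ∈ SGen f, M * (t : MB) = (t : MB) * M) : ∃ c : F, M = c • 1 := by
  refine scalar_of_lines S M fun o ho => ?_
  by_cases ho0 : o = 0
  · exact ⟨0, by rw [ho0, Matrix.mulVec_zero, zero_smul]⟩
  obtain ⟨o', P⟩ := exists_pair_of S ho0 ho
  obtain ⟨p, hp, hp', hp0⟩ := exists_off S P
  have hk := aniso S P hp hp' hp0
  obtain ⟨z, hz⟩ : ∃ z, z = M *ᵥ o := ⟨_, rfl⟩
  have key : ∀ w, f w o = 0 → f z o • w - (2⁻¹ * f w w * f z o + f z w) • o = 0 := fun w hw => by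
    obtain ⟨t, ht, htS⟩ := exists_sg' S.H S.h2 ho hw
    have e := congrArg (fun N : MB => N *ᵥ o) (h t htS)
    simp only [← Matrix.mulVec_mulVec, sg_fix S.H ho hw ht, ← hz, ht z] at e
    rw [eq_comm, ← sub_eq_zero] at e
    rw [← e]
    abel
  have hzo : f z o = 0 := by
    have e := congrArg (fun v => f v p) (key p hp)
    simp only [lsub S.H, lsmul S.H, S.symm p o, hp, lzero S.H, mul_zero, sub_zero, mul_eq_zero] at e
    exact e.resolve_right hk
  have hw : ∀ w, f w o = 0 → f z w = 0 := fun w hw => by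
    have e := congrArg (fun v => f v o') (key w hw)
    simp only [lsub S.H, lsmul S.H, hzo, mul_zero, zero_mul, zero_add, zero_sub, neg_eq_zero, S.symm o' o, P.o'o,
      mul_one, lzero S.H] at e
    exact e
  refine ⟨f z o', hz ▸ ext_left S.H fun x => ?_⟩
  have h3 := hw (x - f x o • o') (by rw [lsub S.H, lsmul S.H, P.o'o, mul_one, sub_self])
  rw [rsub S.H, rsmul S.H, sub_eq_zero] at h3
  rw [lsmul S.H, h3, S.symm x o, mul_comm]

/-- An invariant subspace is trivial. -/
theorem irreducible {U : Submodule F VB} (hU : U ≠ ⊥) (h : ∀ t ∈ SGen f, ∀ x ∈ U, t •ᵥ x ∈ U) : U = ⊤ := by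
  obtain ⟨x, hx, hx0⟩ := Submodule.exists_mem_ne_zero_of_ne_bot hU
  -- some singular vector is not orthogonal to `x`
  obtain ⟨o, ho0, ho, hxo⟩ : ∃ o, o ≠ 0 ∧ f o o = 0 ∧ f x o ≠ 0 := by
    by_contra hcon
    push Not at hcon
    obtain ⟨o, o', P⟩ := exists_pair S
    refine hx0 (ext_left S.H fun y => ?_)
    obtain ⟨hs, hs'⟩ := split S P y
    have h1 := hcon o (Pair.ne S P) P.oo
    have h2 := hcon o' (Pair.ne S (Pair.swap S P)) P.o'o'
    have h3 : f x (y - f y o' • o - f y o • o') = 0 := by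
      by_cases h0 : y - f y o' • o - f y o • o' = 0
      · rw [h0, rzero S.H]
      have h4 := hcon _ (fun e => by
        have := congrArg (fun v => f v o) e
        simp only [lsub S.H, ladd S.H, lsmul S.H, P.o'o, P.oo, lzero S.H, mul_zero, mul_one, sub_self, add_zero, sub_zero] at this
        exact one_ne_zero this) (third S P hs hs')
      rwa [rsub S.H, radd S.H, rsmul S.H, h1, h2, mul_zero, sub_zero, zero_add] at h4
    rwa [rsub S.H, rsub S.H, rsmul S.H, rsmul S.H, h1, h2, mul_zero, mul_zero, sub_zero, sub_zero,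
      ← lzero S.H y] at h3
  obtain ⟨o', P⟩ := exists_pair_of S ho0 ho
  obtain ⟨p, hp, hp', hp0⟩ := exists_off S P
  have hk := aniso S P hp hp' hp0
  have hoU : o ∈ U := by
    obtain ⟨t, ht, htS⟩ := exists_sg' S.H S.h2 ho hp
    obtain ⟨s, hs, hsS⟩ := exists_sg' S.H S.h2 ho (w := -p) (by rw [lneg S.H, hp, neg_zero])
    have e : (f p p * f x o) • o = -((t •ᵥ x - x) + (s •ᵥ x - x)) := by
      rw [ht, hs]
      simp only [lneg S.H, rneg S.H, neg_neg]
      have := S.h2
      match_scalars <;> field_simp <;> ring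
    have hm : (f p p * f x o) • o ∈ U :=
      e ▸ U.neg_mem (U.add_mem (U.sub_mem (h t htS x hx) hx) (U.sub_mem (h s hsS x hx) hx))
    exact (Submodule.smul_mem_iff _ (mul_ne_zero hk hxo)).mp hm
  have hall : ∀ u, f u u = 0 → u ∈ U := fun u hu => by
    by_cases hu0 : u = 0
    · rw [hu0]; exact zero_mem _
    obtain ⟨t, ht, c, hc, e⟩ := exists_map S ho0 ho hu0 hu
    exact (Submodule.smul_mem_iff _ hc).mp (e ▸ h t ht o hoU)
  refine eq_top_iff.mpr fun y _ => ?_
  obtain ⟨hs, hs'⟩ := split S P y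
  have h1 := hall _ P.oo
  have h2 := hall _ P.o'o'
  have h3 := hall _ (third S P hs hs')
  rw [show y = (o' + (y - f y o' • o - f y o • o') -
      (2⁻¹ * f (y - f y o' • o - f y o • o') (y - f y o' • o - f y o • o')) • o) - o' +
      (2⁻¹ * f (y - f y o' • o - f y o • o') (y - f y o' • o - f y o • o')) • o + f y o' • o + f y o • o' by abel]
  exact U.add_mem (U.add_mem (U.add_mem (U.sub_mem h3 h2) (U.smul_mem _ h1)) (U.smul_mem _ h1)) (U.smul_mem _ h2)

end Cfsg.Agent.Classical.TThreeFour
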