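import Cfsg.Agent.Lib.Classical.TensorThreeFour.Blocks

/-!
# An element supported in one block gives all root elements of a hyperbolic pair
-/

set_option autoImplicit false
set_option linter.unusedSectionVars false

namespace Cfsg.Agent.Classical.TThreeFour

open Matrix Module Cfsg.Geo
open Cfsg.Agent.Classical Cfsg.Agent.Classical.TensorMax Cfsg.Agent.Classical.TensorMax.Form
open Cfsg.Agent.Classical.TensorMax.OO
open scoped Kronecker

variable {F : Type*} [Field F] [Fintype F] {fb : (Fin 4 → F) → (Fin 4 → F) → F}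
variable {X : Subgroup (GL (Fin 3 × Fin 4) F)}

local notation "VA" => Fin 3 → F
local notation "VB" => Fin 4 → F
local notation "M3" => Matrix (Fin 3) (Fin 3) F
local notation "MB" => Matrix (Fin 4) (Fin 4) F
local notation "κ" => Fin 3 × Fin 4
local notation:max g:max " ⬝ₘ " x:max =>
  ((g : GL (Fin 3 × Fin 4) F) : Matrix (Fin 3 × Fin 4) (Fin 3 × Fin 4) F) *ᵥ x
local notation "τ" => tf (RingEquiv.refl F) (dot F) fb

/-- The group contains the root element of `p` and `y`. -/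
def Par (fb : (Fin 4 → F) → (Fin 4 → F) → F) (X : Subgroup (GL (Fin 3 × Fin 4) F))
    (p y : Fin 3 × Fin 4 → F) : Prop :=
  ∃ g ∈ X, ∀ x, (g : Matrix (Fin 3 × Fin 4) (Fin 3 × Fin 4) F) *ᵥ x =
    x + tf (RingEquiv.refl F) (dot F) fb x p • y -
      (tf (RingEquiv.refl F) (dot F) fb x y +
        2⁻¹ * tf (RingEquiv.refl F) (dot F) fb y y * tf (RingEquiv.refl F) (dot F) fb x p) • p

/-- The group contains the radical of a singular vector. -/
def Rad (fb : (Fin 4 → F) → (Fin 4 → F) → F) (X : Subgroup (GL (Fin 3 × Fin 4) F)) (p : Fin 3 × Fin 4 → F) : Prop :=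
  tf (RingEquiv.refl F) (dot F) fb p p = 0 ∧ ∀ y, tf (RingEquiv.refl F) (dot F) fb p y = 0 → Par fb X p y

/-- The group contains two non-orthogonal radicals. -/
def Full (fb : (Fin 4 → F) → (Fin 4 → F) → F) (X : Subgroup (GL (Fin 3 × Fin 4) F)) : Prop :=
  ∃ p p', tf (RingEquiv.refl F) (dot F) fb p p' ≠ 0 ∧ Rad fb X p ∧ Rad fb X p'

variable (C : Ctx fb X)

include C

theorem Ctx.tH : IsReflexForm (RingEquiv.refl F) 1 τ := one_mul (1 : F) ▸ reflex C.data

theorem par_zero (p : κ → F) : Par fb X p 0 :=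
  ⟨1, one_mem _, fun x => by simp [C.tH.zero_right, C.tH.zero_left]⟩

theorem par_add {p y y' : κ → F} (hp : τ p p = 0) (hy : τ p y = 0) (hy' : τ p y' = 0) (h : Par fb X p y)
    (h' : Par fb X p y') : Par fb X p (y + y') := by
  obtain ⟨g, hg, hgx⟩ := h
  obtain ⟨g', hg', hgx'⟩ := h'
  refine ⟨g * g', mul_mem hg hg', fun x => ?_⟩
  rw [gl_mul_mulVec, hgx', hgx]
  have := C.S.h2
  simp only [ladd C.tH, lsub C.tH, radd C.tH, lsmul C.tH, hp, hy, symm' C.tH p y', hy', symm' C.tH y y']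
  match_scalars <;> field_simp <;> ring

theorem par_swap {p y : κ → F} (hp : τ p p = 0) (hpy : τ p y = 0) (hy : τ y y = 0) (h : Par fb X p y) :
    Par fb X y p := by
  obtain ⟨g, hg, hgx⟩ := h
  refine ⟨g⁻¹, inv_mem hg, fun x => ?_⟩
  have := C.S.h2
  conv_rhs => rw [← gl_inv_mulVec_cancel g (x + τ x y • p - (τ x p + 2⁻¹ * τ p p * τ x y) • y)]
  refine congrArg (fun z => g⁻¹ ⬝ₘ z) ?_
  rw [hgx]
  simp only [ladd C.tH, lsub C.tH, lsmul C.tH, hp, hy, hpy, symm' C.tH p y]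
  match_scalars <;> field_simp <;> ring

theorem par_conj {g : GL κ F} (hg : g ∈ X) {p y : κ → F} (h : Par fb X p y) :
    Par fb X (g ⬝ₘ p) (g ⬝ₘ y) := by
  obtain ⟨e, he, hex⟩ := h
  refine ⟨g * e * g⁻¹, mul_mem (mul_mem hg he) (inv_mem hg), fun x => ?_⟩
  obtain ⟨z, rfl⟩ : ∃ z, x = g ⬝ₘ z := ⟨_, (gl_mulVec_inv_cancel g x).symm⟩
  rw [gl_mul_mulVec, gl_mul_mulVec, gl_inv_mulVec_cancel, hex]
  simp only [Matrix.mulVec_sub, Matrix.mulVec_add, Matrix.mulVec_smul, C.iso g hg]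

/-- A second direction in the plane orthogonal to a vector. -/
theorem exists_turned {u r : VA} (hu : u ⬝ᵥ u ≠ 0) (hr : r ⬝ᵥ r ≠ 0) (hur : u ⬝ᵥ r = 0) :
    ∃ ρ ∈ Rot F, (ρ : M3) *ᵥ u = u ∧ ∀ a : VA, ∃ i j k : F, a = i • u + j • r + k • ((ρ : M3) *ᵥ r) := by
  obtain ⟨r', P⟩ : ∃ r', Frame u r r' := ⟨_, frame_of_perp hu hr hur⟩
  obtain ⟨t, ht0, hx⟩ : ∃ t : F, t ≠ 0 ∧ r ⬝ᵥ r + t ^ 2 * (r' ⬝ᵥ r') ≠ 0 := by
    obtain ⟨a, ha0, ha⟩ := exists_sq_ne_one C.S.q5
    by_cases h : r ⬝ᵥ r + (1 : F) ^ 2 * (r' ⬝ᵥ r') = 0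
    · refine ⟨a, ha0, fun h' => ha ?_⟩
      refine mul_right_cancel₀ P.ww ?_
      linear_combination h' - h
    · exact ⟨1, one_ne_zero, h⟩
  obtain ⟨x, hxd⟩ : ∃ x, x = r + t • r' := ⟨_, rfl⟩
  have hxx : x ⬝ᵥ x = r ⬝ᵥ r + t ^ 2 * (r' ⬝ᵥ r') := by
    simp only [hxd, add_dotProduct, dotProduct_add, smul_dotProduct, dotProduct_smul, smul_eq_mul, P.vw,
      dotProduct_comm r' r]
    ring
  have hux : u ⬝ᵥ x = 0 := by rw [hxd, dotProduct_add, dotProduct_smul, hur, P.uw, smul_zero, add_zero]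
  refine ⟨rr x * rr r, Subgroup.subset_closure ⟨x, r, hxx ▸ hx, hr, rfl⟩, ?_, fun a => ?_⟩
  · rw [Units.val_mul, ← Matrix.mulVec_mulVec, rr_perp (u := r) (x := u) (by rw [dotProduct_comm, hur]),
      rr_perp (u := x) (x := u) (by rw [dotProduct_comm, hux])]
  · obtain ⟨m, hm⟩ : ∃ m, m = 2 * ((x ⬝ᵥ x)⁻¹ * (x ⬝ᵥ r)) := ⟨_, rfl⟩
    have hρ : ((rr x * rr r : GL (Fin 3) F) : M3) *ᵥ r = (m - 1) • r + (m * t) • r' := by
      rw [Units.val_mul, ← Matrix.mulVec_mulVec, rr_self hr, Matrix.mulVec_neg, rr_apply, ← hm, hxd]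
      module
    have hm0 : m * t ≠ 0 := by
      have hxr : x ⬝ᵥ r = r ⬝ᵥ r := by
        rw [hxd, add_dotProduct, smul_dotProduct, dotProduct_comm r' r, P.vw, smul_zero, add_zero]
      rw [hm, hxr]
      exact mul_ne_zero (mul_ne_zero C.S.h2 (mul_ne_zero (inv_ne_zero (hxx ▸ hx)) hr)) ht0
    obtain ⟨k, hk⟩ : ∃ k, k = (m * t)⁻¹ * ((r' ⬝ᵥ r')⁻¹ * (r' ⬝ᵥ a)) := ⟨_, rfl⟩
    refine ⟨(u ⬝ᵥ u)⁻¹ * (u ⬝ᵥ a), (r ⬝ᵥ r)⁻¹ * (r ⬝ᵥ a) - k * (m - 1), k, ?_⟩
    have e : a = pr u *ᵥ a + pr r *ᵥ a + pr r' *ᵥ a := by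
      rw [← Matrix.add_mulVec, ← Matrix.add_mulVec, P.resolution, Matrix.one_mulVec]
    conv_lhs => rw [e, pr_apply, pr_apply, pr_apply]
    have hk' : k * (m * t) = (r' ⬝ᵥ r')⁻¹ * (r' ⬝ᵥ a) := by
      rw [hk, mul_comm, ← mul_assoc, mul_inv_cancel₀ hm0, one_mul]
    rw [hρ, ← hk']
    module

/-- An element supported in one block, not scalar there, gives everything. -/
theorem full_of_single {u : VA} (hu : u ⬝ᵥ u ≠ 0) {t : GL (Fin 4) F} (hg : blk u t ∈ X)
    (hns : ∀ c : F, (t : MB) ≠ c • 1) : Full fb X := by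
  have S := C.S
  have h2 := S.h2
  have hiso : ∀ x y, fb ((t : MB) *ᵥ x) ((t : MB) *ᵥ y) = 1 * fb x y := fun x y => by
    rw [C.iso_block hg hu hu (blk_self hu t), inv_mul_cancel₀ hu]
  -- the commutators
  have hcomm : ∀ l ∈ SGen fb, t * l * t⁻¹ * l⁻¹ ∈ SGen fb ∧ blk u (t * l * t⁻¹ * l⁻¹) ∈ X := fun l hl => by
    refine ⟨mul_mem (sgen_conj S.H h2 one_ne_zero hiso hl) (inv_mem hl), ?_⟩
    have e : blk u (t * l * t⁻¹ * l⁻¹) = blk u t * (kr 1 l * blk u t⁻¹ * (kr 1 l)⁻¹) := by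
      rw [conj_blk orth_one, Units.val_one, Matrix.one_mulVec, ← map_mul]
      group
    rw [e]
    exact mul_mem hg (mul_mem (mul_mem (C.small l hl) (by rw [map_inv]; exact inv_mem hg)) (inv_mem (C.small l hl)))
  obtain ⟨l, hl, hlns⟩ : ∃ l ∈ SGen fb, ∀ c : F, ((t * l * t⁻¹ * l⁻¹ : GL (Fin 4) F) : MB) ≠ c • 1 := by
    by_contra hcon
    push Not at hcon
    have hz : ∀ a ∈ SGen fb, ∀ z : GL (Fin 4) F, Commute (t * a * t⁻¹ * a⁻¹) z := fun a ha z => by
      obtain ⟨c, hc⟩ := hcon a ha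
      refine Units.ext ?_
      show ((t * a * t⁻¹ * a⁻¹ : GL (Fin 4) F) : MB) * (z : MB) = (z : MB) * ((t * a * t⁻¹ * a⁻¹ : GL (Fin 4) F) : MB)
      rw [hc, Matrix.smul_mul, Matrix.mul_smul, one_mul, mul_one]
    have h := ratio_trivial S (fun a => t * a * t⁻¹) (fun a => a) (fun a _ b _ => by group) (fun a _ b _ => rfl)
      (fun a ha b _ => hz a ha b) (fun a ha b _ => hz a ha _)
    obtain ⟨c, hc⟩ := scalar_of_commute S (t : MB) fun a ha => by
      have := congrArg Units.val (mul_inv_eq_iff_eq_mul.mp (h a ha))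
      simpa only [Units.val_mul] using this
    exact hns c hc
  -- the whole group of one block
  obtain ⟨N, hN⟩ : ∃ N, N = SGen fb ⊓ X.comap (blk u) := ⟨_, rfl⟩
  have hfull : SGen fb ≤ N := normal_top S N (hN ▸ inf_le_left) (fun a ha x hx => by
    rw [hN] at hx ⊢
    refine Subgroup.mem_inf.mpr ⟨mul_mem (mul_mem ha hx.1) (inv_mem ha), ?_⟩
    show blk u (a * x * a⁻¹) ∈ X
    have := conj_blk (s := (1 : GL (Fin 3) F)) orth_one a x u
    rw [Units.val_one, Matrix.one_mulVec] at this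
    rw [← this]
    exact mul_mem (mul_mem (C.small a ha) hx.2) (inv_mem (C.small a ha))) (hN ▸ ⟨(hcomm l hl).1, (hcomm l hl).2⟩)
    hlns
  have hblk : ∀ w : VA, w ⬝ᵥ w = u ⬝ᵥ u → ∀ a ∈ SGen fb, blk w a ∈ X := fun w hw a ha => by
    obtain ⟨s, hs, hsu⟩ := exists_rot h2 hw hu
    have := conj_blk (orth_rot hs) 1 a u
    rw [one_mul, inv_one, mul_one, hsu] at this
    rw [← this]
    exact mul_mem (mul_mem (C.rot s hs) (hN ▸ hfull ha).2) (inv_mem (C.rot s hs))
  -- the radical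
  have radical : ∀ o : VB, o ≠ 0 → fb o o = 0 → Rad fb X (tm u o) := by
    intro o ho0 ho
    have hp : τ (tm u o) (tm u o) = 0 := by rw [C.tt, ho, mul_zero]
    have base : ∀ b : VB, fb b o = 0 → Par fb X (tm u o) (tm u b) := fun b hb => by
      have hw : fb ((u ⬝ᵥ u) • b) o = 0 := by rw [lsmul S.H, hb, mul_zero]
      obtain ⟨s, hs, hsS⟩ := exists_sg' S.H h2 ho hw
      refine ⟨_, hblk u rfl s hsS, fun x => ?_⟩
      have hlin : ∀ (a : VA) (c : VB), (blk u s) ⬝ₘ (tm a c) = tm a c + τ (tm a c) (tm u o) • tm u b -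
          (τ (tm a c) (tm u b) + 2⁻¹ * τ (tm u b) (tm u b) * τ (tm a c) (tm u o)) • tm u o := fun a c => by
        rw [blk_tm, hs, pr_apply, tm_smul_left]
        simp only [C.tt, lsmul S.H, rsmul S.H, dotProduct_comm a u, tm_add_right, tm_sub_right, tm_smul_right]
        match_scalars <;> field_simp <;> ring
      rw [Form.sum_rows x, Matrix.mulVec_sum]
      simp only [hlin, C.tH.sum_left, Finset.sum_add_distrib, Finset.sum_sub_distrib, ← Finset.sum_smul,
        Finset.mul_sum]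
    -- blocks along `o`
    obtain ⟨o', P⟩ := exists_pair_of S ho0 ho
    obtain ⟨b₀, hb, hb', hb0⟩ := exists_off S P
    have hk := aniso S P hb hb' hb0
    have side : ∀ w : VA, w ⬝ᵥ w = u ⬝ᵥ u → w ⬝ᵥ u ≠ 0 → ∀ c : F, Par fb X (tm u o) (tm (c • w) o) := by
      intro w hw hwu c
      have hww : w ⬝ᵥ w ≠ 0 := hw ▸ hu
      obtain ⟨m, hm⟩ : ∃ m, m = -((w ⬝ᵥ w) * c * (w ⬝ᵥ u)⁻¹ * (fb b₀ b₀)⁻¹) := ⟨_, rfl⟩
      have hmb : fb (m • b₀) o = 0 := by rw [lsmul S.H, hb, mul_zero]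
      obtain ⟨s, hs, hsS⟩ := exists_sg' S.H h2 ho hmb
      have h1 := par_conj C (hblk w hw s hsS) (base b₀ hb)
      have e1 : (blk w s) ⬝ₘ (tm u o) = tm u o := by
        rw [blk_tm, sg_fix S.H ho hmb hs, sub_self, tm_zero_right, add_zero]
      have e2 : (blk w s) ⬝ₘ (tm u b₀) = tm u b₀ + tm (c • w) o := by
        rw [blk_tm, hs, pr_apply]
        simp only [rsmul S.H, hb, hm, zero_smul, add_zero, mul_zero, zero_add, tm_smul_left, tm_sub_right,
          tm_smul_right, sub_self, zero_sub]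
        match_scalars <;> field_simp <;> ring
      rw [e1, e2] at h1
      have e3 : Par fb X (tm u o) (tm u (-b₀)) := base _ (by rw [lneg S.H, hb, neg_zero])
      have := par_add C hp (y := tm u b₀ + tm (c • w) o) (y' := tm u (-b₀))
        (by rw [radd C.tH, C.tt, C.tt, ho, S.symm b₀ o, hb, mul_zero, mul_zero, add_zero])
        (by rw [C.tt, rneg S.H, S.symm b₀ o, hb, neg_zero, mul_zero]) h1 e3
      rwa [show tm u b₀ + tm (c • w) o + tm u (-b₀) = tm (c • w) o by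
        rw [← neg_one_smul F b₀, tm_smul_right, neg_one_smul]; abel] at this
    have line : ∀ c : F, Par fb X (tm u o) (tm (c • u) o) := fun c => side u rfl hu c
    -- a vector outside the line and its orthogonal
    obtain ⟨a, ha0, ha⟩ := exists_sq_ne_one S.q5
    obtain ⟨v, v', P'⟩ := exists_frame h2 hu
    obtain ⟨i, j, hij⟩ := exists_norm h2 P'.vv P'.ww ((1 - a ^ 2) * (u ⬝ᵥ u))
    obtain ⟨r, hr⟩ : ∃ r, r = i • v + j • v' := ⟨_, rfl⟩
    have hur : u ⬝ᵥ r = 0 := by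
      rw [hr, dotProduct_add, dotProduct_smul, dotProduct_smul, P'.uv, P'.uw, smul_zero, smul_zero, add_zero]
    have hrr : r ⬝ᵥ r = (1 - a ^ 2) * (u ⬝ᵥ u) := by
      rw [← hij, hr]
      simp only [add_dotProduct, dotProduct_add, smul_dotProduct, dotProduct_smul, smul_eq_mul, P'.vw,
        dotProduct_comm v' v]
      ring
    have hrr0 : r ⬝ᵥ r ≠ 0 := hrr ▸ mul_ne_zero (sub_ne_zero.mpr (Ne.symm ha)) hu
    have hw : (a • u + r) ⬝ᵥ (a • u + r) = u ⬝ᵥ u := by
      simp only [add_dotProduct, dotProduct_add, smul_dotProduct, dotProduct_smul, smul_eq_mul, hur,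
        dotProduct_comm r u, hrr]
      ring
    have hwu : (a • u + r) ⬝ᵥ u ≠ 0 := by
      rw [add_dotProduct, smul_dotProduct, dotProduct_comm r u, hur, add_zero, smul_eq_mul]
      exact mul_ne_zero ha0 hu
    have po : ∀ d : VA, τ (tm u o) (tm d o) = 0 := fun d => by rw [C.tt, ho, mul_zero]
    have hrl : ∀ c : F, Par fb X (tm u o) (tm (c • r) o) := fun c => by
      have := par_add C hp (po _) (po _) (side _ hw hwu c) (line (-(c * a)))
      rwa [← tm_add_left, show c • (a • u + r) + -(c * a) • u = c • r by module] at this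
    obtain ⟨ρ, hρ, hρu, hspan⟩ := exists_turned C hu hrr0 hur
    have hall : ∀ d : VA, Par fb X (tm u o) (tm d o) := fun d => by
      obtain ⟨l₁, l₂, l₃, rfl⟩ := hspan d
      rw [tm_add_left, tm_add_left]
      refine par_add C hp (by rw [radd C.tH, po, po, add_zero]) (po _)
        (par_add C hp (po _) (po _) (line l₁) (hrl l₂)) ?_
      have := par_conj C (C.rot ρ hρ) (hrl l₃)
      rwa [kr_tm, kr_tm, Units.val_one, Matrix.one_mulVec, hρu, Matrix.mulVec_smul] at this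
    -- a block in the orthogonal plane
    obtain ⟨i', j', hij'⟩ := exists_norm h2 P'.vv P'.ww (u ⬝ᵥ u)
    obtain ⟨w, hwd⟩ : ∃ w, w = i' • v + j' • v' := ⟨_, rfl⟩
    have huw : u ⬝ᵥ w = 0 := by
      rw [hwd, dotProduct_add, dotProduct_smul, dotProduct_smul, P'.uv, P'.uw, smul_zero, smul_zero, add_zero]
    have hww : w ⬝ᵥ w = u ⬝ᵥ u := by
      rw [← hij', hwd]
      simp only [add_dotProduct, dotProduct_add, smul_dotProduct, dotProduct_smul, smul_eq_mul, P'.vw,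
        dotProduct_comm v' v]
      ring
    have pw : ∀ (c : F) (b : VB), τ (tm u o) (tm (c • w) b) = 0 := fun c b => by
      rw [C.tt, dotProduct_smul, huw, smul_zero, zero_mul]
    have sing : ∀ (c : F) (o₁ : VB), fb o₁ o₁ = 0 → Par fb X (tm u o) (tm (c • w) o₁) := by
      intro c o₁ h1
      by_cases h0 : o₁ = 0
      · rw [h0, tm_zero_right]
        exact par_zero C _
      obtain ⟨s, hs, k, hk0, e⟩ := exists_map S ho0 ho h0 h1
      have h3 := par_conj C (hblk w hww s hs) (par_swap C hp (po _) (by rw [C.tt, ho, mul_zero])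
        (hall ((k⁻¹ * c) • w)))
      rw [blk_perp (u := w) (a := u) (by rw [dotProduct_comm]; exact huw), tm_smul_left, Matrix.mulVec_smul, blk_self (hww ▸ hu), e,
        tm_smul_right, smul_smul, show k⁻¹ * c * k = c by field_simp, ← tm_smul_left] at h3
      exact par_swap C (by rw [C.tt, h1, mul_zero]) (by rw [symm' C.tH]; exact pw c o₁)
        (by rw [C.tt, ho, mul_zero]) h3
    have hwB : ∀ (c : F) (b : VB), Par fb X (tm u o) (tm (c • w) b) := fun c b => by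
      obtain ⟨hs, hs'⟩ := split S P b
      obtain ⟨z, hz⟩ : ∃ z, z = b - fb b o' • o - fb b o • o' := ⟨_, rfl⟩
      rw [← hz] at hs hs'
      have hzz := third S P hs hs'
      have hb_eq : b = (o' + z - (2⁻¹ * fb z z) • o) + (fb b o - 1) • o' + (fb b o' + 2⁻¹ * fb z z) • o := by
        rw [hz]; module
      rw [hb_eq, tm_add_right, tm_add_right]
      exact par_add C hp (by rw [radd C.tH, pw, pw, add_zero]) (pw _ _) (par_add C hp (pw _ _) (pw _ _)
        (sing _ _ hzz) (sing c _ (by rw [lsmul S.H, rsmul S.H, P.o'o', mul_zero, mul_zero])))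
        (sing c _ (by rw [lsmul S.H, rsmul S.H, P.oo, mul_zero, mul_zero]))
    obtain ⟨π, hπ, hπu, hspan'⟩ := exists_turned C hu (hww ▸ hu) huw
    refine ⟨hp, fun y hy => ?_⟩
    -- decomposition of the orthogonal
    obtain ⟨w', hw'⟩ : ∃ w', w' = (π : M3) *ᵥ w := ⟨_, rfl⟩
    have huw' : u ⬝ᵥ w' = 0 := by rw [hw', ← hπu, orth_rot hπ, huw]
    have hw'B : ∀ (c : F) (b : VB), Par fb X (tm u o) (tm (c • w') b) := fun c b => by
      have := par_conj C (C.rot π hπ) (hwB c b)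
      rwa [kr_tm, kr_tm, Units.val_one, Matrix.one_mulVec, Matrix.one_mulVec, hπu, Matrix.mulVec_smul, ← hw'] at this
    choose I J K hIJK using fun i => hspan' (Pi.single i 1 : VA)
    have e : y = tm u (∑ i, I i • row y i) + tm w (∑ i, J i • row y i) + tm w' (∑ i, K i • row y i) := by
      conv_lhs => rw [Form.sum_rows y]
      funext p
      simp only [Finset.sum_apply, Pi.add_apply, tm_apply, Pi.smul_apply, smul_eq_mul, Finset.mul_sum,
        ← Finset.sum_add_distrib, hw']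
      exact Finset.sum_congr rfl fun i _ => by rw [hIJK i]; simp; ring
    rw [e] at hy ⊢
    have q1 : τ (tm u o) (tm w (∑ i, J i • row y i)) = 0 := by rw [C.tt, huw, zero_mul]
    have q2 : τ (tm u o) (tm w' (∑ i, K i • row y i)) = 0 := by rw [C.tt, huw', zero_mul]
    have q0 : τ (tm u o) (tm u (∑ i, I i • row y i)) = 0 := by
      rwa [radd C.tH, radd C.tH, q1, q2, add_zero, add_zero] at hy
    have hb1 : fb (∑ i, I i • row y i) o = 0 := by
      rw [S.symm]
      rw [C.tt] at q0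
      exact (mul_eq_zero.mp q0).resolve_left hu
    refine par_add C hp (by rw [radd C.tH, q0, q1, add_zero]) q2 (par_add C hp q0 q1 (base _ hb1) ?_) ?_
    · simpa using hwB 1 _
    · simpa using hw'B 1 _
  obtain ⟨o, o', P⟩ := exists_pair S
  refine ⟨tm u o, tm u o', ?_, radical o (Pair.ne S P) P.oo, radical o' (Pair.ne S (Pair.swap S P)) P.o'o'⟩
  rw [C.tt, S.symm o' o, P.o'o, mul_one]
  exact hu

end Cfsg.Agent.Classical.TThreeFour
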